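import Mathlib
import Cfsg.Prelude.Def_Local
import Cfsg.Agent.Lib.Cores
import Cfsg.Agent.Helper55.SolvCore

set_option autoImplicit false

namespace Cfsg.Agent.Helper11

open Cfsg Cfsg.Agent.Lib

variable {G : Type*} [Group G]

/-- A divisor of a number that is a power of `p` or prime to `p` is again of this kind. -/
theorem ppow_or_coprime_of_dvd {p a b : ℕ} (hp : p.Prime) (hab : a ∣ b)
    (h : (∃ m : ℕ, b = p ^ m) ∨ b.Coprime p) : (∃ m : ℕ, a = p ^ m) ∨ a.Coprime p := by
  rcases h with ⟨m, rfl⟩ | h
  · obtain ⟨k, -, rfl⟩ := (Nat.dvd_prime_pow hp).mp hab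
    exact Or.inl ⟨k, rfl⟩
  · exact Or.inr (Nat.Coprime.coprime_dvd_left hab h)

/-- For `K' ≤ K` and `H` normal, `|K' : K' ∩ H|` divides `|K : K ∩ H|`. -/
theorem relIndex_dvd_relIndex_of_le_right {H K K' : Subgroup G} [H.Normal] (h : K' ≤ K) :
    H.relIndex K' ∣ H.relIndex K := by
  rw [← Subgroup.relIndex_subgroupOf h]
  exact Subgroup.relIndex_dvd_index_of_normal _ _

/-- `|H| * |K : H| = |K|` for `H ≤ K`. -/
theorem card_mul_relIndex {H K : Subgroup G} (h : H ≤ K) :
    Nat.card H * H.relIndex K = Nat.card K := by
  have := Subgroup.relIndex_mul_relIndex ⊥ H K bot_le h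
  rwa [Subgroup.relIndex_bot_left, Subgroup.relIndex_bot_left] at this

/-- The image of a `p`-solvable group under a surjective homomorphism is `p`-solvable. -/
theorem isPSolvable_of_surjective {H : Type*} [Group H] {p : ℕ} [hp : Fact p.Prime] (f : G →* H)
    (hf : Function.Surjective f) (h : IsPSolvable p G) : IsPSolvable p H := by
  obtain ⟨n, K, h0, hlast, hmono, hnorm, hstep⟩ := h
  refine ⟨n, fun i => (K i).map f, ?_, ?_, ?_, ?_, ?_⟩
  · simp [h0]
  · simp only [hlast]; exact Subgroup.map_top_of_surjective f hf
  · intro i j hij; exact Subgroup.map_mono (hmono hij)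
  · intro i; exact (hnorm i).map f hf
  · intro i
    have hdvd : ((K i.castSucc).map f).relIndex ((K i.succ).map f) ∣ (K i.castSucc).relIndex (K i.succ) := by
      rw [← Subgroup.relIndex_comap]
      exact Subgroup.relIndex_dvd_of_le_left _ (Subgroup.le_comap_map f _)
    have h1 : (∃ m : ℕ, (K i.castSucc).relIndex (K i.succ) = p ^ m) ∨
        ((K i.castSucc).relIndex (K i.succ)).Coprime p := hstep i
    exact ppow_or_coprime_of_dvd hp.out hdvd h1

/-- A quotient of a `p`-solvable group is `p`-solvable. -/
theorem isPSolvable_quotient {p : ℕ} [Fact p.Prime] (N : Subgroup G) [N.Normal]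
    (h : IsPSolvable p G) : IsPSolvable p (G ⧸ N) :=
  isPSolvable_of_surjective (QuotientGroup.mk' N) (QuotientGroup.mk'_surjective N) h

/-- `p`-solvability is invariant under isomorphism. -/
theorem isPSolvable_of_mulEquiv {H : Type*} [Group H] {p : ℕ} [Fact p.Prime] (e : G ≃* H)
    (h : IsPSolvable p G) : IsPSolvable p H :=
  isPSolvable_of_surjective e.toMonoidHom e.surjective h

/-- Key step for Hall–Higman 1.2.3: if `D ⊴ G` has a central `p`-subgroup `E` of index prime to `p`
and `O_{p'}(G) = 1`, then `D` is a `p`-group. -/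
theorem isPGroup_of_central_of_coprime_relIndex [Finite G] {p : ℕ} [hp : Fact p.Prime]
    (hO : pPrimeCore p G = ⊥) (E D : Subgroup G) [hEn : E.Normal] [hDn : D.Normal] (hED : E ≤ D)
    (hE : IsPGroup p E) (hcent : ∀ e ∈ E, ∀ d ∈ D, e * d = d * e)
    (hco : (E.relIndex D).Coprime p) : IsPGroup p D := by
  classical
  -- Schur–Zassenhaus inside D
  have hEcard : ∃ k : ℕ, Nat.card E = p ^ k := IsPGroup.iff_card.mp hE
  obtain ⟨k, hk⟩ := hEcard
  have hcard' : Nat.card (E.subgroupOf D) = p ^ k := by
    rw [← hk]; exact Nat.card_congr (Subgroup.subgroupOfEquivOfLe hED).toEquiv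
  have hcop : (Nat.card (E.subgroupOf D)).Coprime (E.subgroupOf D).index := by
    rw [hcard']
    exact Nat.Coprime.pow_left k hco.symm
  obtain ⟨K', hK'⟩ := Subgroup.exists_right_complement'_of_coprime hcop
  have hK'card : (Nat.card K').Coprime p := by
    rw [← hK'.symm.index_eq_card]; exact hco
  -- all p'-elements of D lie in K'
  have hmemK : ∀ d : D, (orderOf d).Coprime p → d ∈ K' := by
    intro d hd
    obtain ⟨⟨e, k'⟩, hek, -⟩ := hK'.existsUnique d
    have hek' : (e : D) * (k' : D) = d := hek
    -- e central
    have hcomm : Commute (e : D) (k' : D) := by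
      have := hcent (e : D) (Subgroup.mem_subgroupOf.mp e.2) (k' : D) (k' : D).2
      exact Subtype.ext this
    set m := Nat.card K' with hm
    have hk'm : (k' : D) ^ m = 1 := by
      have : k' ^ m = 1 := pow_card_eq_one'
      exact_mod_cast congrArg Subtype.val this
    have hdm : d ^ m = (e : D) ^ m := by
      rw [← hek', hcomm.mul_pow, hk'm, mul_one]
    have he1 : ((e : D) ^ m) ^ orderOf d = 1 := by
      rw [← hdm, ← pow_mul, mul_comm, pow_mul, pow_orderOf_eq_one, one_pow]
    have he2 : (e : D) ^ (p ^ k) = 1 := by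
      have : e ^ (p ^ k) = 1 := by rw [← hcard']; exact pow_card_eq_one'
      exact_mod_cast congrArg Subtype.val this
    have he : (e : D) = 1 := by
      have h1 : orderOf (e : D) ∣ m * orderOf d := by
        apply orderOf_dvd_of_pow_eq_one; rw [pow_mul]; exact he1
      have h2 : orderOf (e : D) ∣ p ^ k := orderOf_dvd_of_pow_eq_one he2
      have h3 : (m * orderOf d).Coprime (p ^ k) :=
        Nat.Coprime.pow_right k (Nat.Coprime.mul_left hK'card hd)
      have := Nat.eq_one_of_dvd_coprimes h3 h1 h2
      exact orderOf_eq_one_iff.mp this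
    rw [← hek', he, one_mul]; exact k'.2
  -- the subgroup generated by the p'-elements of D
  set s : Set G := {a | a ∈ D ∧ (orderOf a).Coprime p} with hs
  have hsK : Subgroup.closure s ≤ K'.map D.subtype := by
    rw [Subgroup.closure_le]
    rintro a ⟨haD, hao⟩
    refine ⟨⟨a, haD⟩, hmemK ⟨a, haD⟩ ?_, rfl⟩
    rwa [← Subgroup.orderOf_coe] 
  have hnormal : (Subgroup.closure s).Normal := by
    have hconj : Group.conjugatesOfSet s = s := by
      apply Set.Subset.antisymm
      · intro b hb
        rw [Group.mem_conjugatesOfSet_iff] at hb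
        obtain ⟨a, ha, hab⟩ := hb
        rw [isConj_iff] at hab
        obtain ⟨g, rfl⟩ := hab
        refine ⟨hDn.conj_mem a ha.1 g, ?_⟩
        have : orderOf (g * a * g⁻¹) = orderOf a := by
          have := orderOf_injective (MulAut.conj g).toMonoidHom (MulAut.conj g).injective a
          simpa using this
        rw [this]; exact ha.2
      · exact Group.subset_conjugatesOfSet
    have : Subgroup.normalClosure s = Subgroup.closure s := by
      unfold Subgroup.normalClosure; rw [hconj]
    rw [← this]; exact Subgroup.normalClosure_normal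
  have hcard : (Nat.card ↥(Subgroup.closure s)).Coprime p := by
    have h1 : Nat.card ↥(Subgroup.closure s) ∣ Nat.card ↥(K'.map D.subtype) :=
      Subgroup.card_dvd_of_le hsK
    have h2 : Nat.card ↥(K'.map D.subtype) = Nat.card K' :=
      Subgroup.card_map_of_injective D.subtype_injective
    rw [h2] at h1
    exact Nat.Coprime.coprime_dvd_left h1 hK'card
  have hbot : Subgroup.closure s = ⊥ := by
    have := le_pPrimeCore hnormal hcard
    rw [hO] at this
    exact le_bot_iff.mp this
  apply Cfsg.Agent.Helper55.isPGroup_of_forall_coprime_eq_one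
  intro a ha
  have hmem : (a : G) ∈ Subgroup.closure s :=
    Subgroup.subset_closure ⟨a.2, by rw [Subgroup.orderOf_coe]; exact ha⟩
  rw [hbot, Subgroup.mem_bot] at hmem
  exact Subtype.ext hmem

/-- **Hall–Higman Lemma 1.2.3** (`p`-solvable form): in a finite `p`-solvable group with trivial
`p'`-core, the `p`-core contains its own centralizer. -/
theorem centralizer_pCore_le_of_isPSolvable [Finite G] {p : ℕ} [hp : Fact p.Prime]
    (hsol : IsPSolvable p G) (hO : pPrimeCore p G = ⊥) :
    Subgroup.centralizer (pCore p G : Set G) ≤ pCore p G := by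
  obtain ⟨n, K, h0, hlast, hmono, hnorm, hstep⟩ := hsol
  set P := pCore p G with hP
  set C := Subgroup.centralizer (P : Set G) with hC
  haveI hCn : C.Normal := Subgroup.normal_centralizer
  have hPp : IsPGroup p P := isPGroup_pCore p
  have key : ∀ i : Fin (n + 1), C ⊓ K i ≤ P := by
    intro i
    induction i using Fin.induction with
    | zero => rw [h0]; simp
    | succ i ih =>
      haveI := hnorm i.castSucc
      haveI := hnorm i.succ
      set E := C ⊓ K i.castSucc with hE
      set D := C ⊓ K i.succ with hD
      haveI hEn : E.Normal := Subgroup.normal_inf_normal _ _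
      haveI hDn : D.Normal := Subgroup.normal_inf_normal _ _
      have hKle : K i.castSucc ≤ K i.succ := hmono (Fin.castSucc_le_succ i)
      have hED : E ≤ D := inf_le_inf_left C hKle
      have hEp : IsPGroup p E := hPp.to_le ih
      have hdvd : E.relIndex D ∣ (K i.castSucc).relIndex (K i.succ) := by
        have h1 : E = K i.castSucc ⊓ D := by
          rw [hE, hD, inf_comm C (K i.succ), ← inf_assoc, inf_of_le_left hKle, inf_comm]
        rw [h1, Subgroup.inf_relIndex_right]
        exact relIndex_dvd_relIndex_of_le_right inf_le_right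
      have hDp : IsPGroup p D := by
        rcases ppow_or_coprime_of_dvd hp.out hdvd (hstep i) with ⟨m, hm⟩ | hco
        · obtain ⟨k, hk⟩ := IsPGroup.iff_card.mp hEp
          have := card_mul_relIndex hED
          rw [hk, hm, ← pow_add] at this
          exact IsPGroup.of_card this.symm
        · apply isPGroup_of_central_of_coprime_relIndex hO E D hED hEp _ hco
          intro e he d hd
          have h1 : d ∈ C := hd.1
          have h2 : e ∈ P := ih he
          exact (Subgroup.mem_centralizer_iff.mp h1 e h2)
      exact le_pCore hDn hDp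
  have := key (Fin.last n)
  rwa [hlast, inf_top_eq] at this

end Cfsg.Agent.Helper11
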