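import Mathlib
import Cfsg.Agent.Helper16.DefOneSetup
import Cfsg.Agent.Helper82.McKayP.Singular

/-!
# Piece (GR-b) of the defect-one engine (helper82 / helper16): `N(P)/C(P)` is cyclic of order
dividing `p - 1` for a Sylow `p`-subgroup `P` of order `p`.
-/

set_option autoImplicit false

namespace Cfsg.Agent.Helper11.DefOneGRb

open Cfsg Cfsg.Agent.Helper16 Cfsg.Agent.Helper16.DefOne

universe u

variable {G : Type u} [Group G] [Fintype G] {p : ℕ} [Fact p.Prime] (P : Sylow p G)

/-- `nor P = N(C(P))` normalizes `P` when `|P| = p`. -/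
theorem nor_conj_mem (hP : Nat.card P = p) :
    ∀ n ∈ nor P, ∀ x ∈ (P : Subgroup G), n * x * n⁻¹ ∈ (P : Subgroup G) := by
  intro n hn x hx
  have hp : p.Prime := Fact.out
  by_cases hx1 : x = 1
  · rw [hx1, mul_one, mul_inv_cancel]; exact Subgroup.one_mem _
  · have hox : orderOf x = p := by
      have h1 : orderOf (⟨x, hx⟩ : (P : Subgroup G)) ∣ Nat.card (P : Subgroup G) :=
        orderOf_dvd_natCard _
      rw [Subgroup.orderOf_mk] at h1
      have h2 : Nat.card (P : Subgroup G) = p := hP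
      rw [h2] at h1
      rcases (Nat.dvd_prime hp).1 h1 with h | h
      · exact absurd (orderOf_eq_one_iff.1 h) hx1
      · exact h
    have hz := Cfsg.Agent.Helper82.McKayP.zpowers_eq_sylow p P hP x hx hox
    -- x ∈ C(P)
    have hxC : x ∈ cen P := by
      rw [Subgroup.mem_centralizer_iff]
      intro y hy
      have hy' : y ∈ Subgroup.zpowers x := by rw [hz]; exact hy
      obtain ⟨k, rfl⟩ := Subgroup.mem_zpowers_iff.1 hy'
      exact ((Commute.refl x).zpow_left k).eq
    have hnx : n * x * n⁻¹ ∈ cen P := (Subgroup.mem_normalizer_iff.1 hn x).1 hxC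
    have hnN : n * x * n⁻¹ ∈ Subgroup.normalizer ((P : Subgroup G) : Set G) :=
      Subgroup.centralizer_le_normalizer _ hnx
    exact Cfsg.Agent.Helper82.McKayP.mem_sylow_of_normalizes p P _ hnN
      ((Cfsg.Agent.Helper82.McKayP.orderOf_conj_eq n x).trans hox)

omit [Fintype G] [Fact p.Prime] in
theorem nor_le_normalizer'
    (hnor : ∀ n ∈ nor P, ∀ x ∈ (P : Subgroup G), n * x * n⁻¹ ∈ (P : Subgroup G)) :
    nor P ≤ Subgroup.normalizer ((P : Subgroup G) : Set G) := by
  intro n hn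
  rw [Subgroup.mem_normalizer_iff]
  intro x
  constructor
  · exact hnor n hn x
  · intro hx
    have := hnor n⁻¹ (inv_mem hn) _ hx
    have e : n⁻¹ * (n * x * n⁻¹) * n⁻¹⁻¹ = x := by group
    rwa [e] at this

omit [Fintype G] [Fact p.Prime] in
/-- The quotient `N/C` embeds in `Aut(P)`. -/
theorem exists_quot_equiv'
    (hnor : ∀ n ∈ nor P, ∀ x ∈ (P : Subgroup G), n * x * n⁻¹ ∈ (P : Subgroup G)) :
    ∃ K : Subgroup (MulAut (P : Subgroup G)),
      Nonempty ((↥(nor P) ⧸ (cen P).subgroupOf (nor P)) ≃* K) := by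
  let ρ : ↥(nor P) →* MulAut (P : Subgroup G) :=
    (P : Subgroup G).normalizerMonoidHom.comp (Subgroup.inclusion (nor_le_normalizer' P hnor))
  have hker : ρ.ker = (cen P).subgroupOf (nor P) := by
    ext n
    rw [MonoidHom.mem_ker, MonoidHom.comp_apply, ← MonoidHom.mem_ker,
      Subgroup.normalizerMonoidHom_ker, Subgroup.mem_subgroupOf, Subgroup.mem_subgroupOf]
    rfl
  exact ⟨ρ.range, ⟨(QuotientGroup.quotientMulEquivOfEq hker.symm).trans
    (QuotientGroup.quotientKerEquivRange ρ)⟩⟩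

omit [Fintype G] in
theorem isCyclic_mulAut (hP : Nat.card P = p) : IsCyclic (MulAut (P : Subgroup G)) := by
  have hP' : Nat.card (P : Subgroup G) = p := hP
  have hcyc : IsCyclic (P : Subgroup G) := isCyclic_of_prime_card hP'
  have h1 : IsCyclic (ZMod (Nat.card (P : Subgroup G)))ˣ := by
    rw [hP']
    infer_instance
  exact (MulEquiv.isCyclic (IsCyclic.mulAutMulEquiv (P : Subgroup G))).2 h1

theorem card_mulAut (hP : Nat.card P = p) : Nat.card (MulAut (P : Subgroup G)) = p - 1 := by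
  have hP' : Nat.card (P : Subgroup G) = p := hP
  have hcyc : IsCyclic (P : Subgroup G) := isCyclic_of_prime_card hP'
  rw [IsCyclic.card_mulAut, hP', Nat.totient_prime Fact.out]

theorem isCyclic_nor_quot' (hP : Nat.card P = p)
    (hnor : ∀ n ∈ nor P, ∀ x ∈ (P : Subgroup G), n * x * n⁻¹ ∈ (P : Subgroup G)) :
    IsCyclic (↥(nor P) ⧸ (cen P).subgroupOf (nor P)) := by
  obtain ⟨K, ⟨e⟩⟩ := exists_quot_equiv' P hnor
  have := isCyclic_mulAut P hP
  have hK : IsCyclic K := inferInstance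
  exact (MulEquiv.isCyclic e).2 hK

theorem relIndex_cen_nor_dvd' (hP : Nat.card P = p)
    (hnor : ∀ n ∈ nor P, ∀ x ∈ (P : Subgroup G), n * x * n⁻¹ ∈ (P : Subgroup G)) :
    (cen P).relIndex (nor P) ∣ p - 1 := by
  obtain ⟨K, ⟨e⟩⟩ := exists_quot_equiv' P hnor
  have h1 : (cen P).relIndex (nor P) = Nat.card K := by
    show Nat.card (↥(nor P) ⧸ (cen P).subgroupOf (nor P)) = Nat.card K
    exact Nat.card_congr e.toEquiv
  rw [h1, ← card_mulAut P hP]
  exact Subgroup.card_subgroup_dvd_card K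

theorem isCyclic_nor_quot (hP : Nat.card P = p) :
    IsCyclic (↥(nor P) ⧸ (cen P).subgroupOf (nor P)) :=
  isCyclic_nor_quot' P hP (nor_conj_mem P hP)

theorem relIndex_cen_nor_dvd (hP : Nat.card P = p) : (cen P).relIndex (nor P) ∣ p - 1 :=
  relIndex_cen_nor_dvd' P hP (nor_conj_mem P hP)

end Cfsg.Agent.Helper11.DefOneGRb
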