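import Mathlib
import Cfsg.Prelude.Def_Local
import Cfsg.Agent.Lib.Cores
import Cfsg.Agent.Helper11.PSolvable

set_option autoImplicit false

namespace Cfsg.Agent.Helper11

open Cfsg Cfsg.Agent.Lib

variable {G : Type*} [Group G]

theorem upperPSeries_zero (p : ℕ) : (upperPSeries p G 0).1 = ⊥ := by
  rw [upperPSeries]

theorem upperPSeries_succ_even (p n : ℕ) (h : Even n) :
    (upperPSeries p G (n + 1)).1 =
      (pPrimeCore p (G ⧸ (upperPSeries p G n).1)).comap (QuotientGroup.mk' (upperPSeries p G n).1) := by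
  rw [upperPSeries]
  simp only [h, if_true]

theorem upperPSeries_succ_odd (p n : ℕ) (h : ¬ Even n) :
    (upperPSeries p G (n + 1)).1 =
      (pCore p (G ⧸ (upperPSeries p G n).1)).comap (QuotientGroup.mk' (upperPSeries p G n).1) := by
  rw [upperPSeries]
  simp only [h, if_false]

/-- The series is increasing. -/
theorem upperPSeries_le_succ (p n : ℕ) : (upperPSeries p G n).1 ≤ (upperPSeries p G (n + 1)).1 := by
  by_cases h : Even n
  · rw [upperPSeries_succ_even p n h]
    conv_lhs => rw [← QuotientGroup.ker_mk' (upperPSeries p G n).1]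
    exact Subgroup.ker_le_comap _ _
  · rw [upperPSeries_succ_odd p n h]
    conv_lhs => rw [← QuotientGroup.ker_mk' (upperPSeries p G n).1]
    exact Subgroup.ker_le_comap _ _

/-- If `N / M = O_{p'}(G / M)` then `O_{p'}(G / N) = 1`. -/
theorem pPrimeCore_quotient_eq_bot [Finite G] {p : ℕ} [Fact p.Prime] (M N : Subgroup G) [M.Normal]
    [N.Normal] (hN : N = (pPrimeCore p (G ⧸ M)).comap (QuotientGroup.mk' M)) :
    pPrimeCore p (G ⧸ N) = ⊥ := by
  set L := (pPrimeCore p (G ⧸ N)).comap (QuotientGroup.mk' N) with hL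
  have hMN : M ≤ N := by
    rw [hN]
    conv_lhs => rw [← QuotientGroup.ker_mk' M]
    exact Subgroup.ker_le_comap _ _
  have hNL : N ≤ L := by
    rw [hL]
    conv_lhs => rw [← QuotientGroup.ker_mk' N]
    exact Subgroup.ker_le_comap _ _
  haveI hLn : L.Normal := Subgroup.Normal.comap (pPrimeCore_normal p (G ⧸ N)) _
  -- the image of L in G/M is a normal p'-subgroup
  have h1 : (L.map (QuotientGroup.mk' M)).Normal :=
    hLn.map _ (QuotientGroup.mk'_surjective M)
  have hcardL : Nat.card (L.map (QuotientGroup.mk' M)) = M.relIndex L := by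
    rw [← Subgroup.relIndex_ker, QuotientGroup.ker_mk']
  have hcardN : Nat.card (pPrimeCore p (G ⧸ M)) = M.relIndex N := by
    have : (N.map (QuotientGroup.mk' M)) = pPrimeCore p (G ⧸ M) := by
      rw [hN, Subgroup.map_comap_eq_self_of_surjective (QuotientGroup.mk'_surjective M)]
    rw [← this, ← Subgroup.relIndex_ker, QuotientGroup.ker_mk']
  have hcardL' : Nat.card (pPrimeCore p (G ⧸ N)) = N.relIndex L := by
    have : (L.map (QuotientGroup.mk' N)) = pPrimeCore p (G ⧸ N) := by
      rw [hL, Subgroup.map_comap_eq_self_of_surjective (QuotientGroup.mk'_surjective N)]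
    rw [← this, ← Subgroup.relIndex_ker, QuotientGroup.ker_mk']
  have hco : (Nat.card (L.map (QuotientGroup.mk' M))).Coprime p := by
    rw [hcardL, ← Subgroup.relIndex_mul_relIndex M N L hMN hNL, ← hcardN, ← hcardL']
    exact Nat.Coprime.mul_left (card_pPrimeCore_coprime p) (card_pPrimeCore_coprime p)
  have h2 : L.map (QuotientGroup.mk' M) ≤ pPrimeCore p (G ⧸ M) := le_pPrimeCore h1 hco
  have h3 : L ≤ N := by
    rw [hN]
    exact Subgroup.map_le_iff_le_comap.mp h2
  rw [eq_bot_iff]
  have h4 : pPrimeCore p (G ⧸ N) = L.map (QuotientGroup.mk' N) := by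
    rw [hL, Subgroup.map_comap_eq_self_of_surjective (QuotientGroup.mk'_surjective N)]
  rw [h4]
  calc L.map (QuotientGroup.mk' N) ≤ N.map (QuotientGroup.mk' N) := Subgroup.map_mono h3
    _ = ⊥ := QuotientGroup.map_mk'_self N

end Cfsg.Agent.Helper11
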