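import Mathlib
import Cfsg.Prelude.Def_Local
import Cfsg.Agent.Lib.Cores
import Cfsg.Agent.Helper11.PSeries

set_option autoImplicit false

namespace Cfsg.Agent.Helper11

open Cfsg Cfsg.Agent.Lib

universe u

section iso
variable {X Y : Type*} [Group X] [Group Y]

theorem pCore_map_mulEquiv_le (p : ℕ) (e : X ≃* Y) : (pCore p X).map e.toMonoidHom ≤ pCore p Y := by
  apply le_pCore
  · exact (pCore_normal p X).map _ e.surjective
  · exact (isPGroup_pCore p).map _

/-- `O_p` is invariant under isomorphisms. -/
theorem pCore_map_mulEquiv (p : ℕ) (e : X ≃* Y) : (pCore p X).map e.toMonoidHom = pCore p Y := by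
  apply le_antisymm (pCore_map_mulEquiv_le p e)
  have h := Subgroup.map_mono (f := e.toMonoidHom) (pCore_map_mulEquiv_le p e.symm)
  rw [Subgroup.map_map] at h
  have : e.toMonoidHom.comp e.symm.toMonoidHom = MonoidHom.id Y := by
    ext y; simp
  rwa [this, Subgroup.map_id] at h

theorem pPrimeCore_map_mulEquiv_le [Finite X] (p : ℕ) (e : X ≃* Y) :
    (pPrimeCore p X).map e.toMonoidHom ≤ pPrimeCore p Y := by
  apply le_pPrimeCore
  · exact (pPrimeCore_normal p X).map _ e.surjective
  · rw [Subgroup.card_map_of_injective e.injective]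
    exact card_pPrimeCore_coprime p

/-- `O_{p'}` is invariant under isomorphisms (finite groups). -/
theorem pPrimeCore_map_mulEquiv [Finite X] (p : ℕ) (e : X ≃* Y) :
    (pPrimeCore p X).map e.toMonoidHom = pPrimeCore p Y := by
  have : Finite Y := Finite.of_equiv X e.toEquiv
  apply le_antisymm (pPrimeCore_map_mulEquiv_le p e)
  have h := Subgroup.map_mono (f := e.toMonoidHom) (pPrimeCore_map_mulEquiv_le p e.symm)
  rw [Subgroup.map_map] at h
  have : e.toMonoidHom.comp e.symm.toMonoidHom = MonoidHom.id Y := by
    ext y; simp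
  rwa [this, Subgroup.map_id] at h

theorem pCore_comap_mulEquiv (p : ℕ) (e : X ≃* Y) : (pCore p Y).comap e.toMonoidHom = pCore p X := by
  rw [← pCore_map_mulEquiv p e, Subgroup.comap_map_eq_self_of_injective e.injective]

theorem pPrimeCore_comap_mulEquiv [Finite X] (p : ℕ) (e : X ≃* Y) :
    (pPrimeCore p Y).comap e.toMonoidHom = pPrimeCore p X := by
  rw [← pPrimeCore_map_mulEquiv p e, Subgroup.comap_map_eq_self_of_injective e.injective]

end iso

section quot
variable {G H : Type*} [Group G] [Group H]

/-- For a surjective `f : G → H` and `B = f⁻¹(A)`, the induced isomorphism `G / B ≃ H / A`. -/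
noncomputable def quotientComapEquiv (f : G →* H) (hf : Function.Surjective f) (A : Subgroup H) [A.Normal]
    (B : Subgroup G) [B.Normal] (hB : A.comap f = B) : G ⧸ B ≃* H ⧸ A :=
  MulEquiv.ofBijective (QuotientGroup.map B A f (le_of_eq hB.symm)) (by
    constructor
    · rw [injective_iff_map_eq_one]
      intro x hx
      obtain ⟨g, rfl⟩ := QuotientGroup.mk_surjective x
      rw [QuotientGroup.map_mk, QuotientGroup.eq_one_iff] at hx
      rw [QuotientGroup.eq_one_iff, ← hB]
      exact hx
    · intro y
      obtain ⟨h, rfl⟩ := QuotientGroup.mk_surjective y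
      obtain ⟨g, rfl⟩ := hf h
      exact ⟨(g : G ⧸ B), QuotientGroup.map_mk _ _ _ _ _⟩)

theorem quotientComapEquiv_comp (f : G →* H) (hf : Function.Surjective f) (A : Subgroup H) [A.Normal]
    (B : Subgroup G) [B.Normal] (hB : A.comap f = B) :
    (quotientComapEquiv f hf A B hB).toMonoidHom.comp (QuotientGroup.mk' B) = (QuotientGroup.mk' A).comp f := by
  ext g
  rfl

theorem comap_comap_pCore (p : ℕ) (f : G →* H) (hf : Function.Surjective f) (A : Subgroup H) [A.Normal]
    (B : Subgroup G) [B.Normal] (hB : A.comap f = B) :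
    ((pCore p (H ⧸ A)).comap (QuotientGroup.mk' A)).comap f = (pCore p (G ⧸ B)).comap (QuotientGroup.mk' B) := by
  rw [← pCore_comap_mulEquiv p (quotientComapEquiv f hf A B hB), Subgroup.comap_comap, Subgroup.comap_comap,
    quotientComapEquiv_comp]

theorem comap_comap_pPrimeCore [Finite G] (p : ℕ) (f : G →* H) (hf : Function.Surjective f) (A : Subgroup H) [A.Normal]
    (B : Subgroup G) [B.Normal] (hB : A.comap f = B) :
    ((pPrimeCore p (H ⧸ A)).comap (QuotientGroup.mk' A)).comap f = (pPrimeCore p (G ⧸ B)).comap (QuotientGroup.mk' B) := by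
  rw [← pPrimeCore_comap_mulEquiv p (quotientComapEquiv f hf A B hB), Subgroup.comap_comap, Subgroup.comap_comap,
    quotientComapEquiv_comp]

end quot

section shift
variable {G : Type*} [Group G]

/-- Shift lemma: for even `m`, the upper `p`-series of `G / U_m(G)` is the image of the tail of the upper `p`-series of `G`. -/
theorem comap_upperPSeries_quotient [Finite G] (p m : ℕ) (hm : Even m) (j : ℕ) :
    (upperPSeries p (G ⧸ (upperPSeries p G m).1) j).1.comap (QuotientGroup.mk' (upperPSeries p G m).1)
      = (upperPSeries p G (j + m)).1 := by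
  induction j with
  | zero =>
    rw [upperPSeries_zero, MonoidHom.comap_bot, QuotientGroup.ker_mk', Nat.zero_add]
  | succ j ih =>
    rw [show j + 1 + m = (j + m) + 1 by omega]
    by_cases hj : Even j
    · have hjm : Even (j + m) := hj.add hm
      rw [upperPSeries_succ_even p j hj, upperPSeries_succ_even p (j + m) hjm]
      exact comap_comap_pPrimeCore p _ (QuotientGroup.mk'_surjective _) _ _ ih
    · have hjm : ¬ Even (j + m) := by
        rw [Nat.even_add]; simp [hj, hm]
      rw [upperPSeries_succ_odd p j hj, upperPSeries_succ_odd p (j + m) hjm]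
      exact comap_comap_pCore p _ (QuotientGroup.mk'_surjective _) _ _ ih

end shift


section plength

/-- If `p ∤ |G|` then `O_{p'}(G) = G`, so the upper `p`-series reaches `G` at position 1. -/
theorem upperPSeries_one_eq_top_of_coprime {G : Type*} [Group G] [Finite G] (p : ℕ)
    (h : (Nat.card G).Coprime p) : (upperPSeries p G 1).1 = ⊤ := by
  rw [show (1 : ℕ) = 0 + 1 from rfl, upperPSeries_succ_even p 0 (by decide)]
  have h1 : pPrimeCore p (G ⧸ (upperPSeries p G 0).1) = ⊤ := by
    rw [eq_top_iff]
    apply le_pPrimeCore (inferInstance : (⊤ : Subgroup (G ⧸ (upperPSeries p G 0).1)).Normal)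
    rw [Subgroup.card_top]
    exact Nat.Coprime.coprime_dvd_left (Subgroup.card_quotient_dvd_card _) h
  rw [h1, Subgroup.comap_top]

/-- If a surjection kills the centre, the nilpotency class drops. -/
theorem nilpotencyClass_le_pred_of_center_le_ker {A B : Type*} [Group A] [Group B] [Group.IsNilpotent A]
    (f : A →* B) (hf : Function.Surjective f) (h : Subgroup.center A ≤ f.ker) :
    Group.nilpotencyClass B ≤ Group.nilpotencyClass A - 1 := by
  rw [← Group.nilpotencyClass_quotient_center]
  have hsurj : Function.Surjective (QuotientGroup.lift (Subgroup.center A) f h) := by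
    intro b
    obtain ⟨a, rfl⟩ := hf b
    exact ⟨(a : A ⧸ Subgroup.center A), QuotientGroup.lift_mk _ _ _⟩
  exact Group.nilpotencyClass_le_of_surjective _ hsurj

/-- The image of a nilpotent subgroup has class at most the class of the subgroup. -/
theorem nilpotencyClass_map_le {X Y : Type*} [Group X] [Group Y] (g : X →* Y) (K : Subgroup X)
    [Group.IsNilpotent K] : Group.nilpotencyClass (K.map g) ≤ Group.nilpotencyClass K :=
  Group.nilpotencyClass_le_of_surjective _ (g.subgroupMap_surjective K)

/-- If `g` kills every element of `K` that centralizes `K`, the class of `g(K)` drops. -/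
theorem nilpotencyClass_map_le_pred {X Y : Type*} [Group X] [Group Y] (g : X →* Y) (K : Subgroup X)
    [Group.IsNilpotent K] (h : ∀ z ∈ K, (∀ k ∈ K, k * z = z * k) → g z = 1) :
    Group.nilpotencyClass (K.map g) ≤ Group.nilpotencyClass K - 1 := by
  apply nilpotencyClass_le_pred_of_center_le_ker (g.subgroupMap K) (g.subgroupMap_surjective K)
  intro z hz
  rw [MonoidHom.mem_ker]
  apply Subtype.ext
  show g z = 1
  apply h z z.2
  intro k hk
  have := Subgroup.mem_center_iff.mp hz ⟨k, hk⟩
  exact congrArg Subtype.val this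

/-- **Hall–Higman**: the `p`-length of a finite `p`-solvable group is at most the nilpotency class
of its Sylow `p`-subgroups. -/
theorem upperPSeries_eq_top_of_class_le {p : ℕ} [hp : Fact p.Prime] :
    ∀ (c : ℕ) (G : Type u) [Group G] [Finite G], IsPSolvable p G →
      (∀ S : Sylow p G, Group.nilpotencyClass (S : Subgroup G) ≤ c) →
      (upperPSeries p G (2 * c + 1)).1 = ⊤ := by
  intro c
  induction c with
  | zero =>
    intro G _ _ _ hS
    apply upperPSeries_one_eq_top_of_coprime
    obtain ⟨S⟩ : Nonempty (Sylow p G) := inferInstance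
    haveI : Group.IsNilpotent (S : Subgroup G) := S.isPGroup'.isNilpotent
    have h0 : Group.nilpotencyClass (S : Subgroup G) = 0 := Nat.le_zero.mp (hS S)
    rw [Group.nilpotencyClass_zero_iff_subsingleton] at h0
    have hcard : Nat.card (S : Subgroup G) = 1 := Nat.card_eq_one_iff_unique.mpr ⟨h0, ⟨1⟩⟩
    rw [Nat.coprime_comm, Nat.Prime.coprime_iff_not_dvd hp.out]
    intro hdvd
    have := S.card_eq_multiplicity
    rw [hcard] at this
    have hfac : (Nat.card G).factorization p = 0 := by
      by_contra hne
      have : 1 < p ^ (Nat.card G).factorization p :=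
        Nat.one_lt_pow hne hp.out.one_lt
      omega
    have hpos : 0 < (Nat.card G).factorization p :=
      hp.out.factorization_pos_of_dvd Nat.card_pos.ne' hdvd
    omega
  | succ c ih =>
    intro G _ _ hsol hS
    -- notation
    set U₁ := (upperPSeries p G 1).1 with hU₁
    set U₂ := (upperPSeries p G 2).1 with hU₂
    have hU₁def : U₁ = (pPrimeCore p (G ⧸ (upperPSeries p G 0).1)).comap (QuotientGroup.mk' (upperPSeries p G 0).1) :=
      upperPSeries_succ_even p 0 (by decide)
    have hU₂def : U₂ = (pCore p (G ⧸ U₁)).comap (QuotientGroup.mk' U₁) :=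
      upperPSeries_succ_odd p 1 (by decide)
    have hO : pPrimeCore p (G ⧸ U₁) = ⊥ := pPrimeCore_quotient_eq_bot _ _ hU₁def
    have hHH : Subgroup.centralizer (pCore p (G ⧸ U₁) : Set (G ⧸ U₁)) ≤ pCore p (G ⧸ U₁) :=
      centralizer_pCore_le_of_isPSolvable (isPSolvable_quotient _ hsol) hO
    have hU12 : U₁ ≤ U₂ := upperPSeries_le_succ p 1
    -- the map X = G/U₁ → G₂ = G/U₂
    let g : G ⧸ U₁ →* G ⧸ U₂ := QuotientGroup.map U₁ U₂ (MonoidHom.id G) (by simpa using hU12)
    have hg : ∀ a : G, g (QuotientGroup.mk' U₁ a) = QuotientGroup.mk' U₂ a := fun a => rfl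
    have hgker : ∀ x : G ⧸ U₁, x ∈ pCore p (G ⧸ U₁) → g x = 1 := by
      intro x hx
      obtain ⟨a, rfl⟩ := QuotientGroup.mk_surjective x
      have : a ∈ U₂ := by rw [hU₂def]; exact hx
      show g (QuotientGroup.mk' U₁ a) = 1
      rw [hg, QuotientGroup.mk'_apply, QuotientGroup.eq_one_iff]
      exact this
    -- Sylow subgroups of G/U₂ have class ≤ c
    have hT : ∀ T : Sylow p (G ⧸ U₂), Group.nilpotencyClass (T : Subgroup (G ⧸ U₂)) ≤ c := by
      intro T
      obtain ⟨S, rfl⟩ := Sylow.mapSurjective_surjective (QuotientGroup.mk'_surjective U₂) p T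
      rw [Sylow.coe_mapSurjective]
      -- S̄ = image of S in G/U₁
      set Sbar : Sylow p (G ⧸ U₁) := S.mapSurjective (QuotientGroup.mk'_surjective U₁) with hSbar
      have hSbar' : (Sbar : Subgroup (G ⧸ U₁)) = (S : Subgroup G).map (QuotientGroup.mk' U₁) :=
        Sylow.coe_mapSurjective _ S
      have hmap : (S : Subgroup G).map (QuotientGroup.mk' U₂) = (Sbar : Subgroup (G ⧸ U₁)).map g := by
        rw [hSbar', Subgroup.map_map]
        rfl
      rw [hmap]
      haveI : Group.IsNilpotent (S : Subgroup G) := S.isPGroup'.isNilpotent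
      haveI : Group.IsNilpotent (Sbar : Subgroup (G ⧸ U₁)) := Sbar.isPGroup'.isNilpotent
      have h1 : Group.nilpotencyClass ((Sbar : Subgroup (G ⧸ U₁)).map g) ≤
          Group.nilpotencyClass (Sbar : Subgroup (G ⧸ U₁)) - 1 := by
        apply nilpotencyClass_map_le_pred
        intro z hz hzc
        apply hgker
        apply hHH
        rw [Subgroup.mem_centralizer_iff]
        intro k hk
        exact hzc k (pCore_le_sylow Sbar hk)
      have h2 : Group.nilpotencyClass (Sbar : Subgroup (G ⧸ U₁)) ≤ Group.nilpotencyClass (S : Subgroup G) := by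
        rw [hSbar']
        exact nilpotencyClass_map_le _ _
      have h3 := hS S
      omega
    have hih := ih (G ⧸ U₂) (isPSolvable_quotient _ hsol) hT
    have hshift := comap_upperPSeries_quotient (G := G) p 2 (by decide) (2 * c + 1)
    rw [hih, Subgroup.comap_top] at hshift
    rw [show 2 * (c + 1) + 1 = 2 * c + 1 + 2 by ring]
    exact hshift.symm

end plength

end Cfsg.Agent.Helper11
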