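import Mathlib
import Cfsg.Prelude.Def_PLocal
import Cfsg.Agent.S0648
import Cfsg.Agent.Helper52.ClassTwo

set_option autoImplicit false

namespace Cfsg.Agent.Helper11

open scoped commutatorElement

section basic
variable {S : Type*} [Group S]

/-- In a finite group, an element conjugating `X` into itself normalizes `X`. -/
theorem mem_normalizer_of_conj_mem [Finite S] (X : Subgroup S) (g : S)
    (h : ∀ x ∈ X, g * x * g⁻¹ ∈ X) : g ∈ Subgroup.normalizer (X : Set S) := by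
  have hle : X.map (MulAut.conj g).toMonoidHom ≤ X := by
    rintro _ ⟨x, hx, rfl⟩
    exact h x hx
  have hcard : Nat.card (X.map (MulAut.conj g).toMonoidHom) = Nat.card X :=
    Subgroup.card_map_of_injective (MulAut.conj g).injective
  have heq : X.map (MulAut.conj g).toMonoidHom = X :=
    Subgroup.eq_of_le_of_card_ge hle (le_of_eq hcard.symm)
  rw [Subgroup.mem_normalizer_iff]
  intro y
  constructor
  · exact h y
  · intro hy
    rw [← heq] at hy
    obtain ⟨x, hx, hxy⟩ := hy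
    have : x = y := by
      have h1 : g * x * g⁻¹ = g * y * g⁻¹ := hxy
      have h2 : x = g⁻¹ * (g * x * g⁻¹) * g := by group
      rw [h2, h1]; group
    rw [← this]; exact hx

/-- To check that `g` conjugates `I ⊔ closure T` into `X` it suffices to check `I` and `T`. -/
theorem conj_mem_of_sup_closure (I X : Subgroup S) (T : Set S) (g : S)
    (hI : ∀ x ∈ I, g * x * g⁻¹ ∈ X) (hT : ∀ x ∈ T, g * x * g⁻¹ ∈ X) :
    ∀ x ∈ I ⊔ Subgroup.closure T, g * x * g⁻¹ ∈ X := by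
  have hle : I ⊔ Subgroup.closure T ≤ X.comap (MulAut.conj g).toMonoidHom := by
    apply sup_le
    · intro x hx; exact hI x hx
    · rw [Subgroup.closure_le]
      intro x hx; exact hT x hx
  intro x hx
  exact hle hx

end basic


section repl
variable {S : Type*} [Group S]
variable (B A : Subgroup S) (b : S)

/-- The conjugate `b⁻¹ A b`. -/
abbrev conjA : Subgroup S := A.map (MulAut.conj (b⁻¹)).toMonoidHom

theorem mem_conjA_iff {A : Subgroup S} {b x : S} : x ∈ conjA A b ↔ b * x * b⁻¹ ∈ A := by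
  constructor
  · rintro ⟨a, ha, rfl⟩
    simp only [MulEquiv.coe_toMonoidHom, MulAut.conj_apply, inv_inv]
    have : b * (b⁻¹ * a * b) * b⁻¹ = a := by group
    rw [this]; exact ha
  · intro h
    refine ⟨b * x * b⁻¹, h, ?_⟩
    simp only [MulEquiv.coe_toMonoidHom, MulAut.conj_apply, inv_inv]
    group

/-- The generators `a b⁻¹ a⁻¹ b` of `[A, b]`. -/
def replGens : Set S := {g : S | ∃ a ∈ A, g = a * b⁻¹ * a⁻¹ * b}

variable {B A b}

/-- `A ∩ B` is normalized by `B` when `B' ≤ A`. -/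
theorem conj_mem_of_mem_inf (hBA : ⁅B, B⁆ ≤ A) {x d : S} (hx : x ∈ B) (hdA : d ∈ A) (hdB : d ∈ B) :
    x * d * x⁻¹ ∈ A := by
  have h1 : ⁅x, d⁆ ∈ A := hBA (Subgroup.commutator_mem_commutator hx hdB)
  have h2 : x * d * x⁻¹ = ⁅x, d⁆ * d := by rw [commutatorElement_def]; group
  rw [h2]; exact A.mul_mem h1 hdA

/-- Key symmetry: for `a ∈ A`, `b a b⁻¹ ∈ A ↔ b⁻¹ a b ∈ A`. -/
theorem conj_mem_iff [hBn : B.Normal] (hBA : ⁅B, B⁆ ≤ A) (hb : b ∈ B) {a : S} (ha : a ∈ A) :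
    b * a * b⁻¹ ∈ A ↔ b⁻¹ * a * b ∈ A := by
  constructor
  · intro h
    -- d = a⁻¹ (b a b⁻¹) ∈ A ∩ B
    have hdA : a⁻¹ * (b * a * b⁻¹) ∈ A := A.mul_mem (A.inv_mem ha) h
    have hdB : a⁻¹ * (b * a * b⁻¹) ∈ B := by
      have h1 : a⁻¹ * b * a⁻¹⁻¹ ∈ B := hBn.conj_mem b hb a⁻¹
      have h2 : a⁻¹ * (b * a * b⁻¹) = (a⁻¹ * b * a⁻¹⁻¹) * b⁻¹ := by group
      rw [h2]; exact B.mul_mem h1 (B.inv_mem hb)
    have h3 := conj_mem_of_mem_inf hBA (B.inv_mem hb) hdA hdB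
    -- b⁻¹ d b = (b⁻¹ a⁻¹ b) a
    have h4 : b⁻¹ * (a⁻¹ * (b * a * b⁻¹)) * b⁻¹⁻¹ = (b⁻¹ * a * b)⁻¹ * a := by group
    rw [h4] at h3
    have h5 : (b⁻¹ * a * b)⁻¹ ∈ A := by
      have := A.mul_mem h3 (A.inv_mem ha)
      simpa [mul_assoc] using this
    simpa using A.inv_mem h5
  · intro h
    have hdA : a⁻¹ * (b⁻¹ * a * b) ∈ A := A.mul_mem (A.inv_mem ha) h
    have hdB : a⁻¹ * (b⁻¹ * a * b) ∈ B := by
      have h1 : a⁻¹ * b⁻¹ * a⁻¹⁻¹ ∈ B := hBn.conj_mem b⁻¹ (B.inv_mem hb) a⁻¹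
      have h2 : a⁻¹ * (b⁻¹ * a * b) = (a⁻¹ * b⁻¹ * a⁻¹⁻¹) * b := by group
      rw [h2]; exact B.mul_mem h1 hb
    have h3 := conj_mem_of_mem_inf hBA hb hdA hdB
    have h4 : b * (a⁻¹ * (b⁻¹ * a * b)) * b⁻¹ = (b * a * b⁻¹)⁻¹ * a := by group
    rw [h4] at h3
    have h5 : (b * a * b⁻¹)⁻¹ ∈ A := by
      have := A.mul_mem h3 (A.inv_mem ha)
      simpa [mul_assoc] using this
    simpa using A.inv_mem h5

/-- `A ∩ B ≤ A ∩ b⁻¹Ab`. -/
theorem inf_le_I (hBA : ⁅B, B⁆ ≤ A) (hb : b ∈ B) : A ⊓ B ≤ A ⊓ conjA A b := by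
  intro x hx
  rw [Subgroup.mem_inf] at hx ⊢
  refine ⟨hx.1, ?_⟩
  rw [mem_conjA_iff]
  exact conj_mem_of_mem_inf hBA hb hx.1 hx.2


/-- Facts about the normalizer `N = N_S(A)` and the conjugate `A₁ = b⁻¹ A b` when `b` normalizes `N`. -/
theorem repl_facts [Finite S] [hBn : B.Normal] (hA : ∀ x ∈ A, ∀ y ∈ A, x * y = y * x)
    (hBA : ⁅B, B⁆ ≤ A) (hb : b ∈ B)
    (hbN : b ∈ Subgroup.normalizer ((Subgroup.normalizer (A : Set S)) : Set S)) :
    -- (f1) A₁ ≤ N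
    conjA A b ≤ Subgroup.normalizer (A : Set S) ∧
    -- (f2) N normalizes A₁
    (∀ n ∈ Subgroup.normalizer (A : Set S), ∀ x ∈ conjA A b, n * x * n⁻¹ ∈ conjA A b) ∧
    -- A₁ abelian
    (∀ x ∈ conjA A b, ∀ y ∈ conjA A b, x * y = y * x) ∧
    -- (f5) [A₁, A] ≤ I
    (∀ y ∈ conjA A b, ∀ a ∈ A, ⁅y, a⁆ ∈ A ⊓ conjA A b) ∧
    -- (f4) I central in H
    (A ⊔ conjA A b ≤ Subgroup.centralizer ((A ⊓ conjA A b : Subgroup S) : Set S)) ∧
    -- D ≤ B, D ≤ H
    (Subgroup.closure (replGens A b) ≤ B) ∧ (Subgroup.closure (replGens A b) ≤ A ⊔ conjA A b) ∧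
    -- H ≤ N
    (A ⊔ conjA A b ≤ Subgroup.normalizer (A : Set S)) := by
  have hbN' : ∀ n, n ∈ Subgroup.normalizer (A : Set S) ↔ b * n * b⁻¹ ∈ Subgroup.normalizer (A : Set S) :=
    Subgroup.mem_normalizer_iff.mp hbN
  have hAN : A ≤ Subgroup.normalizer (A : Set S) := Subgroup.le_normalizer
  have f1 : conjA A b ≤ Subgroup.normalizer (A : Set S) := by
    intro x hx
    rw [mem_conjA_iff] at hx
    exact (hbN' x).mpr (hAN hx)
  have f2 : ∀ n ∈ Subgroup.normalizer (A : Set S), ∀ x ∈ conjA A b, n * x * n⁻¹ ∈ conjA A b := by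
    intro n hn x hx
    rw [mem_conjA_iff] at hx ⊢
    have h1 : b * n * b⁻¹ ∈ Subgroup.normalizer (A : Set S) := (hbN' n).mp hn
    have h2 := (Subgroup.mem_normalizer_iff.mp h1 (b * x * b⁻¹)).mp hx
    have h3 : b * (n * x * n⁻¹) * b⁻¹ = b * n * b⁻¹ * (b * x * b⁻¹) * (b * n * b⁻¹)⁻¹ := by group
    rw [h3]; exact h2
  have hA₁ : ∀ x ∈ conjA A b, ∀ y ∈ conjA A b, x * y = y * x := by
    intro x hx y hy
    rw [mem_conjA_iff] at hx hy
    have := hA _ hx _ hy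
    have h1 : x * y = b⁻¹ * ((b * x * b⁻¹) * (b * y * b⁻¹)) * b := by group
    rw [h1, this]; group
  have f5 : ∀ y ∈ conjA A b, ∀ a ∈ A, ⁅y, a⁆ ∈ A ⊓ conjA A b := by
    intro y hy a ha
    rw [Subgroup.mem_inf]
    constructor
    · have h1 : y * a * y⁻¹ ∈ A := (Subgroup.mem_normalizer_iff.mp (f1 hy) a).mp ha
      rw [commutatorElement_def]
      exact A.mul_mem h1 (A.inv_mem ha)
    · have h1 : a * y⁻¹ * a⁻¹ ∈ conjA A b := f2 a (hAN ha) y⁻¹ ((conjA A b).inv_mem hy)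
      have h2 : ⁅y, a⁆ = y * (a * y⁻¹ * a⁻¹) := by rw [commutatorElement_def]; group
      rw [h2]; exact (conjA A b).mul_mem hy h1
  have f4 : A ⊔ conjA A b ≤ Subgroup.centralizer ((A ⊓ conjA A b : Subgroup S) : Set S) := by
    apply sup_le
    · intro a ha
      rw [Subgroup.mem_centralizer_iff]
      intro x hx
      exact hA x (Subgroup.mem_inf.mp hx).1 a ha
    · intro y hy
      rw [Subgroup.mem_centralizer_iff]
      intro x hx
      exact hA₁ x (Subgroup.mem_inf.mp hx).2 y hy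
  have hDB : Subgroup.closure (replGens A b) ≤ B := by
    rw [Subgroup.closure_le]
    rintro g ⟨a, ha, rfl⟩
    have h1 : a * b⁻¹ * a⁻¹ ∈ B := hBn.conj_mem b⁻¹ (B.inv_mem hb) a
    exact B.mul_mem h1 hb
  have hDH : Subgroup.closure (replGens A b) ≤ A ⊔ conjA A b := by
    rw [Subgroup.closure_le]
    rintro g ⟨a, ha, rfl⟩
    have h1 : b⁻¹ * a⁻¹ * b ∈ conjA A b := by
      rw [mem_conjA_iff]
      have : b * (b⁻¹ * a⁻¹ * b) * b⁻¹ = a⁻¹ := by group
      rw [this]; exact A.inv_mem ha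
    have h2 : a * b⁻¹ * a⁻¹ * b = a * (b⁻¹ * a⁻¹ * b) := by group
    rw [h2]
    exact Subgroup.mul_mem_sup ha h1
  exact ⟨f1, f2, hA₁, f5, f4, hDB, hDH, sup_le hAN f1⟩


/-- `[D, A] ≤ I`. -/
theorem repl_comm_D_A [Finite S] [hBn : B.Normal] (hA : ∀ x ∈ A, ∀ y ∈ A, x * y = y * x)
    (hBA : ⁅B, B⁆ ≤ A) (hb : b ∈ B)
    (hbN : b ∈ Subgroup.normalizer ((Subgroup.normalizer (A : Set S)) : Set S)) :
    ∀ d ∈ Subgroup.closure (replGens A b), ∀ a ∈ A, ⁅d, a⁆ ∈ A ⊓ conjA A b := by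
  obtain ⟨f1, f2, hA₁, f5, f4, hDB, hDH, hHN⟩ := repl_facts hA hBA hb hbN
  -- elements of H centralize I
  have hcen : ∀ h ∈ A ⊔ conjA A b, ∀ x ∈ A ⊓ conjA A b, h * x * h⁻¹ = x := by
    intro h hh x hx
    have := Subgroup.mem_centralizer_iff.mp (f4 hh) x hx
    rw [← this]; group
  intro d hd a ha
  induction hd using Subgroup.closure_induction with
  | mem d hd0 =>
    obtain ⟨a₀, ha₀, rfl⟩ := hd0
    have hy : b⁻¹ * a₀⁻¹ * b ∈ conjA A b := by
      rw [mem_conjA_iff]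
      have : b * (b⁻¹ * a₀⁻¹ * b) * b⁻¹ = a₀⁻¹ := by group
      rw [this]; exact A.inv_mem ha₀
    have h1 : ⁅a₀ * b⁻¹ * a₀⁻¹ * b, a⁆ = a₀ * ⁅b⁻¹ * a₀⁻¹ * b, a⁆ * a₀⁻¹ * ⁅a₀, a⁆ := by
      simp only [commutatorElement_def]; group
    have h2 : ⁅a₀, a⁆ = 1 := by
      rw [commutatorElement_eq_one_iff_mul_comm]; exact hA a₀ ha₀ a ha
    rw [h1, h2, mul_one, hcen a₀ (Subgroup.mem_sup_left ha₀) _ (f5 _ hy a ha)]
    exact f5 _ hy a ha
  | one =>
    have : ⁅(1 : S), a⁆ = 1 := by simp [commutatorElement_def]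
    rw [this]; exact Subgroup.one_mem _
  | mul d d' hd hd' ih ih' =>
    have h1 : ⁅d * d', a⁆ = d * ⁅d', a⁆ * d⁻¹ * ⁅d, a⁆ := by
      simp only [commutatorElement_def]; group
    rw [h1, hcen d (hDH hd) _ ih']
    exact Subgroup.mul_mem _ ih' ih
  | inv d hd ih =>
    have h1 : ⁅d⁻¹, a⁆ = d⁻¹ * ⁅d, a⁆⁻¹ * d⁻¹⁻¹ := by
      simp only [commutatorElement_def]; group
    rw [h1, hcen d⁻¹ (Subgroup.inv_mem _ (hDH hd)) _ (Subgroup.inv_mem _ ih)]
    exact Subgroup.inv_mem _ ih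

/-- `D = [A, b]` is abelian. -/
theorem repl_D_comm [Finite S] {p : ℕ} [hp : Fact p.Prime] (hS : IsPGroup p S) [hBn : B.Normal]
    (hB2 : p = 2 → ∀ x ∈ B, ∀ y ∈ B, x * y = y * x)
    (hA : ∀ x ∈ A, ∀ y ∈ A, x * y = y * x)
    (hBA : ⁅B, B⁆ ≤ A) (hb : b ∈ B)
    (hbN : b ∈ Subgroup.normalizer ((Subgroup.normalizer (A : Set S)) : Set S)) :
    ∀ x ∈ Subgroup.closure (replGens A b), ∀ y ∈ Subgroup.closure (replGens A b), x * y = y * x := by
  obtain ⟨f1, f2, hA₁, f5, f4, hDB, hDH, hHN⟩ := repl_facts hA hBA hb hbN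
  by_cases hp2 : p = 2
  · intro x hx y hy
    exact hB2 hp2 x (hDB hx) y (hDB hy)
  · have hAB : A ≤ Subgroup.normalizer (B : Set S) := by
      rw [Subgroup.normalizer_eq_top]; exact le_top
    have hc : ⁅⁅B, B⁆, A⁆ = ⊥ := by
      rw [eq_bot_iff, Subgroup.commutator_le]
      intro x hx y hy
      rw [Subgroup.mem_bot, commutatorElement_eq_one_iff_mul_comm]
      exact hA x (hBA hx) y hy
    have hAc : IsMulCommutative A := ⟨⟨fun x y => Subtype.ext (hA x x.2 y y.2)⟩⟩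
    have hset : {g : S | ∃ a ∈ A, g = b⁻¹ * a * b * a⁻¹} = (replGens A b)⁻¹ := by
      ext g
      rw [Set.mem_inv]
      constructor
      · rintro ⟨a, ha, rfl⟩
        exact ⟨a, ha, by group⟩
      · rintro ⟨a, ha, h⟩
        refine ⟨a, ha, ?_⟩
        have : g = (g⁻¹)⁻¹ := by simp
        rw [this, h]; group
    have hcl : Subgroup.closure {g : S | ∃ a ∈ A, g = b⁻¹ * a * b * a⁻¹} = Subgroup.closure (replGens A b) := by
      rw [hset, Subgroup.closure_inv]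
    have hMA : ⁅⁅Subgroup.closure {g : S | ∃ a ∈ A, g = b⁻¹ * a * b * a⁻¹}, A⁆, A⁆ = ⊥ := by
      rw [hcl, eq_bot_iff, Subgroup.commutator_le]
      intro t ht a ha
      rw [Subgroup.mem_bot, commutatorElement_eq_one_iff_mul_comm]
      have htI : t ∈ A ⊓ conjA A b := by
        have hle : ⁅Subgroup.closure (replGens A b), A⁆ ≤ A ⊓ conjA A b := by
          rw [Subgroup.commutator_le]
          exact repl_comm_D_A hA hBA hb hbN
        exact hle ht
      exact hA t (Subgroup.mem_inf.mp htI).1 a ha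
    have h2 := (Cfsg.Agent.S0648.result A B hAB hc).2 hAc b hb hMA
    rw [hcl] at h2
    have hbot : ⁅Subgroup.closure (replGens A b), Subgroup.closure (replGens A b)⁆ = ⊥ := by
      rw [eq_bot_iff]
      intro w hw
      rw [Subgroup.mem_bot]
      have hw2 : w ^ 2 = 1 := h2 w hw
      obtain ⟨k, hk⟩ := hS w
      have h3 : orderOf w ∣ 2 := orderOf_dvd_of_pow_eq_one hw2
      have h4 : orderOf w ∣ p ^ k := orderOf_dvd_of_pow_eq_one hk
      have hcop : Nat.Coprime 2 (p ^ k) := by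
        apply Nat.Coprime.pow_right
        rw [Nat.coprime_primes Nat.prime_two hp.out]
        exact fun h => hp2 h.symm
      have := Nat.eq_one_of_dvd_coprimes hcop h3 h4
      exact orderOf_eq_one_iff.mp this
    intro x hx y hy
    have h3 : ⁅x, y⁆ ∈ ⁅Subgroup.closure (replGens A b), Subgroup.closure (replGens A b)⁆ :=
      Subgroup.commutator_mem_commutator hx hy
    rw [hbot, Subgroup.mem_bot, commutatorElement_eq_one_iff_mul_comm] at h3
    exact h3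


/-- The replacement subgroup `A* = (A ∩ b⁻¹Ab)[A, b]`. -/
abbrev replStar (A : Subgroup S) (b : S) : Subgroup S :=
  (A ⊓ conjA A b) ⊔ Subgroup.closure (replGens A b)

/-- `A*` is abelian. -/
theorem repl_star_comm [Finite S] {p : ℕ} [hp : Fact p.Prime] (hS : IsPGroup p S) [hBn : B.Normal]
    (hB2 : p = 2 → ∀ x ∈ B, ∀ y ∈ B, x * y = y * x)
    (hA : ∀ x ∈ A, ∀ y ∈ A, x * y = y * x)
    (hBA : ⁅B, B⁆ ≤ A) (hb : b ∈ B)
    (hbN : b ∈ Subgroup.normalizer ((Subgroup.normalizer (A : Set S)) : Set S)) :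
    ∀ x ∈ replStar A b, ∀ y ∈ replStar A b, x * y = y * x := by
  obtain ⟨f1, f2, hA₁, f5, f4, hDB, hDH, hHN⟩ := repl_facts hA hBA hb hbN
  have hD := repl_D_comm hS hB2 hA hBA hb hbN
  -- A* ≤ centralizer A*
  have hle : replStar A b ≤ Subgroup.centralizer ((replStar A b : Subgroup S) : Set S) := by
    have hI : A ⊓ conjA A b ≤ Subgroup.centralizer ((replStar A b : Subgroup S) : Set S) := by
      rw [Subgroup.le_centralizer_iff]
      apply sup_le
      · intro x hx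
        rw [Subgroup.mem_centralizer_iff]
        intro y hy
        exact hA y (Subgroup.mem_inf.mp hy).1 x (Subgroup.mem_inf.mp hx).1
      · exact hDH.trans f4
    have hD' : Subgroup.closure (replGens A b) ≤ Subgroup.centralizer ((replStar A b : Subgroup S) : Set S) := by
      rw [Subgroup.le_centralizer_iff]
      apply sup_le
      · rw [← Subgroup.le_centralizer_iff]
        exact hDH.trans f4
      · intro x hx
        rw [Subgroup.mem_centralizer_iff]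
        intro y hy
        exact hD y hy x hx
    exact sup_le hI hD'
  intro x hx y hy
  exact (Subgroup.mem_centralizer_iff.mp (hle hy) x hx)

/-- Conclusions (3)–(9) of the replacement theorem. -/
theorem repl_main [Finite S] {p : ℕ} [hp : Fact p.Prime] (hS : IsPGroup p S) [hBn : B.Normal]
    (hA : ∀ x ∈ A, ∀ y ∈ A, x * y = y * x)
    (hBA : ⁅B, B⁆ ≤ A) (hnot : ¬ B ≤ Subgroup.normalizer (A : Set S)) (hb : b ∈ B)
    (hbN : b ∈ Subgroup.normalizer ((Subgroup.normalizer (A : Set S)) : Set S))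
    (hbA : b ∉ Subgroup.normalizer (A : Set S)) :
    ⁅B, B⁆ ≤ replStar A b ∧
    A ⊓ B < replStar A b ⊓ B ∧
    replStar A b ⊓ B < B ∧
    A ≤ Subgroup.normalizer ((replStar A b : Subgroup S) : Set S) ∧
    replStar A b ≤ Subgroup.normalizer (A : Set S) ∧
    b ∈ Subgroup.normalizer ((replStar A b : Subgroup S) : Set S) ∧
    Subgroup.normalizer (A : Set S) < Subgroup.normalizer ((replStar A b : Subgroup S) : Set S) := by
  obtain ⟨f1, f2, hA₁, f5, f4, hDB, hDH, hHN⟩ := repl_facts hA hBA hb hbN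
  have hDA := repl_comm_D_A hA hBA hb hbN
  have hBBn : (⁅B, B⁆).Normal := Subgroup.commutator_normal B B
  -- (3)
  have hBI : ⁅B, B⁆ ≤ A ⊓ conjA A b := by
    intro w hw
    rw [Subgroup.mem_inf]
    refine ⟨hBA hw, ?_⟩
    rw [mem_conjA_iff]
    exact hBA (hBBn.conj_mem w hw b)
  have c3 : ⁅B, B⁆ ≤ replStar A b := hBI.trans le_sup_left
  -- A* ≤ N
  have hStarN : replStar A b ≤ Subgroup.normalizer (A : Set S) :=
    sup_le (inf_le_left.trans Subgroup.le_normalizer) (hDH.trans hHN)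
  -- (5)
  have c5 : replStar A b ⊓ B < B := by
    apply lt_of_le_of_ne inf_le_right
    intro h
    apply hnot
    have : B ≤ replStar A b := by rw [← h]; exact inf_le_left
    exact this.trans hStarN
  -- (4)
  have c4 : A ⊓ B < replStar A b ⊓ B := by
    rw [SetLike.lt_iff_le_and_exists]
    refine ⟨le_inf ((inf_le_I hBA hb).trans le_sup_left) inf_le_right, ?_⟩
    -- some generator is not in A
    by_contra hcon
    push_neg at hcon
    apply hbA
    have hinv : b⁻¹ ∈ Subgroup.normalizer (A : Set S) := by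
      apply mem_normalizer_of_conj_mem
      intro a ha
      have hd : a⁻¹ * b⁻¹ * a⁻¹⁻¹ * b ∈ replStar A b ⊓ B := by
        rw [Subgroup.mem_inf]
        refine ⟨Subgroup.mem_sup_right (Subgroup.subset_closure ⟨a⁻¹, A.inv_mem ha, rfl⟩), ?_⟩
        exact hDB (Subgroup.subset_closure ⟨a⁻¹, A.inv_mem ha, rfl⟩)
      have h1 := (Subgroup.mem_inf.mp (hcon _ hd)).1
      have h2 : b⁻¹ * a * b⁻¹⁻¹ = a * (a⁻¹ * b⁻¹ * a⁻¹⁻¹ * b) := by group
      rw [h2]; exact A.mul_mem ha h1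
    simpa using Subgroup.inv_mem _ hinv
  -- (6)
  have c6 : A ≤ Subgroup.normalizer ((replStar A b : Subgroup S) : Set S) := by
    intro a ha
    apply mem_normalizer_of_conj_mem
    apply conj_mem_of_sup_closure
    · intro x hx
      have : a * x * a⁻¹ = x := by
        rw [hA a ha x (Subgroup.mem_inf.mp hx).1]; group
      rw [this]; exact Subgroup.mem_sup_left hx
    · intro d hd
      have hd' : d ∈ Subgroup.closure (replGens A b) := Subgroup.subset_closure hd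
      have h1 : a * d * a⁻¹ = (⁅d, a⁆)⁻¹ * d := by rw [commutatorElement_def]; group
      rw [h1]
      exact Subgroup.mul_mem _ (Subgroup.mem_sup_left (Subgroup.inv_mem _ (hDA d hd' a ha)))
        (Subgroup.mem_sup_right hd')
  -- (8)
  have c8 : b ∈ Subgroup.normalizer ((replStar A b : Subgroup S) : Set S) := by
    apply mem_normalizer_of_conj_mem
    apply conj_mem_of_sup_closure
    · intro x hx
      apply Subgroup.mem_sup_left
      rw [Subgroup.mem_inf] at hx ⊢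
      have hx2 : b * x * b⁻¹ ∈ A := mem_conjA_iff.mp hx.2
      refine ⟨hx2, ?_⟩
      rw [mem_conjA_iff]
      rw [conj_mem_iff hBA hb hx2]
      have : b⁻¹ * (b * x * b⁻¹) * b = x := by group
      rw [this]; exact hx.1
    · intro d hd
      have hd' : d ∈ Subgroup.closure (replGens A b) := Subgroup.subset_closure hd
      have h1 : b * d * b⁻¹ = ⁅b, d⁆ * d := by rw [commutatorElement_def]; group
      rw [h1]
      exact Subgroup.mul_mem _ (c3 (Subgroup.commutator_mem_commutator hb (hDB hd')))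
        (Subgroup.mem_sup_right hd')
  -- (9)
  have c9le : Subgroup.normalizer (A : Set S) ≤ Subgroup.normalizer ((replStar A b : Subgroup S) : Set S) := by
    intro n hn
    apply mem_normalizer_of_conj_mem
    apply conj_mem_of_sup_closure
    · intro x hx
      apply Subgroup.mem_sup_left
      rw [Subgroup.mem_inf] at hx ⊢
      exact ⟨(Subgroup.mem_normalizer_iff.mp hn x).mp hx.1, f2 n hn x hx.2⟩
    · rintro d ⟨a, ha, rfl⟩
      -- m = [b, n] ∈ N ∩ B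
      have hbN' := Subgroup.mem_normalizer_iff.mp hbN
      have hmN : b * n * b⁻¹ * n⁻¹ ∈ Subgroup.normalizer (A : Set S) :=
        Subgroup.mul_mem _ ((hbN' n).mp hn) (Subgroup.inv_mem _ hn)
      have hmB : b * n * b⁻¹ * n⁻¹ ∈ B := by
        have h1 : n * b⁻¹ * n⁻¹ ∈ B := hBn.conj_mem b⁻¹ (B.inv_mem hb) n
        have h2 : b * n * b⁻¹ * n⁻¹ = b * (n * b⁻¹ * n⁻¹) := by group
        rw [h2]; exact B.mul_mem hb h1
      obtain ⟨m, hm⟩ : ∃ m : S, m = b * n * b⁻¹ * n⁻¹ := ⟨_, rfl⟩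
      rw [← hm] at hmN hmB
      have ha' : n * a * n⁻¹ ∈ A := (Subgroup.mem_normalizer_iff.mp hn a).mp ha
      obtain ⟨a', hadef⟩ : ∃ a' : S, a' = n * a * n⁻¹ := ⟨_, rfl⟩
      rw [← hadef] at ha'
      have ha'' : m * a' * m⁻¹ ∈ A := (Subgroup.mem_normalizer_iff.mp hmN a').mp ha'
      have h1 : n * (a * b⁻¹ * a⁻¹ * b) * n⁻¹ =
          (a' * (m * a' * m⁻¹)⁻¹) * ((m * a' * m⁻¹) * b⁻¹ * (m * a' * m⁻¹)⁻¹ * b) := by
        rw [hadef, hm]; group
      rw [h1]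
      apply Subgroup.mul_mem
      · apply Subgroup.mem_sup_left
        apply inf_le_I hBA hb
        rw [Subgroup.mem_inf]
        refine ⟨A.mul_mem ha' (A.inv_mem ha''), ?_⟩
        have h2 : a' * (m * a' * m⁻¹)⁻¹ = (a' * m * a'⁻¹) * m⁻¹ := by group
        rw [h2]
        exact B.mul_mem (hBn.conj_mem m hmB a') (B.inv_mem hmB)
      · exact Subgroup.mem_sup_right (Subgroup.subset_closure ⟨_, ha'', rfl⟩)
  have c9 : Subgroup.normalizer (A : Set S) < Subgroup.normalizer ((replStar A b : Subgroup S) : Set S) := by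
    rw [SetLike.lt_iff_le_and_exists]
    exact ⟨c9le, b, c8, hbA⟩
  exact ⟨c3, c4, c5, c6, hStarN, c8, c9⟩


/-- Conclusion (10): for odd `p` the exponent does not grow. -/
theorem repl_exponent [Finite S] {p : ℕ} [hp : Fact p.Prime] (hS : IsPGroup p S) [hBn : B.Normal]
    (hp2 : p ≠ 2)
    (hA : ∀ x ∈ A, ∀ y ∈ A, x * y = y * x)
    (hBA : ⁅B, B⁆ ≤ A) (hb : b ∈ B)
    (hbN : b ∈ Subgroup.normalizer ((Subgroup.normalizer (A : Set S)) : Set S)) :
    Monoid.exponent ↥(replStar A b) ∣ Monoid.exponent ↥A := by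
  obtain ⟨f1, f2, hA₁, f5, f4, hDB, hDH, hHN⟩ := repl_facts hA hBA hb hbN
  have hcomm := repl_star_comm hS (fun h => absurd h hp2) hA hBA hb hbN
  obtain ⟨e, he⟩ : ∃ e : ℕ, e = Monoid.exponent ↥A := ⟨_, rfl⟩
  rw [← he]
  have hAe : ∀ x ∈ A, x ^ e = 1 := by
    intro x hx
    have := Monoid.pow_exponent_eq_one (⟨x, hx⟩ : A)
    rw [← he] at this
    exact congrArg Subtype.val this
  -- e is odd
  have hodd : Odd e := by
    have h1 : e ∣ Nat.card A := by rw [he]; exact Group.exponent_dvd_nat_card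
    obtain ⟨k, hk⟩ := IsPGroup.iff_card.mp (hS.to_subgroup A)
    rw [hk] at h1
    obtain ⟨j, -, hj⟩ := (Nat.dvd_prime_pow hp.out).mp h1
    rw [hj]
    exact Odd.pow (hp.out.odd_of_ne_two hp2)
  -- generators
  have hgen : ∀ d ∈ replGens A b, d ^ e = 1 := by
    rintro d ⟨a, ha, rfl⟩
    obtain ⟨y, hy⟩ : ∃ y : S, y = b⁻¹ * a⁻¹ * b := ⟨_, rfl⟩
    have hyA₁ : y ∈ conjA A b := by
      rw [mem_conjA_iff, hy]
      have : b * (b⁻¹ * a⁻¹ * b) * b⁻¹ = a⁻¹ := by group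
      rw [this]; exact A.inv_mem ha
    have h1 : a * b⁻¹ * a⁻¹ * b = a * y := by rw [hy]; group
    rw [h1]
    have hcI : y * a * y⁻¹ * a⁻¹ ∈ A ⊓ conjA A b := by
      have := f5 y hyA₁ a ha
      rwa [commutatorElement_def] at this
    have hca : Commute (y * a * y⁻¹ * a⁻¹) a :=
      Subgroup.mem_centralizer_iff.mp (f4 (Subgroup.mem_sup_left ha)) _ hcI
    have hcy : Commute (y * a * y⁻¹ * a⁻¹) y :=
      Subgroup.mem_centralizer_iff.mp (f4 (Subgroup.mem_sup_right hyA₁)) _ hcI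
    rw [Cfsg.Agent.Helper52.mul_pow_of_commutator_central a y hca hcy e, hAe a ha]
    have hye : y ^ e = 1 := by
      rw [hy]
      have : (b⁻¹ * a⁻¹ * b) ^ e = b⁻¹ * (a⁻¹) ^ e * b := by
        have := conj_pow (a := b⁻¹) (b := a⁻¹) (i := e)
        simpa using this
      rw [this, hAe _ (A.inv_mem ha)]; group
    rw [hye]
    obtain ⟨t, ht⟩ := hodd
    have h2 : e * (e - 1) / 2 = e * t := by
      rw [ht]
      have : (2 * t + 1) * (2 * t + 1 - 1) = 2 * ((2 * t + 1) * t) := by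
        simp only [Nat.add_sub_cancel]; ring
      rw [this, Nat.mul_div_cancel_left _ (by norm_num : 0 < 2)]
    rw [h2, pow_mul, hAe _ (Subgroup.mem_inf.mp hcI).1]
    simp
  -- the subgroup of elements of A* killed by e
  let K : Subgroup S :=
    { carrier := {x | x ∈ replStar A b ∧ x ^ e = 1}
      mul_mem' := by
        rintro u v ⟨hu, hue⟩ ⟨hv, hve⟩
        refine ⟨Subgroup.mul_mem _ hu hv, ?_⟩
        have hc : Commute u v := hcomm u hu v hv
        rw [hc.mul_pow, hue, hve, one_mul]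
      one_mem' := ⟨Subgroup.one_mem _, one_pow e⟩
      inv_mem' := by
        rintro u ⟨hu, hue⟩
        exact ⟨Subgroup.inv_mem _ hu, by rw [inv_pow, hue, inv_one]⟩ }
  have hK : replStar A b ≤ K := by
    apply sup_le
    · intro x hx
      exact ⟨Subgroup.mem_sup_left hx, hAe x (Subgroup.mem_inf.mp hx).1⟩
    · rw [Subgroup.closure_le]
      intro d hd
      exact ⟨Subgroup.mem_sup_right (Subgroup.subset_closure hd), hgen d hd⟩
  apply Monoid.exponent_dvd_of_forall_pow_eq_one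
  intro g
  apply Subtype.ext
  exact (hK g.2).2

end repl

section replcard
variable {S : Type*} [Group S]
variable {B A : Subgroup S} {b : S}

/-- For `a ∈ A`: `a b⁻¹ a⁻¹ b ∈ A ∩ b⁻¹Ab ↔ a ∈ b⁻¹Ab`. -/
theorem repl_gen_mem_I_iff [hBn : B.Normal] (hBA : ⁅B, B⁆ ≤ A) (hb : b ∈ B) {a : S} (ha : a ∈ A) :
    a * b⁻¹ * a⁻¹ * b ∈ A ⊓ conjA A b ↔ a ∈ conjA A b := by
  have hy : b⁻¹ * a⁻¹ * b ∈ conjA A b := by
    rw [mem_conjA_iff]
    have : b * (b⁻¹ * a⁻¹ * b) * b⁻¹ = a⁻¹ := by group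
    rw [this]; exact A.inv_mem ha
  have h1 : a * b⁻¹ * a⁻¹ * b = a * (b⁻¹ * a⁻¹ * b) := by group
  constructor
  · intro h
    have h2 := (Subgroup.mem_inf.mp h).2
    rw [h1] at h2
    have h3 := (conjA A b).mul_mem h2 ((conjA A b).inv_mem hy)
    have h4 : a * (b⁻¹ * a⁻¹ * b) * (b⁻¹ * a⁻¹ * b)⁻¹ = a := by group
    rw [h4] at h3
    exact h3
  · intro h
    rw [Subgroup.mem_inf]
    constructor
    · have h2 : b * a * b⁻¹ ∈ A := mem_conjA_iff.mp h
      have h3 : b⁻¹ * a * b ∈ A := (conj_mem_iff hBA hb ha).mp h2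
      have h4 : b⁻¹ * a⁻¹ * b = (b⁻¹ * a * b)⁻¹ := by group
      rw [h1, h4]
      exact A.mul_mem ha (A.inv_mem h3)
    · rw [h1]; exact (conjA A b).mul_mem h hy

/-- Conclusion (1): `|A*| = |A|`. -/
theorem repl_card [Finite S] {p : ℕ} [hp : Fact p.Prime] (hS : IsPGroup p S) [hBn : B.Normal]
    (hB2 : p = 2 → ∀ x ∈ B, ∀ y ∈ B, x * y = y * x)
    (hA : ∀ x ∈ A, ∀ y ∈ A, x * y = y * x)
    (hBA : ⁅B, B⁆ ≤ A) (hb : b ∈ B)
    (hbN : b ∈ Subgroup.normalizer ((Subgroup.normalizer (A : Set S)) : Set S)) :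
    Nat.card ↥(replStar A b) = Nat.card ↥A := by
  have hcomm := repl_star_comm hS hB2 hA hBA hb hbN
  have hDA := repl_comm_D_A hA hBA hb hbN
  have hIX : A ⊓ conjA A b ≤ replStar A b := le_sup_left
  have hgenX : ∀ a ∈ A, a * b⁻¹ * a⁻¹ * b ∈ replStar A b := fun a ha =>
    Subgroup.mem_sup_right (Subgroup.subset_closure ⟨a, ha, rfl⟩)
  -- I' normal in X
  have hnorm : ((A ⊓ conjA A b).subgroupOf (replStar A b)).Normal := by
    constructor
    intro n hn g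
    have : g * n * g⁻¹ = n := by
      apply Subtype.ext
      have := hcomm g.1 g.2 n.1 n.2
      simp only [Subgroup.coe_mul, Subgroup.coe_inv]
      rw [this]; group
    rw [this]; exact hn
  -- the hom
  have hmul : ∀ a a' : ↥A,
      (QuotientGroup.mk ⟨(a * a').1 * b⁻¹ * (a * a').1⁻¹ * b, hgenX _ (a * a').2⟩ :
        ↥(replStar A b) ⧸ (A ⊓ conjA A b).subgroupOf (replStar A b)) =
      QuotientGroup.mk ⟨a.1 * b⁻¹ * a.1⁻¹ * b, hgenX _ a.2⟩ *
      QuotientGroup.mk ⟨a'.1 * b⁻¹ * a'.1⁻¹ * b, hgenX _ a'.2⟩ := by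
    intro a a'
    rw [← QuotientGroup.mk_mul, QuotientGroup.eq, Subgroup.mem_subgroupOf]
    simp only [Subgroup.coe_mul, Subgroup.coe_inv]
    -- c = ⁅d_{a'}, a⁆ ∈ I
    have hd' : a'.1 * b⁻¹ * a'.1⁻¹ * b ∈ Subgroup.closure (replGens A b) :=
      Subgroup.subset_closure ⟨a'.1, a'.2, rfl⟩
    have hc := hDA _ hd' a.1 a.2
    have hdd : (a.1 * b⁻¹ * a.1⁻¹ * b) * (a'.1 * b⁻¹ * a'.1⁻¹ * b) =
        (a'.1 * b⁻¹ * a'.1⁻¹ * b) * (a.1 * b⁻¹ * a.1⁻¹ * b) :=
      hcomm _ (hgenX _ a.2) _ (hgenX _ a'.2)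
    have h1 : (a.1 * a'.1 * b⁻¹ * (a.1 * a'.1)⁻¹ * b)⁻¹ *
        ((a.1 * b⁻¹ * a.1⁻¹ * b) * (a'.1 * b⁻¹ * a'.1⁻¹ * b)) =
        ((a'.1 * b⁻¹ * a'.1⁻¹ * b) * (a.1 * b⁻¹ * a.1⁻¹ * b))⁻¹ * ⁅a'.1 * b⁻¹ * a'.1⁻¹ * b, a.1⁆ *
          ((a'.1 * b⁻¹ * a'.1⁻¹ * b) * (a.1 * b⁻¹ * a.1⁻¹ * b)) := by
      rw [hdd, commutatorElement_def]; group
    rw [h1]
    have hcX : ⁅a'.1 * b⁻¹ * a'.1⁻¹ * b, a.1⁆ ∈ replStar A b := hIX hc
    have h2 := hcomm _ hcX _ (Subgroup.mul_mem _ (hgenX _ a'.2) (hgenX _ a.2))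
    have h3 : ((a'.1 * b⁻¹ * a'.1⁻¹ * b) * (a.1 * b⁻¹ * a.1⁻¹ * b))⁻¹ * ⁅a'.1 * b⁻¹ * a'.1⁻¹ * b, a.1⁆ *
          ((a'.1 * b⁻¹ * a'.1⁻¹ * b) * (a.1 * b⁻¹ * a.1⁻¹ * b)) =
        ⁅a'.1 * b⁻¹ * a'.1⁻¹ * b, a.1⁆ := by
      rw [mul_assoc, h2]; group
    rw [h3]; exact hc
  let θ : ↥A →* ↥(replStar A b) ⧸ (A ⊓ conjA A b).subgroupOf (replStar A b) :=
    MonoidHom.mk' (fun a => QuotientGroup.mk ⟨a.1 * b⁻¹ * a.1⁻¹ * b, hgenX _ a.2⟩) hmul
  have hθ : ∀ a : ↥A, θ a = QuotientGroup.mk ⟨a.1 * b⁻¹ * a.1⁻¹ * b, hgenX _ a.2⟩ := fun a => rfl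
  -- kernel
  have hker : θ.ker = (A ⊓ conjA A b).subgroupOf A := by
    ext a
    rw [MonoidHom.mem_ker, hθ, QuotientGroup.eq_one_iff, Subgroup.mem_subgroupOf, Subgroup.mem_subgroupOf]
    simp only []
    rw [repl_gen_mem_I_iff hBA hb a.2, Subgroup.mem_inf]
    exact ⟨fun h => ⟨a.2, h⟩, fun h => h.2⟩
  -- surjective
  have hsurj : Function.Surjective θ := by
    rw [← MonoidHom.range_eq_top]
    have hle : replStar A b ≤ ((θ.range.comap (QuotientGroup.mk' _)).map (replStar A b).subtype) := by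
      apply sup_le
      · intro x hx
        refine ⟨⟨x, hIX hx⟩, ?_, rfl⟩
        rw [SetLike.mem_coe, Subgroup.mem_comap]
        have : (QuotientGroup.mk' ((A ⊓ conjA A b).subgroupOf (replStar A b))) ⟨x, hIX hx⟩ = 1 := by
          rw [QuotientGroup.mk'_apply, QuotientGroup.eq_one_iff, Subgroup.mem_subgroupOf]
          exact hx
        rw [this]; exact Subgroup.one_mem _
      · rw [Subgroup.closure_le]
        rintro d ⟨a, ha, rfl⟩
        refine ⟨⟨_, hgenX a ha⟩, ?_, rfl⟩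
        rw [SetLike.mem_coe, Subgroup.mem_comap]
        exact ⟨⟨a, ha⟩, rfl⟩
    rw [eq_top_iff]
    intro q _
    obtain ⟨x, rfl⟩ := QuotientGroup.mk_surjective q
    obtain ⟨y, hy, hyx⟩ := hle x.2
    have : y = x := Subtype.ext hyx
    rw [← this]
    exact hy
  -- count
  have e1 := QuotientGroup.quotientKerEquivOfSurjective θ hsurj
  have h1 : Nat.card ↥A = Nat.card (↥A ⧸ θ.ker) * Nat.card θ.ker :=
    Subgroup.card_eq_card_quotient_mul_card_subgroup θ.ker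
  have h2 : Nat.card ↥(replStar A b) =
      Nat.card (↥(replStar A b) ⧸ (A ⊓ conjA A b).subgroupOf (replStar A b)) *
      Nat.card ((A ⊓ conjA A b).subgroupOf (replStar A b)) :=
    Subgroup.card_eq_card_quotient_mul_card_subgroup _
  have h3 : Nat.card ((A ⊓ conjA A b).subgroupOf (replStar A b)) = Nat.card ↥(A ⊓ conjA A b) :=
    Nat.card_congr (Subgroup.subgroupOfEquivOfLe hIX).toEquiv
  have h4 : Nat.card θ.ker = Nat.card ↥(A ⊓ conjA A b) := by
    rw [hker]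
    exact Nat.card_congr (Subgroup.subgroupOfEquivOfLe inf_le_left).toEquiv
  rw [h1, h2, h3, h4, Nat.card_congr e1.toEquiv]

end replcard

end Cfsg.Agent.Helper11
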