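import Mathlib
import Cfsg.Prelude.Def_PLocal
import Cfsg.Agent.Helper11.Replacement
import Cfsg.Agent.Helper11.PSolvable

set_option autoImplicit false

namespace Cfsg.Agent.Helper11

open scoped commutatorElement

section uniserial
variable {L : Type*} [Group L]

theorem iterCommutator_zero (N G : Subgroup L) : Cfsg.iterCommutator N G 0 = N := rfl

theorem iterCommutator_succ (N G : Subgroup L) (i : ℕ) :
    Cfsg.iterCommutator N G (i + 1) = ⁅Cfsg.iterCommutator N G i, G⁆ := rfl

/-- If `g` conjugates `A` and `B` into `X` then it conjugates `A ⊔ B` into `X`. -/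
theorem conj_mem_of_sup (A B X : Subgroup L) (g : L)
    (hA : ∀ x ∈ A, g * x * g⁻¹ ∈ X) (hB : ∀ x ∈ B, g * x * g⁻¹ ∈ X) :
    ∀ x ∈ A ⊔ B, g * x * g⁻¹ ∈ X := by
  have hle : A ⊔ B ≤ X.comap (MulAut.conj g).toMonoidHom := by
    apply sup_le
    · intro x hx; exact hA x hx
    · intro x hx; exact hB x hx
  intro x hx
  exact hle hx

/-- `G` normalizes `⁅H, G⁆` when it normalizes `H`. -/
theorem le_normalizer_commutator [Finite L] {H G : Subgroup L}
    (h : G ≤ Subgroup.normalizer (H : Set L)) : G ≤ Subgroup.normalizer ((⁅H, G⁆ : Subgroup L) : Set L) := by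
  intro g hg
  apply mem_normalizer_of_conj_mem
  have hle : ⁅H, G⁆ ≤ (⁅H, G⁆).comap (MulAut.conj g).toMonoidHom := by
    rw [Subgroup.commutator_le]
    intro x hx y hy
    rw [Subgroup.mem_comap]
    simp only [MulEquiv.coe_toMonoidHom, MulAut.conj_apply]
    have h1 : g * ⁅x, y⁆ * g⁻¹ = ⁅g * x * g⁻¹, g * y * g⁻¹⁆ := by
      simp only [commutatorElement_def]; group
    rw [h1]
    apply Subgroup.commutator_mem_commutator
    · exact (Subgroup.mem_normalizer_iff.mp (h hg) x).mp hx
    · exact G.mul_mem (G.mul_mem hg hy) (G.inv_mem hg)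
  intro x hx
  exact hle hx

/-- `⁅H, G⁆ ≤ H` when `G` normalizes `H`. -/
theorem commutator_le_of_le_normalizer {H G : Subgroup L}
    (h : G ≤ Subgroup.normalizer (H : Set L)) : ⁅H, G⁆ ≤ H :=
  Subgroup.le_normalizer_iff_commutator_le_left.mp h

/-- A nontrivial `p`-group `H` normalized by a `p`-group `G` is not equal to `⁅H, G⁆`. -/
theorem commutator_ne_self [Finite L] {p : ℕ} [hp : Fact p.Prime] {H G : Subgroup L}
    (hH : IsPGroup p H) (hG : IsPGroup p G) (h : G ≤ Subgroup.normalizer (H : Set L)) (hne : H ≠ ⊥) :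
    ⁅H, G⁆ ≠ H := by
  intro heq
  have hΓ : IsPGroup p (H ⊔ G : Subgroup L) := IsPGroup.to_sup_of_normal_left' hH hG h
  haveI : Group.IsNilpotent ↥(H ⊔ G) := hΓ.isNilpotent
  obtain ⟨k, hk⟩ := (Subgroup.isNilpotent_iff_lowerCentralSeries (H ⊔ G)).mp
    (inferInstance : Group.IsNilpotent ↥(H ⊔ G))
  have hall : ∀ k, H ≤ (H ⊔ G).lowerCentralSeries k := by
    intro k
    induction k with
    | zero => exact le_sup_left
    | succ k ih =>
      rw [Subgroup.lowerCentralSeries_succ]
      calc H = ⁅H, G⁆ := heq.symm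
        _ ≤ ⁅(H ⊔ G).lowerCentralSeries k, H ⊔ G⁆ := Subgroup.commutator_mono ih le_sup_right
  have := hall k
  rw [hk] at this
  exact hne (le_bot_iff.mp this)

end uniserial

end Cfsg.Agent.Helper11
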