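import Cfsg.Agent.Helper11.OffenderFF

/-!
# Minimal best offenders have order `p` (helper11)
-/

set_option autoImplicit false

namespace Cfsg.Agent.Helper11

open scoped commutatorElement

/-- For a cyclic `A = ⟨a⟩` normalizing the abelian group `V`: `|[V, A]| |C_V(A)| = |V|`. -/
theorem card_commutator_mul_card_fixed_of_cyclic {G : Type*} [Group G] [Finite G] (V A : Subgroup G)
    (hVcomm : ∀ x ∈ V, ∀ y ∈ V, x * y = y * x) (a : G) (haA : a ∈ A)
    (haV : a ∈ Subgroup.normalizer (V : Set G)) (hgen : ∀ g ∈ A, ∃ i : ℕ, g = a ^ i) :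
    Nat.card ↥(⁅V, A⁆) * Nat.card ↥(V ⊓ Subgroup.centralizer (A : Set G)) = Nat.card V := by
  have hconj : ∀ v ∈ V, a * v * a⁻¹ ∈ V := fun v hv => (Subgroup.mem_normalizer_iff.mp haV v).mp hv
  -- the commutator homomorphism
  let f : ↥V →* G :=
    { toFun := fun v => (v : G) * a * (v : G)⁻¹ * a⁻¹
      map_one' := by simp
      map_mul' := by
        intro v w
        have hv' : a * (v : G)⁻¹ * a⁻¹ ∈ V := hconj _ (V.inv_mem v.2)
        have hw' : a * (w : G)⁻¹ * a⁻¹ ∈ V := hconj _ (V.inv_mem w.2)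
        have h1 : (w : G) * (a * (w : G)⁻¹ * a⁻¹) * (a * (v : G)⁻¹ * a⁻¹) =
            (a * (v : G)⁻¹ * a⁻¹) * ((w : G) * (a * (w : G)⁻¹ * a⁻¹)) :=
          hVcomm _ (V.mul_mem w.2 hw') _ hv'
        show ((v * w : ↥V) : G) * a * ((v * w : ↥V) : G)⁻¹ * a⁻¹ =
          ((v : G) * a * (v : G)⁻¹ * a⁻¹) * ((w : G) * a * (w : G)⁻¹ * a⁻¹)
        rw [Subgroup.coe_mul]
        calc (v : G) * w * a * ((v : G) * w)⁻¹ * a⁻¹
            = (v : G) * ((w : G) * (a * (w : G)⁻¹ * a⁻¹) * (a * (v : G)⁻¹ * a⁻¹)) := by group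
          _ = (v : G) * ((a * (v : G)⁻¹ * a⁻¹) * ((w : G) * (a * (w : G)⁻¹ * a⁻¹))) := by rw [h1]
          _ = ((v : G) * a * (v : G)⁻¹ * a⁻¹) * ((w : G) * a * (w : G)⁻¹ * a⁻¹) := by group }
  have hf : ∀ v : ↥V, f v = ⁅(v : G), a⁆ := fun v => rfl
  -- range
  have hpow : ∀ n : ℕ, ∀ v ∈ V, ⁅v, a ^ n⁆ ∈ f.range := by
    intro n
    induction n with
    | zero =>
      intro v _
      simp [commutatorElement_def]
    | succ n ih =>
      intro v hv
      have h1 : ⁅v, a ^ (n + 1)⁆ = ⁅v, a⁆ * ⁅a * v * a⁻¹, a ^ n⁆ := by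
        rw [commutatorElement_def, commutatorElement_def, commutatorElement_def, pow_succ']
        have hc : a * a ^ n = a ^ n * a := (Commute.self_pow a n)
        have hc' : (a ^ n)⁻¹ * a⁻¹ = a⁻¹ * (a ^ n)⁻¹ := by
          rw [← mul_inv_rev, ← mul_inv_rev, hc]
        calc v * (a * a ^ n) * v⁻¹ * (a * a ^ n)⁻¹
            = v * a * a ^ n * v⁻¹ * ((a ^ n)⁻¹ * a⁻¹) := by group
          _ = v * a * a ^ n * v⁻¹ * (a⁻¹ * (a ^ n)⁻¹) := by rw [hc']
          _ = v * a * v⁻¹ * a⁻¹ * (a * v * a⁻¹ * a ^ n * (a * v * a⁻¹)⁻¹ * (a ^ n)⁻¹) := by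
              rw [show a * v * a⁻¹ * a ^ n = a * v * (a⁻¹ * a ^ n) by group,
                show a⁻¹ * a ^ n = a ^ n * a⁻¹ by
                  rw [eq_mul_inv_iff_mul_eq, mul_assoc, ← hc, inv_mul_cancel_left]]
              group
      rw [h1]
      exact f.range.mul_mem ⟨⟨v, hv⟩, rfl⟩ (ih _ (hconj v hv))
  have hrange : f.range = ⁅V, A⁆ := by
    apply le_antisymm
    · rintro _ ⟨v, rfl⟩
      rw [hf]
      exact Subgroup.commutator_mem_commutator v.2 haA
    · rw [Subgroup.commutator_le]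
      intro v hv g hg
      obtain ⟨i, rfl⟩ := hgen g hg
      exact hpow i v hv
  -- kernel
  have hker : f.ker.map V.subtype = V ⊓ Subgroup.centralizer (A : Set G) := by
    ext v
    constructor
    · rintro ⟨w, hw, rfl⟩
      have hw' : (w : G) * a * (w : G)⁻¹ * a⁻¹ = 1 := MonoidHom.mem_ker.mp hw
      have hwa : (w : G) * a = a * w := by
        calc (w : G) * a = ((w : G) * a * (w : G)⁻¹ * a⁻¹) * a * w := by group
          _ = a * w := by rw [hw', one_mul]
      refine Subgroup.mem_inf.mpr ⟨w.2, ?_⟩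
      rw [Subgroup.mem_centralizer_iff]
      intro g hg
      obtain ⟨i, rfl⟩ := hgen g hg
      exact ((Commute.pow_right (show Commute (w : G) a from hwa) i).eq).symm
    · intro hv
      have hv := Subgroup.mem_inf.mp hv
      refine ⟨⟨v, hv.1⟩, MonoidHom.mem_ker.mpr ?_, rfl⟩
      have hav : a * v = v * a := Subgroup.mem_centralizer_iff.mp hv.2 a haA
      show v * a * v⁻¹ * a⁻¹ = 1
      rw [← hav]
      group
  have h1 := Subgroup.card_mul_index f.ker
  rw [Subgroup.index_ker, hrange] at h1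
  have h2 : Nat.card ↥(V ⊓ Subgroup.centralizer (A : Set G)) = Nat.card f.ker := by
    rw [← hker, Subgroup.card_map_of_injective V.subtype_injective]
  rw [h2, mul_comm]
  exact h1


/-- **S0611 core**: a minimal nontrivially acting best offender has order `p`, `|[V, A]| = p` and
`|V : C_V(A)| = p`. -/
theorem minimal_bestOffender {G : Type*} [Group G] [Finite G] {p : ℕ} [Fact p.Prime] (V H : Subgroup G)
    (hV : Cfsg.IsElementaryAbelian p V) (hHV : H ≤ Subgroup.normalizer (V : Set G))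
    (hf : H ⊓ Subgroup.centralizer (V : Set G) = ⊥)
    (hS1 : Subgroup.centralizer (Cfsg.pPrimeCore p ↥H : Set ↥H) ≤ Cfsg.pPrimeCore p ↥H)
    (A : Subgroup G) (hAH : A ≤ H) (hA : Cfsg.IsBestOffenderOn p V A) (hAV : ⁅V, A⁆ ≠ ⊥)
    (hmin : ∀ B : Subgroup G, B ≤ A → Cfsg.IsBestOffenderOn p V B → ⁅V, B⁆ ≠ ⊥ → B = A) :
    Nat.card A = p ∧ Nat.card ↥(⁅V, A⁆) = p ∧
      ((V ⊓ Subgroup.centralizer (A : Set G))).relIndex V = p := by
  have hp : p.Prime := Fact.out
  have hS := ffSetting_of_hyps V H hV hHV hf hS1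
  have hcomm := bestOffender_comm hf hAH hA
  have hexp := bestOffender_exp hf hAH hA
  have hA1 : A ≠ ⊥ := by
    intro h
    apply hAV
    rw [h, Subgroup.commutator_bot_right]
  obtain ⟨B, hBA, a, haA, haB, hgen, hle⟩ := offender_step hS A hAH hcomm hexp hA1
  -- `B` is a best offender
  have hBbest : Cfsg.IsBestOffenderOn p V B := by
    refine ⟨?_, (Subgroup.commutator_mono hBA hBA).trans hA.2.1, fun b hb => hA.2.2 b (hBA hb)⟩
    intro B' hB'
    exact (hA.1 B' (hB'.trans hBA)).trans hle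
  -- so it acts trivially, hence is trivial
  have hB1 : B = ⊥ := by
    by_contra hne
    have hVB : ⁅V, B⁆ = ⊥ := by
      by_contra hVB
      have := hmin B hBA hBbest hVB
      exact haB (this ▸ haA)
    rw [Subgroup.commutator_eq_bot_iff_le_centralizer, Subgroup.le_centralizer_iff] at hVB
    apply hne
    rw [eq_bot_iff, ← hf]
    exact le_inf (hBA.trans hAH) hVB
  have hgen' : ∀ g ∈ A, ∃ i : ℕ, g = a ^ i := by
    intro g hg
    obtain ⟨b, hb, i, hi⟩ := hgen g hg
    rw [hB1, Subgroup.mem_bot] at hb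
    exact ⟨i, by rw [hi, hb, one_mul]⟩
  have ha1 : a ≠ 1 := by
    intro h
    apply haB
    rw [h]; exact B.one_mem
  -- |A| = p
  have hAz : A = Subgroup.zpowers a := by
    apply le_antisymm
    · intro g hg
      obtain ⟨i, rfl⟩ := hgen' g hg
      exact Subgroup.pow_mem _ (Subgroup.mem_zpowers a) i
    · rw [Subgroup.zpowers_le]; exact haA
  have hcardA : Nat.card A = p := by
    rw [hAz, Nat.card_zpowers]
    exact orderOf_eq_prime (hexp a haA) ha1
  have hmeasure := bestOffender_card_mul V H hV hHV hf hS1 A hAH hA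
  rw [hcardA] at hmeasure
  have hVcomm : ∀ x ∈ V, ∀ y ∈ V, x * y = y * x := by
    intro x hx y hy
    have := hV.1
    exact congrArg Subtype.val (mul_comm' (⟨x, hx⟩ : ↥V) ⟨y, hy⟩)
  have hcomm_card := card_commutator_mul_card_fixed_of_cyclic V A hVcomm a haA (hHV (hAH haA)) hgen'
  have hpos : 0 < Nat.card ↥(V ⊓ Subgroup.centralizer (A : Set G)) := Nat.card_pos
  refine ⟨hcardA, ?_, ?_⟩
  · have : Nat.card ↥(⁅V, A⁆) * Nat.card ↥(V ⊓ Subgroup.centralizer (A : Set G)) =
        p * Nat.card ↥(V ⊓ Subgroup.centralizer (A : Set G)) := by rw [hcomm_card, hmeasure]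
    exact Nat.eq_of_mul_eq_mul_right hpos this
  · have h1 := Subgroup.relIndex_mul_relIndex ⊥ (V ⊓ Subgroup.centralizer (A : Set G)) V bot_le inf_le_left
    rw [Subgroup.relIndex_bot_left, Subgroup.relIndex_bot_left, ← hmeasure, mul_comm] at h1
    exact Nat.eq_of_mul_eq_mul_right hpos h1

end Cfsg.Agent.Helper11
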