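import Cfsg.Agent.Helper11.OffenderHyp2
import Cfsg.Agent.Helper11.OffenderMin

/-!
# Best offenders are direct products of minimal ones (helper11)
-/

set_option autoImplicit false

namespace Cfsg.Agent.Helper11

/-- One step, refined: for `1 ≠ c ∈ A` there is a "hyperplane" `B` of `A` avoiding `c` with at least the same measure. -/
theorem offender_step_at {p : ℕ} [Fact p.Prime] {G : Type*} [Group G] [Finite G] {V H Q : Subgroup G}
    (hS : FFSetting p V H Q) (A : Subgroup G) (hAH : A ≤ H)
    (hcomm : ∀ x ∈ A, ∀ y ∈ A, x * y = y * x) (hexp : ∀ a ∈ A, a ^ p = 1) (a : G) (haA : a ∈ A)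
    (ha1 : a ≠ 1) :
    ∃ B : Subgroup G, B ≤ A ∧ a ∉ B ∧ (∀ g ∈ A, ∃ b ∈ B, ∃ i : ℕ, g = b * a ^ i) ∧
      Nat.card A * Nat.card ↥(V ⊓ Subgroup.centralizer (A : Set G)) ≤
        Nat.card B * Nat.card ↥(V ⊓ Subgroup.centralizer (B : Set G)) := by
  have hp : p.Prime := Fact.out
  have hcopQ : (Nat.card Q).Coprime p := ((Nat.Prime.coprime_iff_not_dvd hp).mpr hS.pQ).symm
  -- `a` does not centralize `Q`
  have hnc : ∃ x ∈ Q, a * x ≠ x * a := by
    by_contra hcon
    simp only [not_exists, not_and, not_not] at hcon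
    apply ha1
    have haQ : a ∈ Q := hS.selfC a (hAH haA) hcon
    have h1 : orderOf a ∣ p := orderOf_dvd_of_pow_eq_one (hexp a haA)
    have h2 : orderOf a ∣ Nat.card Q := Subgroup.orderOf_dvd_natCard Q haQ
    have h3 : orderOf a ∣ 1 := by
      have := Nat.dvd_gcd h2 h1
      rwa [hcopQ] at this
    exact orderOf_eq_one_iff.mp (Nat.dvd_one.mp h3)
  obtain ⟨B, hBA, hgen, x, hxQ, hBx, hax⟩ :=
    exists_hyperplane_avoiding A Q hcomm hexp (hAH.trans hS.normQ) hS.pQ a haA hnc
  have haB : a ∉ B := fun h => hax (hBx a h)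
  refine ⟨B, hBA, haB, hgen, ?_⟩
  -- the commutator
  have hkQ : a * x * a⁻¹ * x⁻¹ ∈ Q :=
    Q.mul_mem ((Subgroup.mem_normalizer_iff.mp (hS.normQ (hAH haA)) x).mp hxQ) (Q.inv_mem hxQ)
  have hkH : a * x * a⁻¹ * x⁻¹ ∈ H := hS.QH hkQ
  have hk1 : a * x * a⁻¹ * x⁻¹ ≠ 1 := by
    intro h
    apply hax
    calc a * x = (a * x * a⁻¹ * x⁻¹) * x * a := by group
      _ = x * a := by rw [h, one_mul]
  have hkV : ∃ v ∈ V, (a * x * a⁻¹ * x⁻¹) * v ≠ v * (a * x * a⁻¹ * x⁻¹) := by
    by_contra hcon
    simp only [not_exists, not_and, not_not] at hcon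
    apply hk1
    have : a * x * a⁻¹ * x⁻¹ ∈ H ⊓ Subgroup.centralizer (V : Set G) := by
      refine Subgroup.mem_inf.mpr ⟨hkH, ?_⟩
      rw [Subgroup.mem_centralizer_iff]
      intro v hv
      exact (hcon v hv).symm
    rw [hS.faithful] at this
    exact Subgroup.mem_bot.mp this
  have hcop : (orderOf (a * x * a⁻¹ * x⁻¹)).Coprime p :=
    Nat.Coprime.coprime_dvd_left (Subgroup.orderOf_dvd_natCard Q hkQ) hcopQ
  have hBp : IsPGroup p B := by
    intro b
    exact ⟨1, Subtype.ext (by simpa using hexp b (hBA b.2))⟩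
  obtain ⟨v, hvV, hvB, hva⟩ := exists_fixed_not_centralized V B hS.pV hBp
    ((hBA.trans hAH).trans hS.norm) (hS.norm (hAH haA)) (hS.norm (hS.QH hxQ))
    (fun b hb => hcomm b (hBA hb) a haA) hBx hcop hkV
  -- strict containment of fixed points
  have hlt : V ⊓ Subgroup.centralizer (A : Set G) < V ⊓ Subgroup.centralizer (B : Set G) := by
    refine lt_of_le_of_ne (inf_le_inf_left _ (Subgroup.centralizer_le hBA)) ?_
    intro heq
    have hv : v ∈ V ⊓ Subgroup.centralizer (B : Set G) := by
      refine Subgroup.mem_inf.mpr ⟨hvV, ?_⟩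
      rw [Subgroup.mem_centralizer_iff]
      intro b hb
      exact hvB b hb
    rw [← heq] at hv
    have := (Subgroup.mem_inf.mp hv).2
    rw [Subgroup.mem_centralizer_iff] at this
    exact hva (this a haA)
  have hCBp : IsPGroup p ↥(V ⊓ Subgroup.centralizer (B : Set G)) :=
    hS.pV.to_le inf_le_left
  have h1 := mul_card_le_of_lt hCBp hlt
  have h2 := card_le_card_mul_of_gen hBA haA (hexp a haA) hgen
  calc Nat.card A * Nat.card ↥(V ⊓ Subgroup.centralizer (A : Set G))
      ≤ (Nat.card B * p) * Nat.card ↥(V ⊓ Subgroup.centralizer (A : Set G)) :=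
        Nat.mul_le_mul_right _ h2
    _ = Nat.card B * (p * Nat.card ↥(V ⊓ Subgroup.centralizer (A : Set G))) := by ring
    _ ≤ Nat.card B * Nat.card ↥(V ⊓ Subgroup.centralizer (B : Set G)) :=
        Nat.mul_le_mul_left _ h1


/-- elements of the join of two elementwise commuting subgroups are products. -/
theorem exists_mul_of_mem_sup_of_commute {G : Type*} [Group G] {C R : Subgroup G}
    (hCR : ∀ c ∈ C, ∀ r ∈ R, c * r = r * c) {x : G} (hx : x ∈ C ⊔ R) :
    ∃ c ∈ C, ∃ r ∈ R, x = c * r := by
  let M : Subgroup G :=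
    { carrier := {g | ∃ c ∈ C, ∃ r ∈ R, g = c * r}
      one_mem' := ⟨1, C.one_mem, 1, R.one_mem, by simp⟩
      mul_mem' := by
        rintro _ _ ⟨c, hc, r, hr, rfl⟩ ⟨c', hc', r', hr', rfl⟩
        refine ⟨c * c', C.mul_mem hc hc', r * r', R.mul_mem hr hr', ?_⟩
        have h := hCR c' hc' r hr
        calc c * r * (c' * r') = c * (r * c') * r' := by group
          _ = c * (c' * r) * r' := by rw [h]
          _ = c * c' * (r * r') := by group
      inv_mem' := by
        rintro _ ⟨c, hc, r, hr, rfl⟩
        refine ⟨c⁻¹, C.inv_mem hc, r⁻¹, R.inv_mem hr, ?_⟩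
        have h := hCR c⁻¹ (C.inv_mem hc) r⁻¹ (R.inv_mem hr)
        rw [mul_inv_rev, h] }
  have hle : C ⊔ R ≤ M := by
    apply sup_le
    · intro c hc; exact ⟨c, hc, 1, R.one_mem, by simp⟩
    · intro r hr; exact ⟨1, C.one_mem, r, hr, by simp⟩
  exact hle hx

/-- **S0612 core**: every best offender `A ≤ H` is the direct product of minimal nontrivially acting best offenders. -/
theorem bestOffender_decomp {G : Type*} [Group G] [Finite G] {p : ℕ} [Fact p.Prime] (V H : Subgroup G)
    (hV : Cfsg.IsElementaryAbelian p V) (hHV : H ≤ Subgroup.normalizer (V : Set G))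
    (hf : H ⊓ Subgroup.centralizer (V : Set G) = ⊥)
    (hS1 : Subgroup.centralizer (Cfsg.pPrimeCore p ↥H : Set ↥H) ≤ Cfsg.pPrimeCore p ↥H) :
    ∀ (n : ℕ) (A : Subgroup G), Nat.card A = n → A ≤ H → Cfsg.IsBestOffenderOn p V A →
      ∃ (k : ℕ) (B : Fin k → Subgroup G),
        (∀ i, B i ≤ A ∧ Cfsg.IsBestOffenderOn p V (B i) ∧ ⁅V, B i⁆ ≠ ⊥ ∧
          ∀ C : Subgroup G, C ≤ B i → Cfsg.IsBestOffenderOn p V C → ⁅V, C⁆ ≠ ⊥ → C = B i) ∧
        iSupIndep B ∧ ⨆ i, B i = A := by
  classical
  have hp : p.Prime := Fact.out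
  have hS := ffSetting_of_hyps V H hV hHV hf hS1
  intro n
  induction n using Nat.strong_induction_on with
  | _ n ih =>
    intro A hn hAH hA
    by_cases hA1 : A = ⊥
    · refine ⟨0, fun i => i.elim0, fun i => i.elim0, iSupIndep_subsingleton _, ?_⟩
      rw [hA1]
      exact iSup_of_empty _
    · have hcomm := bestOffender_comm hf hAH hA
      have hexp := bestOffender_exp hf hAH hA
      -- nontrivial subgroups of `H` act nontrivially
      have hact : ∀ X : Subgroup G, X ≤ H → X ≠ ⊥ → ⁅V, X⁆ ≠ ⊥ := by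
        intro X hXH hX1 hVX
        rw [Subgroup.commutator_eq_bot_iff_le_centralizer, Subgroup.le_centralizer_iff] at hVX
        apply hX1
        rw [eq_bot_iff, ← hf]
        exact le_inf hXH hVX
      -- a minimal nontrivially acting best offender inside `A`
      let T : Set (Subgroup G) := {C | C ≤ A ∧ Cfsg.IsBestOffenderOn p V C ∧ ⁅V, C⁆ ≠ ⊥}
      have hTne : T.Nonempty := ⟨A, le_refl A, hA, hact A hAH hA1⟩
      obtain ⟨C, ⟨hCA, hCBO, hCV⟩, hCmin⟩ :=
        Set.exists_min_image T (fun C : Subgroup G => Nat.card C) (Set.toFinite T) hTne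
      have hCminimal : ∀ D : Subgroup G, D ≤ C → Cfsg.IsBestOffenderOn p V D → ⁅V, D⁆ ≠ ⊥ → D = C := by
        intro D hDC hD hDV
        exact Subgroup.eq_of_le_of_card_ge hDC (hCmin D ⟨hDC.trans hCA, hD, hDV⟩)
      have hCcard : Nat.card C = p :=
        (minimal_bestOffender V H hV hHV hf hS1 C (hCA.trans hAH) hCBO hCV hCminimal).1
      have hC1 : C ≠ ⊥ := by
        intro h
        apply hCV
        rw [h, Subgroup.commutator_bot_right]
      obtain ⟨⟨c, hcC⟩, hc1'⟩ := (Subgroup.ne_bot_iff_exists_ne_one).mp hC1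
      have hc1 : c ≠ 1 := fun h => hc1' (Subtype.ext h)
      obtain ⟨B, hBA, hcB, hgen, hle⟩ := offender_step_at hS A hAH hcomm hexp c (hCA hcC) hc1
      have hBBO : Cfsg.IsBestOffenderOn p V B := by
        refine ⟨?_, (Subgroup.commutator_mono hBA hBA).trans hA.2.1, fun b hb => hA.2.2 b (hBA hb)⟩
        intro B' hB'
        exact (hA.1 B' (hB'.trans hBA)).trans hle
      have hBlt : Nat.card B < n := by
        rw [← hn]
        by_contra hge
        have hge := not_lt.mp hge
        have := Subgroup.eq_of_le_of_card_ge hBA hge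
        exact hcB (this ▸ (hCA hcC))
      obtain ⟨k, t, ht, hindep, hsup⟩ := ih _ hBlt B rfl (hBA.trans hAH) hBBO
      -- `C ∩ B = 1`
      have hCB : C ⊓ B = ⊥ := by
        have hdvd : Nat.card ↥(C ⊓ B) ∣ p := hCcard ▸ Subgroup.card_dvd_of_le (inf_le_left : C ⊓ B ≤ C)
        rcases (Nat.dvd_prime hp).mp hdvd with h | h
        · exact Subgroup.eq_bot_of_card_eq _ h
        · exfalso
          have : C ⊓ B = C := Subgroup.eq_of_le_of_card_ge inf_le_left (by rw [h, hCcard])
          exact hcB ((inf_eq_left.mp this) hcC)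
      have htB : ∀ j, t j ≤ B := fun j => hsup ▸ le_iSup t j
      refine ⟨k + 1, Fin.cons (α := fun _ => Subgroup G) C t, ?_, ?_, ?_⟩
      · intro i
        refine Fin.cases ?_ ?_ i
        · rw [Fin.cons_zero]
          exact ⟨hCA, hCBO, hCV, hCminimal⟩
        · intro j
          rw [Fin.cons_succ]
          exact ⟨(ht j).1.trans hBA, (ht j).2⟩
      · rw [iSupIndep_def]
        intro i
        refine Fin.cases ?_ ?_ i
        · rw [Fin.cons_zero]
          have hle' : (⨆ (j : Fin (k + 1)) (_ : j ≠ 0), Fin.cons (α := fun _ => Subgroup G) C t j) ≤ B := by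
            apply iSup_le
            intro j
            apply iSup_le
            refine Fin.cases ?_ ?_ j
            · intro h; exact absurd rfl h
            · intro j' _
              rw [Fin.cons_succ]
              exact htB j'
          exact (disjoint_iff.mpr hCB).mono_right hle'
        · intro j
          rw [Fin.cons_succ]
          set R : Subgroup G := ⨆ (l : Fin k) (_ : l ≠ j), t l with hR
          have hRB : R ≤ B := by
            apply iSup_le; intro l; apply iSup_le; intro _; exact htB l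
          have hle' : (⨆ (l : Fin (k + 1)) (_ : l ≠ j.succ), Fin.cons (α := fun _ => Subgroup G) C t l) ≤ C ⊔ R := by
            apply iSup_le
            intro l
            apply iSup_le
            refine Fin.cases ?_ ?_ l
            · intro _
              rw [Fin.cons_zero]
              exact le_sup_left
            · intro l' hl'
              rw [Fin.cons_succ]
              have hne : l' ≠ j := fun h => hl' (by rw [h])
              exact le_trans (le_iSup₂ (f := fun (l : Fin k) (_ : l ≠ j) => t l) l' hne) le_sup_right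
          refine Disjoint.mono_right hle' ?_
          rw [Subgroup.disjoint_def]
          intro x hxt hxCR
          have hcommCR : ∀ c ∈ C, ∀ r ∈ R, c * r = r * c :=
            fun c hc r hr => hcomm c (hCA hc) r (hBA (hRB hr))
          obtain ⟨c', hc', r, hr, hxeq⟩ := exists_mul_of_mem_sup_of_commute hcommCR hxCR
          have hc'B : c' ∈ B := by
            have : c' = x * r⁻¹ := by rw [hxeq]; group
            rw [this]
            exact B.mul_mem (htB j hxt) (B.inv_mem (hRB hr))
          have hc'1 : c' = 1 := by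
            have : c' ∈ C ⊓ B := Subgroup.mem_inf.mpr ⟨hc', hc'B⟩
            rw [hCB] at this
            exact Subgroup.mem_bot.mp this
          have hxr : x = r := by rw [hxeq, hc'1, one_mul]
          have hdisj := (iSupIndep_def.mp hindep) j
          exact (Subgroup.disjoint_def.mp hdisj) hxt (hxr ▸ hr)
      · apply le_antisymm
        · apply iSup_le
          intro i
          refine Fin.cases ?_ ?_ i
          · rw [Fin.cons_zero]; exact hCA
          · intro j; rw [Fin.cons_succ]; exact (htB j).trans hBA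
        · intro g hg
          obtain ⟨b, hb, i, rfl⟩ := hgen g hg
          refine Subgroup.mul_mem _ ?_ ?_
          · have hBle : B ≤ ⨆ i, Fin.cons (α := fun _ => Subgroup G) C t i := by
              rw [← hsup]
              apply iSup_le
              intro j
              have := le_iSup (fun i => Fin.cons (α := fun _ => Subgroup G) C t i) j.succ
              rwa [Fin.cons_succ] at this
            exact hBle hb
          · have hCle : C ≤ ⨆ i, Fin.cons (α := fun _ => Subgroup G) C t i := by
              have := le_iSup (fun i => Fin.cons (α := fun _ => Subgroup G) C t i) 0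
              rwa [Fin.cons_zero] at this
            exact Subgroup.pow_mem _ (hCle hcC) i

end Cfsg.Agent.Helper11
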