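import Cfsg.Agent.Helper11.OffenderSL2a

/-!
# A minimal offender and a conjugate generate `SL(2, p)` (helper11)
-/

set_option autoImplicit false

namespace Cfsg.Agent.Helper11

open scoped commutatorElement

/-- a group of prime order `p` is generated by any of its non-identity elements. -/
theorem exists_pow_eq_of_card_eq_prime {G : Type*} [Group G] {p : ℕ} [hp : Fact p.Prime] (A : Subgroup G)
    (hA : Nat.card A = p) {a : G} (ha : a ∈ A) (ha1 : a ≠ 1) : ∀ g ∈ A, ∃ i : ℕ, g = a ^ i := by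
  haveI : Finite A := Nat.finite_of_card_ne_zero (by rw [hA]; exact hp.out.ne_zero)
  have hoa : orderOf a = p := by
    have h1 : orderOf a ∣ p := hA ▸ Subgroup.orderOf_dvd_natCard A ha
    rcases (Nat.dvd_prime hp.out).mp h1 with h | h
    · exact absurd (orderOf_eq_one_iff.mp h) ha1
    · exact h
  have hAz : Subgroup.zpowers a = A := by
    apply Subgroup.eq_of_le_of_card_ge
    · rw [Subgroup.zpowers_le]; exact ha
    · rw [Nat.card_zpowers, hoa, hA]
  intro g hg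
  rw [← hAz] at hg
  have hfin : IsOfFinOrder a := by
    rw [← orderOf_pos_iff, hoa]; exact hp.out.pos
  rw [← hfin.mem_powers_iff_mem_zpowers, Submonoid.mem_powers_iff] at hg
  obtain ⟨i, hi⟩ := hg
  exact ⟨i, hi.symm⟩

/-- two subgroups of prime order `p` are equal or disjoint. -/
theorem inf_eq_bot_of_card_eq_prime {G : Type*} [Group G] {p : ℕ} [hp : Fact p.Prime] {A B : Subgroup G}
    (hA : Nat.card A = p) (hB : Nat.card B = p) (hne : A ≠ B) : A ⊓ B = ⊥ := by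
  haveI : Finite A := Nat.finite_of_card_ne_zero (by rw [hA]; exact hp.out.ne_zero)
  haveI : Finite B := Nat.finite_of_card_ne_zero (by rw [hB]; exact hp.out.ne_zero)
  have hdvd : Nat.card ↥(A ⊓ B) ∣ p := hA ▸ Subgroup.card_dvd_of_le (inf_le_left : A ⊓ B ≤ A)
  rcases (Nat.dvd_prime hp.out).mp hdvd with h | h
  · exact Subgroup.eq_bot_of_card_eq _ h
  · exfalso
    have h1 : A ⊓ B = A := Subgroup.eq_of_le_of_card_ge inf_le_left (by rw [h, hA])
    have h2 : A ⊓ B = B := Subgroup.eq_of_le_of_card_ge inf_le_right (by rw [h, hB])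
    exact hne (h1.symm.trans h2)

/-- the product bound `|X ⊔ Y| ≤ |X| |Y|` for elementwise commuting subgroups. -/
theorem card_sup_le_of_commute {G : Type*} [Group G] [Finite G] {X Y : Subgroup G}
    (hXY : ∀ x ∈ X, ∀ y ∈ Y, x * y = y * x) : Nat.card ↥(X ⊔ Y) ≤ Nat.card X * Nat.card Y := by
  let f : X × Y → ↥(X ⊔ Y) := fun xy =>
    ⟨(xy.1 : G) * xy.2, Subgroup.mul_mem _ ((le_sup_left : X ≤ X ⊔ Y) xy.1.2)
      ((le_sup_right : Y ≤ X ⊔ Y) xy.2.2)⟩
  have hf : Function.Surjective f := by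
    rintro ⟨g, hg⟩
    obtain ⟨x, hx, y, hy, rfl⟩ := exists_mul_of_mem_sup_of_commute hXY hg
    exact ⟨(⟨x, hx⟩, ⟨y, hy⟩), rfl⟩
  have := Nat.card_le_card_of_surjective f hf
  rwa [Nat.card_prod] at this

theorem le_normalizer_of_conj_mem {G : Type*} [Group G] {A N : Subgroup G}
    (h : ∀ a ∈ A, ∀ n ∈ N, a * n * a⁻¹ ∈ N) : A ≤ Subgroup.normalizer (N : Set G) := by
  intro a ha
  rw [Subgroup.mem_normalizer_iff]
  intro n
  constructor
  · exact h a ha n
  · intro hn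
    have := h a⁻¹ (A.inv_mem ha) _ hn
    simpa [mul_assoc] using this

/-- elements of order dividing `p` in a subgroup of order prime to `p` are trivial. -/
theorem eq_one_of_pow_eq_one_of_coprime {G : Type*} [Group G] {p : ℕ} {Q : Subgroup G}
    (hQ : (Nat.card Q).Coprime p) {g : G} (hg : g ∈ Q) {k : ℕ} (hgp : g ^ (p ^ k) = 1) : g = 1 := by
  have h1 : orderOf g ∣ p ^ k := orderOf_dvd_of_pow_eq_one hgp
  have h2 : orderOf g ∣ Nat.card Q := Subgroup.orderOf_dvd_natCard Q hg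
  have h3 : orderOf g ∣ 1 := by
    have := Nat.dvd_gcd h2 h1
    rwa [Nat.Coprime.pow_right k hQ] at this
  exact orderOf_eq_one_iff.mp (Nat.dvd_one.mp h3)

set_option maxHeartbeats 800000 in
/-- **S0613 core.** -/
theorem offender_pair_SL2 {G : Type*} [Group G] [Finite G] {p : ℕ} [hp : Fact p.Prime] (V H : Subgroup G)
    (hV : Cfsg.IsElementaryAbelian p V) (hHV : H ≤ Subgroup.normalizer (V : Set G))
    (hf : H ⊓ Subgroup.centralizer (V : Set G) = ⊥)
    (hS1 : Subgroup.centralizer (Cfsg.pPrimeCore p ↥H : Set ↥H) ≤ Cfsg.pPrimeCore p ↥H)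
    (A : Subgroup G) (hAH : A ≤ H) (hA : Cfsg.IsBestOffenderOn p V A) (hAV : ⁅V, A⁆ ≠ ⊥)
    (hmin : ∀ B : Subgroup G, B ≤ A → Cfsg.IsBestOffenderOn p V B → ⁅V, B⁆ ≠ ⊥ → B = A)
    (x : G) (hx : x ∈ ((Cfsg.pPrimeCore p ↥H).map H.subtype))
    (hxA : x ∉ Subgroup.centralizer (A : Set G)) :
    (p = 2 ∨ p = 3) ∧
      Nat.card ↥(⁅V, A ⊔ A.map (MulAut.conj x).toMonoidHom⁆) = p ^ 2 ∧
      (A ⊔ A.map (MulAut.conj x).toMonoidHom) ⊓
        Subgroup.centralizer ((⁅V, A ⊔ A.map (MulAut.conj x).toMonoidHom⁆ : Subgroup G) : Set G) = ⊥ ∧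
      Nonempty (↥(A ⊔ A.map (MulAut.conj x).toMonoidHom) ≃* Matrix.SpecialLinearGroup (Fin 2) (ZMod p)) := by
  classical
  set Q := (Cfsg.pPrimeCore p ↥H).map H.subtype with hQ
  have hS := ffSetting_of_hyps V H hV hHV hf hS1
  have hcomm := bestOffender_comm hf hAH hA
  have hexp := bestOffender_exp hf hAH hA
  obtain ⟨hAcard, hW₁card, -⟩ := minimal_bestOffender V H hV hHV hf hS1 A hAH hA hAV hmin
  have hVcomm : ∀ x ∈ V, ∀ y ∈ V, x * y = y * x := by
    intro x hx y hy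
    have := hV.1
    exact congrArg Subtype.val (mul_comm' (⟨x, hx⟩ : ↥V) ⟨y, hy⟩)
  have hVexp := hV.2
  have hcopQ : (Nat.card Q).Coprime p := ((Nat.Prime.coprime_iff_not_dvd hp.out).mpr hS.pQ).symm
  -- generator of `A`
  have hA1 : A ≠ ⊥ := by
    intro h; apply hAV; rw [h, Subgroup.commutator_bot_right]
  obtain ⟨⟨a, haA⟩, ha1'⟩ := (Subgroup.ne_bot_iff_exists_ne_one).mp hA1
  have ha1 : a ≠ 1 := fun h => ha1' (Subtype.ext h)
  have hgenA := exists_pow_eq_of_card_eq_prime A hAcard haA ha1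
  have hap : a ^ p = 1 := hexp a haA
  -- the conjugate
  set Ax := A.map (MulAut.conj x).toMonoidHom with hAx
  set b := x * a * x⁻¹ with hb
  have hAxmem : ∀ g, g ∈ Ax ↔ ∃ a' ∈ A, x * a' * x⁻¹ = g := by
    intro g
    rw [hAx, Subgroup.mem_map]
    simp only [MulEquiv.coe_toMonoidHom, MulAut.conj_apply]
  have hbAx : b ∈ Ax := (hAxmem b).mpr ⟨a, haA, rfl⟩
  have hgenAx : ∀ g ∈ Ax, ∃ i : ℕ, g = b ^ i := by
    intro g hg
    obtain ⟨a', ha', rfl⟩ := (hAxmem g).mp hg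
    obtain ⟨i, rfl⟩ := hgenA a' ha'
    exact ⟨i, by rw [hb, conj_pow]⟩
  have hxQ : x ∈ Q := hx
  have hxH : x ∈ H := hS.QH hxQ
  have hxV : x ∈ Subgroup.normalizer (V : Set G) := hHV hxH
  have hAxH : Ax ≤ H := by
    intro g hg
    obtain ⟨a', ha', rfl⟩ := (hAxmem g).mp hg
    exact H.mul_mem (H.mul_mem hxH (hAH ha')) (H.inv_mem hxH)
  have hbp : b ^ p = 1 := by
    rw [hb, conj_pow, hap]; group
  have hkQ : b * a⁻¹ ∈ Q := by
    have h1 : a * x⁻¹ * a⁻¹ ∈ Q :=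
      (Subgroup.mem_normalizer_iff.mp (hS.normQ (hAH haA)) x⁻¹).mp (Q.inv_mem hxQ)
    have h2 : b * a⁻¹ = x * (a * x⁻¹ * a⁻¹) := by rw [hb]; group
    rw [h2]; exact Q.mul_mem hxQ h1
  have hAQ : ∀ g ∈ A, g ∈ Q → g = 1 := fun g hg hgQ =>
    eq_one_of_pow_eq_one_of_coprime (k := 1) hcopQ hgQ (by rw [pow_one]; exact hexp g hg)
  have hxa : x * a ≠ a * x := by
    intro h
    apply hxA
    rw [Subgroup.mem_centralizer_iff]
    intro g hg
    obtain ⟨i, rfl⟩ := hgenA g hg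
    exact ((Commute.pow_right (show Commute x a from h) i).eq).symm
  have hb_ne_a : b ≠ a := by
    intro hba
    apply hxa
    calc x * a = (x * a * x⁻¹) * x := by group
      _ = a * x := by rw [← hb, hba]
  have hb1 : b ≠ 1 := by
    intro h
    apply ha1
    have : a = x⁻¹ * b * x := by rw [hb]; group
    rw [this, h]; group
  have hAneAx : A ≠ Ax := by
    intro h
    have hbA : b ∈ A := h ▸ hbAx
    have : b * a⁻¹ = 1 := hAQ _ (A.mul_mem hbA (A.inv_mem haA)) hkQ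
    exact hb_ne_a (mul_inv_eq_one.mp this)
  have hAxcard : Nat.card Ax = p := by
    rw [hAx, Subgroup.card_map_of_injective (MulAut.conj x).injective, hAcard]
  have hAAx : A ⊓ Ax = ⊥ := inf_eq_bot_of_card_eq_prime hAcard hAxcard hAneAx
  have hAV' : A ≤ Subgroup.normalizer (V : Set G) := hAH.trans hHV
  have hAxV' : Ax ≤ Subgroup.normalizer (V : Set G) := hAxH.trans hHV
  -- the commutators
  set W₁ := ⁅V, A⁆ with hW₁
  set W₂ := ⁅V, Ax⁆ with hW₂
  have hVmap : V.map (MulAut.conj x).toMonoidHom = V := by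
    apply le_antisymm
    · rintro _ ⟨v, hv, rfl⟩
      exact (Subgroup.mem_normalizer_iff.mp hxV v).mp hv
    · intro v hv
      refine ⟨x⁻¹ * v * x, ?_, ?_⟩
      · have := (Subgroup.mem_normalizer_iff.mp (Subgroup.inv_mem _ hxV) v).mp hv
        simpa using this
      · simp only [MulEquiv.coe_toMonoidHom, MulAut.conj_apply]; group
  have hW₂map : W₂ = W₁.map (MulAut.conj x).toMonoidHom := by
    rw [hW₁, Subgroup.map_commutator, hVmap]
  have hW₂card : Nat.card W₂ = p := by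
    rw [hW₂map, Subgroup.card_map_of_injective (MulAut.conj x).injective, hW₁card]
  set D := A ⊔ Ax with hD
  have hDH : D ≤ H := sup_le hAH hAxH
  have hDV : D ≤ Subgroup.normalizer (V : Set G) := hDH.trans hHV
  have haD : a ∈ D := (le_sup_left : A ≤ D) haA
  have hbD : b ∈ D := (le_sup_right : Ax ≤ D) hbAx
  set W := ⁅V, D⁆ with hW
  have hWsup : W = W₁ ⊔ W₂ := commutator_sup_eq hAV' hAxV'
  have hcomm_le : ∀ B : Subgroup G, B ≤ Subgroup.normalizer (V : Set G) → ⁅V, B⁆ ≤ V := by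
    intro B hB
    rw [Subgroup.commutator_le]
    intro v hv g hg
    rw [commutatorElement_def]
    have := (Subgroup.mem_normalizer_iff.mp (hB hg) v⁻¹).mp (V.inv_mem hv)
    have h2 : v * g * v⁻¹ * g⁻¹ = v * (g * v⁻¹ * g⁻¹) := by group
    rw [h2]; exact V.mul_mem hv this
  have hWV : W ≤ V := hcomm_le D hDV
  have hW₁V : W₁ ≤ V := hcomm_le A hAV'
  have hW₂V : W₂ ≤ V := hcomm_le Ax hAxV'
  have hW₁W : W₁ ≤ W := hWsup ▸ le_sup_left
  have hW₂W : W₂ ≤ W := hWsup ▸ le_sup_right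
  have hDstab : D ≤ stabSub V W := le_stabSub hDV hWV le_rfl
  have hAstab : A ≤ stabSub V W₁ := le_stabSub hAV' hW₁V le_rfl
  have hAxstab : Ax ≤ stabSub V W₂ := le_stabSub hAxV' hW₂V le_rfl
  have haW₁ : ∀ w ∈ W₁, a * w * a⁻¹ = w :=
    conj_eq_of_card_eq_prime W₁ hW₁card a (hAstab haA).2.1 hap
  have hbW₂ : ∀ w ∈ W₂, b * w * b⁻¹ = w :=
    conj_eq_of_card_eq_prime W₂ hW₂card b (hAxstab hbAx).2.1 hbp
  have hDW : D ≤ Subgroup.normalizer (W : Set G) := fun d hd => (hDstab hd).2.1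
  -- faithfulness
  have hfaith : D ⊓ Subgroup.centralizer (W : Set G) = ⊥ := by
    set N := D ⊓ Subgroup.centralizer (W : Set G) with hN
    have hNexp : ∀ n ∈ N, n ^ p = 1 := by
      intro n hn
      have hn' := Subgroup.mem_inf.mp hn
      have h1 := pow_mem_centralizer_of_mem_stabSub (p := p) (hDstab hn'.1)
        (fun u hu => hVexp u (hWV hu))
        (fun u hu => (Subgroup.mem_centralizer_iff.mp hn'.2 u hu).symm)
      have h2 : n ^ p ∈ H ⊓ Subgroup.centralizer (V : Set G) :=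
        Subgroup.mem_inf.mpr ⟨H.pow_mem (hDH hn'.1) p, h1⟩
      rwa [hf, Subgroup.mem_bot] at h2
    have hDN : D ≤ Subgroup.normalizer (N : Set G) := by
      apply le_normalizer_of_conj_mem
      intro d hd n hn
      have hn' := Subgroup.mem_inf.mp hn
      refine Subgroup.mem_inf.mpr ⟨D.mul_mem (D.mul_mem hd hn'.1) (D.inv_mem hd), ?_⟩
      rw [Subgroup.mem_centralizer_iff]
      intro w hw
      have hw' : d⁻¹ * w * d ∈ W := by
        have := (Subgroup.mem_normalizer_iff.mp (Subgroup.inv_mem _ (hDW hd)) w).mp hw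
        simpa using this
      have hc := Subgroup.mem_centralizer_iff.mp hn'.2 _ hw'
      calc w * (d * n * d⁻¹) = d * ((d⁻¹ * w * d) * n) * d⁻¹ := by group
        _ = d * (n * (d⁻¹ * w * d)) * d⁻¹ := by rw [hc]
        _ = d * n * d⁻¹ * w := by group
    have hNp : IsPGroup p N := fun n => ⟨1, Subtype.ext (by simpa using hNexp n n.2)⟩
    have key : ∀ B : Subgroup G, B ≤ D → (∀ g ∈ B, g ^ p = 1) → D ≤ Q ⊔ B → N ≤ B := by
      intro B hBD hBexp hDQB
      have hBp : IsPGroup p B := fun g => ⟨1, Subtype.ext (by simpa using hBexp g g.2)⟩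
      have hNBp : IsPGroup p ↥(N ⊔ B) := IsPGroup.to_sup_of_normal_left' hNp hBp (hBD.trans hDN)
      intro n hn
      have hnD : n ∈ D := (Subgroup.mem_inf.mp hn).1
      obtain ⟨q, hq, b', hb', hnqb⟩ :=
        exists_mul_of_mem_sup_of_le_normalizer ((hBD.trans hDH).trans hS.normQ) (hDQB hnD)
      have hq' : q ∈ N ⊔ B := by
        have : q = n * b'⁻¹ := by rw [hnqb]; group
        rw [this]
        exact Subgroup.mul_mem _ ((le_sup_left : N ≤ N ⊔ B) hn)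
          (Subgroup.inv_mem _ ((le_sup_right : B ≤ N ⊔ B) hb'))
      obtain ⟨k, hk⟩ := hNBp ⟨q, hq'⟩
      have hk' : q ^ (p ^ k) = 1 := by
        have := congrArg Subtype.val hk
        simpa using this
      have hq1 : q = 1 := eq_one_of_pow_eq_one_of_coprime hcopQ hq hk'
      rw [hnqb, hq1, one_mul]; exact hb'
    have hbQA : b ∈ Q ⊔ A := by
      have : b = (b * a⁻¹) * a := by group
      rw [this]
      exact Subgroup.mul_mem _ ((le_sup_left : Q ≤ Q ⊔ A) hkQ) ((le_sup_right : A ≤ Q ⊔ A) haA)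
    have haQAx : a ∈ Q ⊔ Ax := by
      have : a = (b * a⁻¹)⁻¹ * b := by group
      rw [this]
      exact Subgroup.mul_mem _ ((le_sup_left : Q ≤ Q ⊔ Ax) (Q.inv_mem hkQ))
        ((le_sup_right : Ax ≤ Q ⊔ Ax) hbAx)
    have hDQA : D ≤ Q ⊔ A := by
      apply sup_le le_sup_right
      intro g hg
      obtain ⟨i, rfl⟩ := hgenAx g hg
      exact Subgroup.pow_mem _ hbQA i
    have hDQAx : D ≤ Q ⊔ Ax := by
      refine sup_le ?_ le_sup_right
      intro g hg
      obtain ⟨i, rfl⟩ := hgenA g hg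
      exact Subgroup.pow_mem _ haQAx i
    have h1 : N ≤ A := key A le_sup_left hexp hDQA
    have h2 : N ≤ Ax := key Ax le_sup_right
      (fun g hg => by obtain ⟨i, rfl⟩ := hgenAx g hg; rw [← pow_mul, mul_comm, pow_mul, hbp, one_pow]) hDQAx
    rw [eq_bot_iff, ← hAAx]
    exact le_inf h1 h2
  -- `W₁ ≠ W₂`
  have hcent_sup : ∀ g : G, (∀ w ∈ W₁, g * w * g⁻¹ = w) → (∀ w ∈ W₂, g * w * g⁻¹ = w) →
      g ∈ Subgroup.centralizer (W : Set G) := by
    intro g h1 h2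
    have hle : W ≤ Subgroup.centralizer ({g} : Set G) := by
      rw [hWsup]
      apply sup_le
      · intro w hw
        rw [Subgroup.mem_centralizer_singleton_iff]
        calc w * g = (g * w * g⁻¹) * g := by rw [h1 w hw]
          _ = g * w := by group
      · intro w hw
        rw [Subgroup.mem_centralizer_singleton_iff]
        calc w * g = (g * w * g⁻¹) * g := by rw [h2 w hw]
          _ = g * w := by group
    rw [Subgroup.mem_centralizer_iff]
    intro w hw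
    have := hle hw
    rw [Subgroup.mem_centralizer_singleton_iff] at this
    exact this
  have hWne : W₁ ≠ W₂ := by
    intro h
    have : a ∈ D ⊓ Subgroup.centralizer (W : Set G) :=
      Subgroup.mem_inf.mpr ⟨haD, hcent_sup a haW₁ (h ▸ haW₁)⟩
    rw [hfaith, Subgroup.mem_bot] at this
    exact ha1 this
  have hW₁₂ : W₁ ⊓ W₂ = ⊥ := inf_eq_bot_of_card_eq_prime hW₁card hW₂card hWne
  have hWcomm : ∀ u ∈ W, ∀ v ∈ W, u * v = v * u := fun u hu v hv => hVcomm u (hWV hu) v (hWV hv)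
  have hWcard : Nat.card W = p ^ 2 := by
    apply le_antisymm
    · rw [hWsup]
      calc Nat.card ↥(W₁ ⊔ W₂) ≤ Nat.card W₁ * Nat.card W₂ :=
            card_sup_le_of_commute (fun u hu v hv => hVcomm u (hW₁V hu) v (hW₂V hv))
        _ = p ^ 2 := by rw [hW₁card, hW₂card, pow_two]
    · let f : W₁ × W₂ → W := fun uv => ⟨(uv.1 : G) * uv.2, W.mul_mem (hW₁W uv.1.2) (hW₂W uv.2.2)⟩
      have hfinj : Function.Injective f := by
        rintro ⟨⟨u, hu⟩, ⟨v, hv⟩⟩ ⟨⟨u', hu'⟩, ⟨v', hv'⟩⟩ h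
        have h' : u * v = u' * v' := congrArg Subtype.val h
        have h1 : u'⁻¹ * u = v' * v⁻¹ := by
          calc u'⁻¹ * u = u'⁻¹ * (u * v) * v⁻¹ := by group
            _ = u'⁻¹ * (u' * v') * v⁻¹ := by rw [h']
            _ = v' * v⁻¹ := by group
        have h2 : u'⁻¹ * u ∈ W₁ ⊓ W₂ := Subgroup.mem_inf.mpr
          ⟨W₁.mul_mem (W₁.inv_mem hu') hu, h1 ▸ W₂.mul_mem hv' (W₂.inv_mem hv)⟩
        rw [hW₁₂, Subgroup.mem_bot] at h2
        have hu_eq : u = u' := by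
          calc u = u' * (u'⁻¹ * u) := by group
            _ = u' := by rw [h2, mul_one]
        have hv_eq : v = v' := by
          rw [hu_eq] at h'
          exact mul_left_cancel h'
        subst hu_eq; subst hv_eq; rfl
      have := Nat.card_le_card_of_injective f hfinj
      rwa [Nat.card_prod, hW₁card, hW₂card, ← pow_two] at this
  -- basis
  have hW₂1 : W₂ ≠ ⊥ := by
    intro h
    rw [h, Subgroup.card_bot] at hW₂card
    exact hp.out.one_lt.ne hW₂card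
  obtain ⟨⟨w₂, hw₂⟩, hw₂1'⟩ := (Subgroup.ne_bot_iff_exists_ne_one).mp hW₂1
  have hw₂1 : w₂ ≠ 1 := fun h => hw₂1' (Subtype.ext h)
  have hgenW₂ := exists_pow_eq_of_card_eq_prime W₂ hW₂card hw₂ hw₂1
  have haw₂ : a * w₂ * a⁻¹ ≠ w₂ := by
    intro h
    have h2 : ∀ w ∈ W₂, a * w * a⁻¹ = w := by
      intro w hw
      obtain ⟨i, rfl⟩ := hgenW₂ w hw
      rw [← conj_pow, h]
    have : a ∈ D ⊓ Subgroup.centralizer (W : Set G) :=
      Subgroup.mem_inf.mpr ⟨haD, hcent_sup a haW₁ h2⟩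
    rw [hfaith, Subgroup.mem_bot] at this
    exact ha1 this
  set w₁ := a * w₂ * a⁻¹ * w₂⁻¹ with hw₁def
  have hw₁ : w₁ ∈ W₁ := by
    have h1 : ⁅w₂, a⁆ ∈ W₁ := Subgroup.commutator_mem_commutator (hW₂V hw₂) haA
    have h2 : w₁ = (⁅w₂, a⁆)⁻¹ := by
      simp only [hw₁def, commutatorElement_def]; group
    rw [h2]; exact W₁.inv_mem h1
  have hw₁1 : w₁ ≠ 1 := by
    intro h
    apply haw₂
    calc a * w₂ * a⁻¹ = (a * w₂ * a⁻¹ * w₂⁻¹) * w₂ := by group
      _ = w₂ := by rw [← hw₁def, h, one_mul]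
  have hgenW₁ := exists_pow_eq_of_card_eq_prime W₁ hW₁card hw₁ hw₁1
  have ha₁ : a * w₁ * a⁻¹ = w₁ := haW₁ w₁ hw₁
  have ha₂ : a * w₂ * a⁻¹ = w₁ * w₂ := by rw [hw₁def]; group
  have hb₂ : b * w₂ * b⁻¹ = w₂ := hbW₂ w₂ hw₂
  have hu : b * w₁ * b⁻¹ * w₁⁻¹ ∈ W₂ := by
    have h1 : ⁅w₁, b⁆ ∈ W₂ := Subgroup.commutator_mem_commutator (hW₁V hw₁) hbAx
    have h2 : b * w₁ * b⁻¹ * w₁⁻¹ = (⁅w₁, b⁆)⁻¹ := by
      simp only [commutatorElement_def]; group
    rw [h2]; exact W₂.inv_mem h1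
  obtain ⟨μ, hμeq⟩ := hgenW₂ _ hu
  have hb₁ : b * w₁ * b⁻¹ = w₁ * w₂ ^ μ := by
    have h1 : b * w₁ * b⁻¹ = (b * w₁ * b⁻¹ * w₁⁻¹) * w₁ := by group
    rw [h1, hμeq]
    exact hVcomm _ (V.pow_mem (hW₂V hw₂) μ) _ (hW₁V hw₁)
  have hw₂p : w₂ ^ p = 1 := hVexp w₂ (hW₂V hw₂)
  have hw₁p : w₁ ^ p = 1 := hVexp w₁ (hW₁V hw₁)
  have hμ : ¬ p ∣ μ := by
    rintro ⟨m, rfl⟩
    have h0 : w₂ ^ (p * m) = 1 := by rw [pow_mul, hw₂p, one_pow]
    rw [h0, mul_one] at hb₁
    have h1 : ∀ w ∈ W₁, b * w * b⁻¹ = w := by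
      intro w hw
      obtain ⟨i, rfl⟩ := hgenW₁ w hw
      rw [← conj_pow, hb₁]
    have : b ∈ D ⊓ Subgroup.centralizer (W : Set G) :=
      Subgroup.mem_inf.mpr ⟨hbD, hcent_sup b h1 hbW₂⟩
    rw [hfaith, Subgroup.mem_bot] at this
    exact hb1 this
  have hP : SL2Recog.PlaneData p W w₁ w₂ := by
    refine ⟨hWcomm, fun u hu => hVexp u (hWV hu), hW₁W hw₁, hW₂W hw₂, hWcard, ?_⟩
    intro i j hij
    have h1 : w₁ ^ i = (w₂ ^ j)⁻¹ := eq_inv_of_mul_eq_one_left hij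
    have h2 : w₁ ^ i ∈ W₁ ⊓ W₂ := Subgroup.mem_inf.mpr
      ⟨W₁.pow_mem hw₁ i, h1 ▸ W₂.inv_mem (W₂.pow_mem hw₂ j)⟩
    rw [hW₁₂, Subgroup.mem_bot] at h2
    have h3 : w₂ ^ j = 1 := by rw [h2, one_mul] at hij; exact hij
    constructor
    · rw [← orderOf_eq_prime hw₁p hw₁1]; exact orderOf_dvd_of_pow_eq_one h2
    · rw [← orderOf_eq_prime hw₂p hw₂1]; exact orderOf_dvd_of_pow_eq_one h3
  have hDcl : D ≤ Subgroup.closure {a, b} := by
    apply sup_le
    · intro g hg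
      obtain ⟨i, rfl⟩ := hgenA g hg
      exact Subgroup.pow_mem _ (Subgroup.subset_closure (by simp)) i
    · intro g hg
      obtain ⟨i, rfl⟩ := hgenAx g hg
      exact Subgroup.pow_mem _ (Subgroup.subset_closure (by simp)) i
  have hiso := SL2Recog.nonempty_mulEquiv_SL2 hP D a b haD hbD hDcl (hDW haD) (hDW hbD) ha₁ ha₂ μ hμ
    hb₁ hb₂ hfaith
  refine ⟨?_, hWcard, hfaith, hiso⟩
  -- `p ≤ 3`
  by_contra hp23
  simp only [not_or] at hp23
  obtain ⟨e⟩ := hiso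
  have h2ne : (2 : ZMod p) ≠ 0 := by
    intro h
    have : ((2 : ℕ) : ZMod p) = 0 := by exact_mod_cast h
    have hdvd := (ZMod.natCast_eq_zero_iff 2 p).mp this
    exact hp23.1 ((Nat.prime_dvd_prime_iff_eq hp.out Nat.prime_two).mp hdvd)
  have h4ne : (2 : ZMod p) ^ 2 ≠ 1 := by
    intro h
    have h3 : ((3 : ℕ) : ZMod p) = 0 := by
      have : (2 : ZMod p) ^ 2 - 1 = 0 := sub_eq_zero.mpr h
      have h' : ((3 : ℕ) : ZMod p) = (2 : ZMod p) ^ 2 - 1 := by push_cast; ring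
      rw [h', this]
    have hdvd := (ZMod.natCast_eq_zero_iff 3 p).mp h3
    exact hp23.2 ((Nat.prime_dvd_prime_iff_eq hp.out Nat.prime_three).mp hdvd)
  have hperf : commutator (Matrix.SpecialLinearGroup (Fin 2) (ZMod p)) = ⊤ :=
    Matrix.SL2.commutator_eq_top h2ne h4ne
  have hperfD : commutator ↥D = ⊤ := by
    have h1 := Subgroup.map_commutator (⊤ : Subgroup (Matrix.SpecialLinearGroup (Fin 2) (ZMod p))) ⊤
      e.symm.toMonoidHom
    have htop : (⊤ : Subgroup (Matrix.SpecialLinearGroup (Fin 2) (ZMod p))).map e.symm.toMonoidHom = ⊤ :=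
      Subgroup.map_top_of_surjective _ e.symm.surjective
    rw [htop] at h1
    show ⁅(⊤ : Subgroup ↥D), ⊤⁆ = ⊤
    rw [← h1]
    show Subgroup.map e.symm.toMonoidHom (commutator _) = ⊤
    rw [hperf, htop]
  -- but `[D, D] ≤ Q`
  have hDD : ⁅D, D⁆ ≤ Q := by
    have hDQA : D ≤ Q ⊔ A := by
      apply sup_le le_sup_right
      intro g hg
      obtain ⟨i, rfl⟩ := hgenAx g hg
      refine Subgroup.pow_mem _ ?_ i
      have : b = (b * a⁻¹) * a := by group
      rw [this]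
      exact Subgroup.mul_mem _ ((le_sup_left : Q ≤ Q ⊔ A) hkQ) ((le_sup_right : A ≤ Q ⊔ A) haA)
    rw [Subgroup.commutator_le]
    intro g hg g' hg'
    obtain ⟨q, hq, α, hα, rfl⟩ :=
      exists_mul_of_mem_sup_of_le_normalizer (hAH.trans hS.normQ) (hDQA hg)
    obtain ⟨q', hq', β, hβ, rfl⟩ :=
      exists_mul_of_mem_sup_of_le_normalizer (hAH.trans hS.normQ) (hDQA hg')
    have hαβ : α * β * α⁻¹ = β := by
      rw [hcomm α hα β hβ]; group
    have h1 : ⁅q * α, q' * β⁆ = q * (α * q' * α⁻¹) * (α * β * α⁻¹) * q⁻¹ * β⁻¹ * q'⁻¹ := by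
      simp only [commutatorElement_def]; group
    have h2 : q * (α * q' * α⁻¹) * β * q⁻¹ * β⁻¹ * q'⁻¹ =
        q * (α * q' * α⁻¹) * (β * q⁻¹ * β⁻¹) * q'⁻¹ := by group
    rw [h1, hαβ, h2]
    have hN := hAH.trans hS.normQ
    exact Q.mul_mem (Q.mul_mem (Q.mul_mem hq ((Subgroup.mem_normalizer_iff.mp (hN hα) q').mp hq'))
      ((Subgroup.mem_normalizer_iff.mp (hN hβ) q⁻¹).mp (Q.inv_mem hq))) (Q.inv_mem hq')
  have haDD : a ∈ ⁅D, D⁆ := by
    have h1 : (⟨a, haD⟩ : ↥D) ∈ commutator ↥D := by rw [hperfD]; exact Subgroup.mem_top _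
    have h2 : (commutator ↥D).map D.subtype = ⁅D, D⁆ := by
      show Subgroup.map D.subtype ⁅(⊤ : Subgroup ↥D), (⊤ : Subgroup ↥D)⁆ = ⁅D, D⁆
      rw [Subgroup.map_commutator, ← MonoidHom.range_eq_map, Subgroup.range_subtype]
    rw [← h2]
    exact ⟨⟨a, haD⟩, h1, rfl⟩
  exact ha1 (hAQ a haA (hDD haDD))

end Cfsg.Agent.Helper11
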