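import Cfsg.Agent.Helper11.OffenderSL2

/-!
# The structure theorem for failure of factorization, from the direct factor statement (helper11)
-/

set_option autoImplicit false

namespace Cfsg.Agent.Helper11

open scoped commutatorElement

/-- the conclusion of S0616 for a subgroup `E` of `H`. -/
structure DirectFactor {G : Type*} [Group G] (p : ℕ) (V H E : Subgroup G) : Prop where
  iso : Nonempty (↥E ≃* Matrix.SpecialLinearGroup (Fin 2) (ZMod p))
  cardW : Nat.card ↥(⁅V, E⁆) = p ^ 2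
  disj : ⁅V, E⁆ ⊓ (V ⊓ Subgroup.centralizer (E : Set G)) = ⊥
  sup : ⁅V, E⁆ ⊔ (V ⊓ Subgroup.centralizer (E : Set G)) = V
  comm : ⁅E, H ⊓ Subgroup.centralizer ((⁅V, E⁆ : Subgroup G) : Set G)⁆ = ⊥
  inf : E ⊓ (H ⊓ Subgroup.centralizer ((⁅V, E⁆ : Subgroup G) : Set G)) = ⊥
  supH : E ⊔ (H ⊓ Subgroup.centralizer ((⁅V, E⁆ : Subgroup G) : Set G)) = H
  commV : ⁅V, H ⊓ Subgroup.centralizer ((⁅V, E⁆ : Subgroup G) : Set G)⁆ ≤
    V ⊓ Subgroup.centralizer (E : Set G)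

namespace DirectFactor

variable {G : Type*} [Group G] {p : ℕ} {V H E : Subgroup G}

theorem le (h : DirectFactor p V H E) : E ≤ H := h.supH ▸ le_sup_left

theorem commute (h : DirectFactor p V H E) {e k : G} (he : e ∈ E)
    (hk : k ∈ H ⊓ Subgroup.centralizer ((⁅V, E⁆ : Subgroup G) : Set G)) : e * k = k * e := by
  have h1 : ⁅e, k⁆ ∈ ⁅E, H ⊓ Subgroup.centralizer ((⁅V, E⁆ : Subgroup G) : Set G)⁆ :=
    Subgroup.commutator_mem_commutator he hk
  rw [h.comm, Subgroup.mem_bot, commutatorElement_def] at h1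
  calc e * k = (e * k * e⁻¹ * k⁻¹) * k * e := by group
    _ = k * e := by rw [h1, one_mul]

theorem exists_mul (h : DirectFactor p V H E) {g : G} (hg : g ∈ H) :
    ∃ e ∈ E, ∃ k ∈ H ⊓ Subgroup.centralizer ((⁅V, E⁆ : Subgroup G) : Set G), g = e * k := by
  rw [← h.supH] at hg
  exact exists_mul_of_mem_sup_of_commute (fun e he k hk => h.commute he hk) hg

/-- `E` is normal in `H`. -/
theorem normal (h : DirectFactor p V H E) : H ≤ Subgroup.normalizer (E : Set G) := by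
  apply le_normalizer_of_conj_mem
  intro g hg x hx
  obtain ⟨e, he, k, hk, rfl⟩ := h.exists_mul hg
  have hc : k * x = x * k := (h.commute hx hk).symm
  have : e * k * x * (e * k)⁻¹ = e * x * e⁻¹ := by
    calc e * k * x * (e * k)⁻¹ = e * (k * x) * k⁻¹ * e⁻¹ := by group
      _ = e * (x * k) * k⁻¹ * e⁻¹ := by rw [hc]
      _ = e * x * e⁻¹ := by group
  rw [this]
  exact E.mul_mem (E.mul_mem he hx) (E.inv_mem he)

/-- the complement `C_H([V, E])` is normal in `H`. -/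
theorem normal_compl (h : DirectFactor p V H E) :
    H ≤ Subgroup.normalizer ((H ⊓ Subgroup.centralizer ((⁅V, E⁆ : Subgroup G) : Set G) : Subgroup G) : Set G) := by
  apply le_normalizer_of_conj_mem
  intro g hg x hx
  obtain ⟨e, he, k, hk, rfl⟩ := h.exists_mul hg
  have hc : e * (k * x * k⁻¹) = (k * x * k⁻¹) * e :=
    h.commute he (Subgroup.mul_mem _ (Subgroup.mul_mem _ hk hx) (Subgroup.inv_mem _ hk))
  have : e * k * x * (e * k)⁻¹ = k * x * k⁻¹ := by
    calc e * k * x * (e * k)⁻¹ = (e * (k * x * k⁻¹)) * e⁻¹ := by group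
      _ = (k * x * k⁻¹) * e * e⁻¹ := by rw [hc]
      _ = k * x * k⁻¹ := by group
  rw [this]
  exact Subgroup.mul_mem _ (Subgroup.mul_mem _ hk hx) (Subgroup.inv_mem _ hk)


/-- **Dichotomy**: a subgroup `A'` of `H` with `|[V, A']| = p` lies in `E` or in the complement `C_H([V, E])`. -/
theorem le_or_le [hp : Fact p.Prime] [Finite G] (h : DirectFactor p V H E)
    (hf : H ⊓ Subgroup.centralizer (V : Set G) = ⊥)
    {A' : Subgroup G} (hA'H : A' ≤ H) (hcard : Nat.card ↥(⁅V, A'⁆) = p) :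
    A' ≤ E ∨ A' ≤ H ⊓ Subgroup.centralizer ((⁅V, E⁆ : Subgroup G) : Set G) := by
  set W := ⁅V, E⁆ with hW
  set U := V ⊓ Subgroup.centralizer (E : Set G) with hU
  set K := H ⊓ Subgroup.centralizer (W : Set G) with hK
  have hWV : W ≤ V := by rw [← h.sup]; exact le_sup_left
  have hUV : U ≤ V := inf_le_left
  -- an element of `H` centralizing `W` and `U` is trivial
  have htriv : ∀ g ∈ H, (∀ w ∈ W, w * g = g * w) → (∀ u ∈ U, u * g = g * u) → g = 1 := by
    intro g hg h1 h2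
    have hle : V ≤ Subgroup.centralizer ({g} : Set G) := by
      rw [← h.sup]
      apply sup_le
      · intro w hw
        rw [Subgroup.mem_centralizer_singleton_iff]; exact h1 w hw
      · intro u hu
        rw [Subgroup.mem_centralizer_singleton_iff]; exact h2 u hu
    have : g ∈ H ⊓ Subgroup.centralizer (V : Set G) := by
      refine Subgroup.mem_inf.mpr ⟨hg, ?_⟩
      rw [Subgroup.mem_centralizer_iff]
      intro v hv
      have := hle hv
      rw [Subgroup.mem_centralizer_singleton_iff] at this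
      exact this
    rw [hf, Subgroup.mem_bot] at this
    exact this
  -- the two key computations
  have hcompW : ∀ e ∈ E, ∀ k ∈ K, ∀ w ∈ W, ⁅w, e * k⁆ = ⁅w, e⁆ := by
    intro e _ k hk w hw
    have hkw : w⁻¹ * k = k * w⁻¹ :=
      Subgroup.mem_centralizer_iff.mp (Subgroup.mem_inf.mp hk).2 _ (W.inv_mem hw)
    simp only [commutatorElement_def]
    calc w * (e * k) * w⁻¹ * (e * k)⁻¹ = w * e * (k * w⁻¹) * k⁻¹ * e⁻¹ := by group
      _ = w * e * (w⁻¹ * k) * k⁻¹ * e⁻¹ := by rw [hkw]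
      _ = w * e * w⁻¹ * e⁻¹ := by group
  have hcompU : ∀ e ∈ E, ∀ k ∈ K, ∀ u ∈ U, ⁅u, e * k⁆ = ⁅u, k⁆ := by
    intro e he k hk u hu
    have heu : e * u = u * e := (Subgroup.mem_centralizer_iff.mp (Subgroup.mem_inf.mp hu).2 e he)
    have huk : ⁅u, k⁆ ∈ U := h.commV (Subgroup.commutator_mem_commutator (hUV hu) hk)
    have he2 : e * ⁅u, k⁆ = ⁅u, k⁆ * e :=
      (Subgroup.mem_centralizer_iff.mp (Subgroup.mem_inf.mp huk).2 e he)
    have h1 : ⁅u, e * k⁆ = u * e * u⁻¹ * e⁻¹ * (e * ⁅u, k⁆ * e⁻¹) := by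
      simp only [commutatorElement_def]; group
    rw [h1, he2, ← heu]
    group
  -- which of the two intersections is trivial
  have hdich : ⁅V, A'⁆ ⊓ W = ⊥ ∨ ⁅V, A'⁆ ⊓ U = ⊥ := by
    by_contra hcon
    simp only [not_or] at hcon
    have hX : ⁅V, A'⁆ ⊓ W = ⁅V, A'⁆ := by
      have hdvd : Nat.card ↥(⁅V, A'⁆ ⊓ W) ∣ p := hcard ▸ Subgroup.card_dvd_of_le inf_le_left
      rcases (Nat.dvd_prime hp.out).mp hdvd with h1 | h1
      · exact absurd (Subgroup.eq_bot_of_card_eq _ h1) hcon.1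
      · exact Subgroup.eq_of_le_of_card_ge inf_le_left (by rw [h1, hcard])
    have hY : ⁅V, A'⁆ ⊓ U = ⁅V, A'⁆ := by
      have hdvd : Nat.card ↥(⁅V, A'⁆ ⊓ U) ∣ p := hcard ▸ Subgroup.card_dvd_of_le inf_le_left
      rcases (Nat.dvd_prime hp.out).mp hdvd with h1 | h1
      · exact absurd (Subgroup.eq_bot_of_card_eq _ h1) hcon.2
      · exact Subgroup.eq_of_le_of_card_ge inf_le_left (by rw [h1, hcard])
    have hle : ⁅V, A'⁆ ≤ W ⊓ U := le_inf (inf_eq_left.mp hX) (inf_eq_left.mp hY)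
    rw [h.disj, le_bot_iff] at hle
    rw [hle, Subgroup.card_bot] at hcard
    exact hp.out.one_lt.ne hcard
  rcases hdich with hd | hd
  · right
    intro a' ha'
    obtain ⟨e, he, k, hk, rfl⟩ := h.exists_mul (hA'H ha')
    have he1 : e = 1 := by
      apply htriv e (h.le he)
      · intro w hw
        have h1 : ⁅w, e⁆ ∈ ⁅V, A'⁆ ⊓ W := by
          refine Subgroup.mem_inf.mpr ⟨?_, ?_⟩
          · rw [← hcompW e he k hk w hw]
            exact Subgroup.commutator_mem_commutator (hWV hw) ha'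
          · exact Subgroup.commutator_mem_commutator (hWV hw) he
        rw [hd, Subgroup.mem_bot, commutatorElement_def] at h1
        calc w * e = (w * e * w⁻¹ * e⁻¹) * e * w := by group
          _ = e * w := by rw [h1, one_mul]
      · intro u hu
        exact (Subgroup.mem_centralizer_iff.mp (Subgroup.mem_inf.mp hu).2 e he).symm
    rw [he1, one_mul]; exact hk
  · left
    intro a' ha'
    obtain ⟨e, he, k, hk, rfl⟩ := h.exists_mul (hA'H ha')
    have hk1 : k = 1 := by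
      apply htriv k (Subgroup.mem_inf.mp hk).1
      · intro w hw
        exact (Subgroup.mem_centralizer_iff.mp (Subgroup.mem_inf.mp hk).2 w hw)
      · intro u hu
        have h1 : ⁅u, k⁆ ∈ ⁅V, A'⁆ ⊓ U := by
          refine Subgroup.mem_inf.mpr ⟨?_, ?_⟩
          · rw [← hcompU e he k hk u hu]
            exact Subgroup.commutator_mem_commutator (hUV hu) ha'
          · exact h.commV (Subgroup.commutator_mem_commutator (hUV hu) hk)
        rw [hd, Subgroup.mem_bot, commutatorElement_def] at h1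
        calc u * k = (u * k * u⁻¹ * k⁻¹) * k * u := by group
          _ = k * u := by rw [h1, one_mul]
    rw [hk1, mul_one]; exact he

end DirectFactor

/-- `[Q, A'] ⊔ A' ≤ N` for `A' ≤ N`, `N` normalized by `H ≥ Q`. -/
theorem commutator_sup_le_of_le_normalizer {G : Type*} [Group G] {H Q N A' : Subgroup G} (hQH : Q ≤ H)
    (hN : H ≤ Subgroup.normalizer (N : Set G)) (hA' : A' ≤ N) : ⁅Q, A'⁆ ⊔ A' ≤ N := by
  refine sup_le ?_ hA'
  rw [Subgroup.commutator_le]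
  intro q hq a' ha'
  rw [commutatorElement_def]
  exact N.mul_mem ((Subgroup.mem_normalizer_iff.mp (hN (hQH hq)) a').mp (hA' ha')) (N.inv_mem (hA' ha'))

/-- A family of "orthogonal" decompositions `V = W i × U i` of an abelian group with `W j ≤ U i` for `j ≠ i`
gives `V = (∏ W i) × ⋂ U i`. -/
theorem family_decomp {G : Type*} [Group G] {ι : Type*} [Fintype ι] [DecidableEq ι] (V : Subgroup G)
    (hVcomm : ∀ x ∈ V, ∀ y ∈ V, x * y = y * x) (W U : ι → Subgroup G)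
    (hWV : ∀ i, W i ≤ V) (hUV : ∀ i, U i ≤ V) (hdisj : ∀ i, W i ⊓ U i = ⊥) (hsup : ∀ i, V ≤ W i ⊔ U i)
    (horth : ∀ i j, j ≠ i → W j ≤ U i) :
    (⨆ i, W i) ⊓ (V ⊓ ⨅ i, U i) = ⊥ ∧ V ≤ (⨆ i, W i) ⊔ (V ⊓ ⨅ i, U i) := by
  have key : ∀ S : Finset ι, (⨆ i ∈ S, W i) ≤ V ∧ (⨆ i ∈ S, W i) ⊓ (V ⊓ ⨅ i ∈ S, U i) = ⊥ ∧
      V ≤ (⨆ i ∈ S, W i) ⊔ (V ⊓ ⨅ i ∈ S, U i) := by
    intro S
    induction S using Finset.induction_on with
    | empty =>
      refine ⟨by simp, by simp, by simp⟩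
    | insert i₀ S hi₀ ih =>
      obtain ⟨ihV, ihd, ihs⟩ := ih
      rw [Finset.iSup_insert, Finset.iInf_insert]
      have hMU : (⨆ i ∈ S, W i) ≤ U i₀ := by
        apply iSup_le; intro j; apply iSup_le; intro hj
        exact horth i₀ j (fun h => hi₀ (h ▸ hj))
      have hcomm' : ∀ w ∈ W i₀, ∀ m ∈ (⨆ i ∈ S, W i), w * m = m * w :=
        fun w hw m hm => hVcomm w (hWV i₀ hw) m (ihV hm)
      refine ⟨sup_le (hWV i₀) ihV, ?_, ?_⟩
      · rw [eq_bot_iff]
        intro v hv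
        obtain ⟨hv1, hv2⟩ := Subgroup.mem_inf.mp hv
        obtain ⟨hvV, hv3⟩ := Subgroup.mem_inf.mp hv2
        obtain ⟨hvU, hvN⟩ := Subgroup.mem_inf.mp hv3
        obtain ⟨w, hw, m, hm, rfl⟩ := exists_mul_of_mem_sup_of_commute hcomm' hv1
        have hw1 : w = 1 := by
          have : w ∈ W i₀ ⊓ U i₀ := by
            refine Subgroup.mem_inf.mpr ⟨hw, ?_⟩
            have : w = (w * m) * m⁻¹ := by group
            rw [this]
            exact (U i₀).mul_mem hvU ((U i₀).inv_mem (hMU hm))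
          rw [hdisj, Subgroup.mem_bot] at this
          exact this
        rw [hw1, one_mul] at hvV hvN ⊢
        have : m ∈ (⨆ i ∈ S, W i) ⊓ (V ⊓ ⨅ i ∈ S, U i) :=
          Subgroup.mem_inf.mpr ⟨hm, Subgroup.mem_inf.mpr ⟨hvV, hvN⟩⟩
        rw [ihd] at this
        exact this
      · intro v hv
        have hcomm2 : ∀ m ∈ (⨆ i ∈ S, W i), ∀ n ∈ (V ⊓ ⨅ i ∈ S, U i), m * n = n * m :=
          fun m hm n hn => hVcomm m (ihV hm) n (Subgroup.mem_inf.mp hn).1
        obtain ⟨m, hm, n, hn, rfl⟩ := exists_mul_of_mem_sup_of_commute hcomm2 (ihs hv)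
        obtain ⟨hnV, hnN⟩ := Subgroup.mem_inf.mp hn
        have hcomm3 : ∀ w ∈ W i₀, ∀ u ∈ U i₀, w * u = u * w :=
          fun w hw u hu => hVcomm w (hWV i₀ hw) u (hUV i₀ hu)
        obtain ⟨w, hw, u, hu, rfl⟩ := exists_mul_of_mem_sup_of_commute hcomm3 (hsup i₀ hnV)
        have hwN : w ∈ ⨅ i ∈ S, U i := by
          rw [Subgroup.mem_iInf]; intro j
          rw [Subgroup.mem_iInf]; intro hj
          exact horth j i₀ (fun h => hi₀ (h ▸ hj)) hw
        have huN : u ∈ ⨅ i ∈ S, U i := by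
          have : u = w⁻¹ * (w * u) := by group
          rw [this]
          exact Subgroup.mul_mem _ (Subgroup.inv_mem _ hwN) hnN
        have h1 : m * (w * u) = (w * m) * u := by
          rw [← mul_assoc, hVcomm m (ihV hm) w (hWV i₀ hw)]
        rw [h1]
        refine Subgroup.mul_mem_sup ?_ ?_
        · exact Subgroup.mul_mem_sup hw hm
        · exact Subgroup.mem_inf.mpr ⟨hUV i₀ hu, Subgroup.mem_inf.mpr ⟨hu, huN⟩⟩
  have h := key Finset.univ
  simp only [Finset.mem_univ, iSup_pos, iInf_pos] at h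
  exact ⟨h.2.1, h.2.2⟩

set_option maxHeartbeats 400000 in
/-- The combinatorial part of the structure theorem: a family of direct factors, any two of which are
"orthogonal", generating `H`. -/
theorem ff_structure_aux {G : Type*} [Group G] [Finite G] {p : ℕ} (V H : Subgroup G)
    (hVcomm : ∀ x ∈ V, ∀ y ∈ V, x * y = y * x) (P : Subgroup G → Prop)
    (hDF : ∀ E, P E → DirectFactor p V H E)
    (hkey : ∀ E E', P E → P E' → E' ≠ E →
      E' ≤ H ⊓ Subgroup.centralizer ((⁅V, E⁆ : Subgroup G) : Set G))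
    (hgen : H ≤ ⨆ E : {E : Subgroup G // P E}, (E : Subgroup G)) :
    (∀ E : {E : Subgroup G // P E}, H ≤ Subgroup.normalizer ((E : Subgroup G) : Set G) ∧
      Nonempty (↥(E : Subgroup G) ≃* Matrix.SpecialLinearGroup (Fin 2) (ZMod p)) ∧
      Nat.card ↥(⁅V, (E : Subgroup G)⁆) = p ^ 2) ∧
    iSupIndep (fun E : {E : Subgroup G // P E} => (E : Subgroup G)) ∧
    (⨆ E : {E : Subgroup G // P E}, (E : Subgroup G)) = H ∧
    iSupIndep (fun o : Option {E : Subgroup G // P E} =>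
      o.elim (V ⊓ Subgroup.centralizer (H : Set G)) (fun E => ⁅V, (E : Subgroup G)⁆)) ∧
    (V ⊓ Subgroup.centralizer (H : Set G)) ⊔ (⨆ E : {E : Subgroup G // P E}, ⁅V, (E : Subgroup G)⁆) = V := by
  classical
  haveI : Fintype {E : Subgroup G // P E} := Fintype.ofFinite _
  have hD : ∀ E : {E : Subgroup G // P E}, DirectFactor p V H (E : Subgroup G) := fun E => hDF E.1 E.2
  have hWV : ∀ E : {E : Subgroup G // P E}, ⁅V, (E : Subgroup G)⁆ ≤ V := by
    intro E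
    exact le_sup_left.trans (hD E).sup.le
  have horth : ∀ E E' : {E : Subgroup G // P E}, E' ≠ E →
      ⁅V, (E' : Subgroup G)⁆ ≤ V ⊓ Subgroup.centralizer ((E : Subgroup G) : Set G) := by
    intro E E' hne
    have h1 : (E' : Subgroup G) ≤ H ⊓ Subgroup.centralizer ((⁅V, (E : Subgroup G)⁆ : Subgroup G) : Set G) :=
      hkey E.1 E'.1 E.2 E'.2 (fun h => hne (Subtype.ext h))
    exact le_trans (Subgroup.commutator_mono le_rfl h1) (hD E).commV
  have hfam := family_decomp V hVcomm (fun E : {E : Subgroup G // P E} => ⁅V, (E : Subgroup G)⁆)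
    (fun E : {E : Subgroup G // P E} => V ⊓ Subgroup.centralizer ((E : Subgroup G) : Set G))
    hWV (fun E => inf_le_left) (fun E => (hD E).disj) (fun E => (hD E).sup.ge)
    (fun E E' hne => horth E E' hne)
  have hCH : ∀ E : {E : Subgroup G // P E}, V ⊓ Subgroup.centralizer (H : Set G) ≤
      V ⊓ Subgroup.centralizer ((E : Subgroup G) : Set G) := fun E =>
    inf_le_inf_left _ (Subgroup.centralizer_le (hD E).le)
  have hCH' : V ⊓ Subgroup.centralizer (H : Set G) ≤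
      V ⊓ ⨅ E : {E : Subgroup G // P E}, (V ⊓ Subgroup.centralizer ((E : Subgroup G) : Set G)) :=
    le_inf inf_le_left (le_iInf hCH)
  have hCH'' : V ⊓ (⨅ E : {E : Subgroup G // P E}, (V ⊓ Subgroup.centralizer ((E : Subgroup G) : Set G))) ≤
      V ⊓ Subgroup.centralizer (H : Set G) := by
    intro v hv
    obtain ⟨hvV, hv2⟩ := Subgroup.mem_inf.mp hv
    refine Subgroup.mem_inf.mpr ⟨hvV, ?_⟩
    have hle : H ≤ Subgroup.centralizer ({v} : Set G) := by
      refine le_trans hgen (iSup_le fun E => ?_)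
      intro e he
      rw [Subgroup.mem_centralizer_singleton_iff]
      have h3 := (Subgroup.mem_inf.mp ((Subgroup.mem_iInf.mp hv2) E)).2
      exact Subgroup.mem_centralizer_iff.mp h3 e he
    rw [Subgroup.mem_centralizer_iff]
    intro h hh
    have := hle hh
    rw [Subgroup.mem_centralizer_singleton_iff] at this
    exact this
  refine ⟨fun E => ⟨(hD E).normal, (hD E).iso, (hD E).cardW⟩, ?_, ?_, ?_, ?_⟩
  · rw [iSupIndep_def]
    intro E
    have hle : (⨆ j, ⨆ (_ : j ≠ E), (j : Subgroup G)) ≤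
        H ⊓ Subgroup.centralizer ((⁅V, (E : Subgroup G)⁆ : Subgroup G) : Set G) := by
      refine iSup_le fun j => iSup_le fun hj => ?_
      exact hkey E.1 j.1 E.2 j.2 (fun h => hj (Subtype.ext h))
    exact Disjoint.mono_right hle (disjoint_iff.mpr (hD E).inf)
  · exact le_antisymm (iSup_le fun E => (hD E).le) hgen
  · rw [iSupIndep_def]
    intro o
    cases o with
    | none =>
      have hle : (⨆ j, ⨆ (_ : j ≠ (none : Option {E : Subgroup G // P E})),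
          j.elim (V ⊓ Subgroup.centralizer (H : Set G)) (fun E => ⁅V, (E : Subgroup G)⁆)) ≤
          ⨆ E : {E : Subgroup G // P E}, ⁅V, (E : Subgroup G)⁆ := by
        refine iSup_le fun j => iSup_le fun hj => ?_
        cases j with
        | none => exact absurd rfl hj
        | some E' => exact le_iSup (fun E : {E : Subgroup G // P E} => ⁅V, (E : Subgroup G)⁆) E'
      refine Disjoint.mono hCH' hle ?_
      rw [disjoint_iff, inf_comm]
      exact hfam.1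
    | some E =>
      have hle : (⨆ j, ⨆ (_ : j ≠ (some E : Option {E : Subgroup G // P E})),
          j.elim (V ⊓ Subgroup.centralizer (H : Set G)) (fun E => ⁅V, (E : Subgroup G)⁆)) ≤
          V ⊓ Subgroup.centralizer ((E : Subgroup G) : Set G) := by
        refine iSup_le fun j => iSup_le fun hj => ?_
        cases j with
        | none => exact hCH E
        | some E' => exact horth E E' (fun h => hj (h ▸ rfl))
      exact Disjoint.mono_right hle (disjoint_iff.mpr (hD E).disj)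
  · apply le_antisymm
    · exact sup_le inf_le_left (iSup_le hWV)
    · refine le_trans hfam.2 ?_
      rw [sup_comm]
      exact sup_le_sup_right hCH'' _

set_option maxHeartbeats 400000 in
/-- **The structure theorem for failure of factorization**, given the direct factor statement (S0616)
for each minimal offender. -/
theorem ff_structure {G : Type*} [Group G] [Finite G] {p : ℕ} [Fact p.Prime] (V H : Subgroup G)
    (hV : Cfsg.IsElementaryAbelian p V) (hHV : H ≤ Subgroup.normalizer (V : Set G))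
    (hf : H ⊓ Subgroup.centralizer (V : Set G) = ⊥)
    (hS1 : Subgroup.centralizer (Cfsg.pPrimeCore p ↥H : Set ↥H) ≤ Cfsg.pPrimeCore p ↥H)
    (hS3 : H = ⨆ A : {A : Subgroup G // A ≤ H ∧ Cfsg.IsBestOffenderOn p V A}, (A : Subgroup G))
    (hH1 : H ≠ ⊥)
    (h616 : ∀ (A : Subgroup G), A ≤ H → Cfsg.IsBestOffenderOn p V A → ⁅V, A⁆ ≠ ⊥ →
      (∀ B : Subgroup G, B ≤ A → Cfsg.IsBestOffenderOn p V B → ⁅V, B⁆ ≠ ⊥ → B = A) →
      (p = 2 ∨ p = 3) ∧ DirectFactor p V H (⁅((Cfsg.pPrimeCore p ↥H).map H.subtype), A⁆ ⊔ A)) :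
    (p = 2 ∨ p = 3) ∧ (∀ E : {E : Subgroup G // ∃ A : Subgroup G, A ≤ H ∧ Cfsg.IsBestOffenderOn p V A ∧ ⁅V, A⁆ ≠ ⊥ ∧ (∀ B : Subgroup G, B ≤ A → Cfsg.IsBestOffenderOn p V B → ⁅V, B⁆ ≠ ⊥ → B = A) ∧ E = ⁅((Cfsg.pPrimeCore p ↥H).map H.subtype), A⁆ ⊔ A}, H ≤ Subgroup.normalizer ((E : Subgroup G) : Set G) ∧ Nonempty (↥(E : Subgroup G) ≃* Matrix.SpecialLinearGroup (Fin 2) (ZMod p)) ∧ Nat.card ↥(⁅V, (E : Subgroup G)⁆) = p ^ 2) ∧ iSupIndep (fun E : {E : Subgroup G // ∃ A : Subgroup G, A ≤ H ∧ Cfsg.IsBestOffenderOn p V A ∧ ⁅V, A⁆ ≠ ⊥ ∧ (∀ B : Subgroup G, B ≤ A → Cfsg.IsBestOffenderOn p V B → ⁅V, B⁆ ≠ ⊥ → B = A) ∧ E = ⁅((Cfsg.pPrimeCore p ↥H).map H.subtype), A⁆ ⊔ A} => (E : Subgroup G)) ∧ (⨆ E : {E : Subgroup G // ∃ A : Subgroup G, A ≤ H ∧ Cfsg.IsBestOffenderOn p V A ∧ ⁅V, A⁆ ≠ ⊥ ∧ (∀ B : Subgroup G, B ≤ A → Cfsg.IsBestOffenderOn p V B → ⁅V, B⁆ ≠ ⊥ → B = A) ∧ E = ⁅((Cfsg.pPrimeCore p ↥H).map H.subtype), A⁆ ⊔ A}, (E :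 Subgroup G)) = H ∧ iSupIndep (fun o : Option {E : Subgroup G // ∃ A : Subgroup G, A ≤ H ∧ Cfsg.IsBestOffenderOn p V A ∧ ⁅V, A⁆ ≠ ⊥ ∧ (∀ B : Subgroup G, B ≤ A → Cfsg.IsBestOffenderOn p V B → ⁅V, B⁆ ≠ ⊥ → B = A) ∧ E = ⁅((Cfsg.pPrimeCore p ↥H).map H.subtype), A⁆ ⊔ A} => o.elim (V ⊓ Subgroup.centralizer (H : Set G)) (fun E => ⁅V, (E : Subgroup G)⁆)) ∧ (V ⊓ Subgroup.centralizer (H : Set G)) ⊔ (⨆ E : {E : Subgroup G // ∃ A : Subgroup G, A ≤ H ∧ Cfsg.IsBestOffenderOn p V A ∧ ⁅V, A⁆ ≠ ⊥ ∧ (∀ B : Subgroup G, B ≤ A → Cfsg.IsBestOffenderOn p V B → ⁅V, B⁆ ≠ ⊥ → B = A) ∧ E = ⁅((Cfsg.pPrimeCore p ↥H).map H.subtype), A⁆ ⊔ A}, ⁅V, (E : Subgroup G)⁆) = V := by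
  set Q : Subgroup G := (Cfsg.pPrimeCore p ↥H).map H.subtype with hQ
  have hQH : Q ≤ H := Subgroup.map_subtype_le _
  have hVcomm : ∀ x ∈ V, ∀ y ∈ V, x * y = y * x := by
    intro x hx y hy
    have := hV.1
    exact congrArg Subtype.val (mul_comm' (⟨x, hx⟩ : ↥V) ⟨y, hy⟩)
  have hDF : ∀ E : Subgroup G, (∃ A : Subgroup G, A ≤ H ∧ Cfsg.IsBestOffenderOn p V A ∧ ⁅V, A⁆ ≠ ⊥ ∧
      (∀ B : Subgroup G, B ≤ A → Cfsg.IsBestOffenderOn p V B → ⁅V, B⁆ ≠ ⊥ → B = A) ∧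
      E = ⁅Q, A⁆ ⊔ A) → DirectFactor p V H E := by
    rintro E ⟨A, hAH, hA, hAV, hmin, rfl⟩
    exact (h616 A hAH hA hAV hmin).2
  have hkey : ∀ E E' : Subgroup G, (∃ A : Subgroup G, A ≤ H ∧ Cfsg.IsBestOffenderOn p V A ∧ ⁅V, A⁆ ≠ ⊥ ∧
      (∀ B : Subgroup G, B ≤ A → Cfsg.IsBestOffenderOn p V B → ⁅V, B⁆ ≠ ⊥ → B = A) ∧
      E = ⁅Q, A⁆ ⊔ A) → (∃ A : Subgroup G, A ≤ H ∧ Cfsg.IsBestOffenderOn p V A ∧ ⁅V, A⁆ ≠ ⊥ ∧
      (∀ B : Subgroup G, B ≤ A → Cfsg.IsBestOffenderOn p V B → ⁅V, B⁆ ≠ ⊥ → B = A) ∧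
      E' = ⁅Q, A⁆ ⊔ A) → E' ≠ E →
      E' ≤ H ⊓ Subgroup.centralizer ((⁅V, E⁆ : Subgroup G) : Set G) := by
    intro E E' hE hE' hne
    have hDE := hDF E hE
    have hDE' := hDF E' hE'
    obtain ⟨A', hA'H, hA', hA'V, hmin', rfl⟩ := hE'
    have hcard := (minimal_bestOffender V H hV hHV hf hS1 A' hA'H hA' hA'V hmin').2.1
    rcases hDE.le_or_le hf hA'H hcard with h1 | h1
    · exfalso
      apply hne
      have hle : ⁅Q, A'⁆ ⊔ A' ≤ E := commutator_sup_le_of_le_normalizer hQH hDE.normal h1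
      obtain ⟨e1⟩ := hDE.iso
      obtain ⟨e2⟩ := hDE'.iso
      have hc : Nat.card ↥E = Nat.card ↥(⁅Q, A'⁆ ⊔ A') :=
        Nat.card_congr (e1.trans e2.symm).toEquiv
      exact Subgroup.eq_of_le_of_card_ge hle hc.le
    · exact commutator_sup_le_of_le_normalizer hQH hDE.normal_compl h1
  have hgen : H ≤ ⨆ E : {E : Subgroup G // ∃ A : Subgroup G, A ≤ H ∧ Cfsg.IsBestOffenderOn p V A ∧
      ⁅V, A⁆ ≠ ⊥ ∧ (∀ B : Subgroup G, B ≤ A → Cfsg.IsBestOffenderOn p V B → ⁅V, B⁆ ≠ ⊥ → B = A) ∧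
      E = ⁅Q, A⁆ ⊔ A}, (E : Subgroup G) := by
    refine le_trans hS3.le (iSup_le ?_)
    rintro ⟨A, hAH, hA⟩
    obtain ⟨k, B, hB, -, hsup⟩ := bestOffender_decomp V H hV hHV hf hS1 (Nat.card A) A rfl hAH hA
    show A ≤ _
    rw [← hsup]
    refine iSup_le fun i => ?_
    obtain ⟨hBA, hBO, hBV, hBmin⟩ := hB i
    exact le_trans le_sup_right (le_iSup (fun E : {E : Subgroup G // ∃ A : Subgroup G, A ≤ H ∧
      Cfsg.IsBestOffenderOn p V A ∧
      ⁅V, A⁆ ≠ ⊥ ∧ (∀ B : Subgroup G, B ≤ A → Cfsg.IsBestOffenderOn p V B → ⁅V, B⁆ ≠ ⊥ → B = A) ∧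
      E = ⁅Q, A⁆ ⊔ A} => (E : Subgroup G)) ⟨⁅Q, B i⁆ ⊔ B i, B i, hBA.trans hAH, hBO, hBV, hBmin, rfl⟩)
  refine ⟨?_, ff_structure_aux V H hVcomm _ hDF hkey hgen⟩
  by_contra hp23
  apply hH1
  rw [eq_bot_iff]
  refine le_trans hgen (iSup_le ?_)
  rintro ⟨E, A, hAH, hA, hAV, hmin, rfl⟩
  exact absurd (h616 A hAH hA hAV hmin).1 hp23

end Cfsg.Agent.Helper11
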