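import Cfsg.Agent.Helper11.OffenderBound
import Cfsg.Prelude.Def_PLocal

/-!
# Best offenders in the faithful setting of S0610--S0617 (helper11)
-/

set_option autoImplicit false

namespace Cfsg.Agent.Helper11

/-- The hypotheses of S0610--S0617 give an `FFSetting` with `Q = O_{p'}(H)`. -/
theorem ffSetting_of_hyps {G : Type*} [Group G] [Finite G] {p : ℕ} [Fact p.Prime] (V H : Subgroup G)
    (hV : Cfsg.IsElementaryAbelian p V) (hHV : H ≤ Subgroup.normalizer (V : Set G))
    (hf : H ⊓ Subgroup.centralizer (V : Set G) = ⊥)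
    (hS1 : Subgroup.centralizer (Cfsg.pPrimeCore p ↥H : Set ↥H) ≤ Cfsg.pPrimeCore p ↥H) :
    FFSetting p V H ((Cfsg.pPrimeCore p ↥H).map H.subtype) := by
  have hp : p.Prime := Fact.out
  have hchar : (Cfsg.pPrimeCore p ↥H).Characteristic := Cfsg.Agent.Lib.pPrimeCore_characteristic p
  have hnormal : (Cfsg.pPrimeCore p ↥H).Normal := inferInstance
  refine ⟨?_, hHV, hf, ?_, ?_, ?_, ?_⟩
  · intro v
    exact ⟨1, Subtype.ext (by simpa using hV.2 v v.2)⟩
  · rintro _ ⟨y, -, rfl⟩; exact y.2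
  · rw [Subgroup.card_map_of_injective H.subtype_injective]
    have := Cfsg.Agent.Lib.card_pPrimeCore_coprime (G := ↥H) p
    exact (Nat.Prime.coprime_iff_not_dvd hp).mp this.symm
  · intro h hh
    have hconj : ∀ h ∈ H, ∀ x ∈ (Cfsg.pPrimeCore p ↥H).map H.subtype,
        h * x * h⁻¹ ∈ (Cfsg.pPrimeCore p ↥H).map H.subtype := by
      rintro h hh _ ⟨y, hy, rfl⟩
      refine ⟨(⟨h, hh⟩ : ↥H) * y * (⟨h, hh⟩ : ↥H)⁻¹, hnormal.conj_mem y hy _, ?_⟩
      simp
    rw [Subgroup.mem_normalizer_iff]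
    intro x
    constructor
    · intro hx; exact hconj h hh x hx
    · intro hx
      have := hconj h⁻¹ (H.inv_mem hh) _ hx
      simpa [mul_assoc] using this
  · intro h hh hcen
    have : (⟨h, hh⟩ : ↥H) ∈ Subgroup.centralizer (Cfsg.pPrimeCore p ↥H : Set ↥H) := by
      rw [Subgroup.mem_centralizer_iff]
      intro y hy
      apply Subtype.ext
      have := hcen (y : G) ⟨y, hy, rfl⟩
      simpa using this.symm
    exact ⟨⟨h, hh⟩, hS1 this, rfl⟩

open scoped commutatorElement in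
/-- best offenders inside a faithful `H` are abelian. -/
theorem bestOffender_comm {G : Type*} [Group G] {p : ℕ} {V H A : Subgroup G}
    (hf : H ⊓ Subgroup.centralizer (V : Set G) = ⊥) (hAH : A ≤ H) (hA : Cfsg.IsBestOffenderOn p V A) :
    ∀ x ∈ A, ∀ y ∈ A, x * y = y * x := by
  intro x hx y hy
  have h1 : ⁅x, y⁆ ∈ ⁅A, A⁆ := Subgroup.commutator_mem_commutator hx hy
  have h0 : ⁅x, y⁆ ∈ H := by
    rw [commutatorElement_def]
    exact H.mul_mem (H.mul_mem (H.mul_mem (hAH hx) (hAH hy)) (H.inv_mem (hAH hx))) (H.inv_mem (hAH hy))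
  have h2 : ⁅x, y⁆ ∈ H ⊓ Subgroup.centralizer (V : Set G) :=
    Subgroup.mem_inf.mpr ⟨h0, hA.2.1 h1⟩
  rw [hf, Subgroup.mem_bot, commutatorElement_def] at h2
  calc x * y = (x * y * x⁻¹ * y⁻¹) * y * x := by group
    _ = y * x := by rw [h2, one_mul]

/-- best offenders inside a faithful `H` have exponent `p`. -/
theorem bestOffender_exp {G : Type*} [Group G] {p : ℕ} {V H A : Subgroup G}
    (hf : H ⊓ Subgroup.centralizer (V : Set G) = ⊥) (hAH : A ≤ H) (hA : Cfsg.IsBestOffenderOn p V A) :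
    ∀ a ∈ A, a ^ p = 1 := by
  intro a ha
  have h2 : a ^ p ∈ H ⊓ Subgroup.centralizer (V : Set G) :=
    Subgroup.mem_inf.mpr ⟨H.pow_mem (hAH ha) p, hA.2.2 a ha⟩
  rwa [hf, Subgroup.mem_bot] at h2

/-- the trivial subgroup has measure `|V|`. -/
theorem card_bot_mul_card_fixed {G : Type*} [Group G] (V : Subgroup G) :
    Nat.card (⊥ : Subgroup G) * Nat.card ↥(V ⊓ Subgroup.centralizer ((⊥ : Subgroup G) : Set G)) = Nat.card V := by
  rw [Subgroup.card_bot, one_mul]
  have : V ⊓ Subgroup.centralizer ((⊥ : Subgroup G) : Set G) = V := by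
    apply inf_eq_left.mpr
    intro v _
    rw [Subgroup.mem_centralizer_iff]
    intro b hb
    have : b = 1 := Subgroup.mem_bot.mp hb
    subst this
    simp
  rw [this]

/-- **S0610 core**: in the faithful setting a best offender `A ≤ H` has `|A| |C_V(A)| = |V|`. -/
theorem bestOffender_card_mul {G : Type*} [Group G] [Finite G] {p : ℕ} [Fact p.Prime] (V H : Subgroup G)
    (hV : Cfsg.IsElementaryAbelian p V) (hHV : H ≤ Subgroup.normalizer (V : Set G))
    (hf : H ⊓ Subgroup.centralizer (V : Set G) = ⊥)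
    (hS1 : Subgroup.centralizer (Cfsg.pPrimeCore p ↥H : Set ↥H) ≤ Cfsg.pPrimeCore p ↥H)
    (A : Subgroup G) (hAH : A ≤ H) (hA : Cfsg.IsBestOffenderOn p V A) :
    Nat.card A * Nat.card ↥(V ⊓ Subgroup.centralizer (A : Set G)) = Nat.card V := by
  apply le_antisymm
  · exact card_mul_card_fixed_le (ffSetting_of_hyps V H hV hHV hf hS1) _ A rfl hAH
      (bestOffender_comm hf hAH hA) (bestOffender_exp hf hAH hA)
  · have := hA.1 ⊥ bot_le
    rwa [card_bot_mul_card_fixed] at this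

end Cfsg.Agent.Helper11
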