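import Mathlib
import Cfsg.Prelude.Def_PLocal
import Cfsg.Agent.Helper10.ThompsonOf
import Cfsg.Agent.S0604
import Cfsg.Agent.Helper53.NormalComplement
import Cfsg.Agent.Helper11.Replacement

set_option autoImplicit false

namespace Cfsg.Agent.Helper11

section tf
variable {G : Type*} [Group G]

theorem mem_smul_sylow_iff {p : ℕ} (S : Sylow p G) (g x : G) :
    x ∈ ((g • S : Sylow p G) : Subgroup G) ↔ g⁻¹ * x * g ∈ (S : Subgroup G) := by
  rw [Sylow.coe_subgroup_smul, Subgroup.mem_pointwise_smul_iff_inv_smul_mem]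
  simp only [MulAut.smul_def, ← map_inv, MulAut.conj_apply, inv_inv]

/-- `Ω₁Z(S)` as used in Thompson factorizability. -/
abbrev omegaZ (p : ℕ) (S : Subgroup G) : Subgroup G :=
  Cfsg.omegaOne p (S ⊓ Subgroup.centralizer (S : Set G))

theorem thompsonSubgroupOf_le (p : ℕ) (S : Subgroup G) : Cfsg.thompsonSubgroupOf p S ≤ S := by
  unfold Cfsg.thompsonSubgroupOf
  exact Subgroup.map_subtype_le _

/-- Each Sylow subgroup contains a maximal elementary abelian subgroup of `G`. -/
theorem exists_maxElAb_le_sylow [Finite G] {p : ℕ} [Fact p.Prime] (S : Sylow p G) :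
    ∃ A₀ ∈ Cfsg.maxElementaryAbelianSubgroups p G, A₀ ≤ (S : Subgroup G) := by
  obtain ⟨A₁, hA₁⟩ := Helper10.exists_maxElementaryAbelian (G := G) p
  obtain ⟨S₁, hS₁⟩ := (Helper10.isElementaryAbelian_isPGroup hA₁.1).exists_le_sylow
  obtain ⟨g, hg⟩ := MulAction.exists_smul_eq G S₁ S
  refine ⟨A₁.map (MulAut.conj g).toMonoidHom, Helper10.map_mem_maxElementaryAbelian _ hA₁, ?_⟩
  rw [← hg]
  rintro _ ⟨a, ha, rfl⟩
  rw [mem_smul_sylow_iff]
  simp only [MulEquiv.coe_toMonoidHom, MulAut.conj_apply]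
  have : g⁻¹ * (g * a * g⁻¹) * g = a := by group
  rw [this]
  exact hS₁ ha

/-- The subgroup generated by all `Ω₁Z(S)` is normal. -/
theorem iSup_omegaZ_normal {p : ℕ} :
    (⨆ S : Sylow p G, omegaZ p (S : Subgroup G) : Subgroup G).Normal := by
  constructor
  intro v hv g
  have hle : (⨆ S : Sylow p G, omegaZ p (S : Subgroup G) : Subgroup G) ≤
      (⨆ S : Sylow p G, omegaZ p (S : Subgroup G) : Subgroup G).comap (MulAut.conj g).toMonoidHom := by
    apply iSup_le
    intro S
    unfold omegaZ Cfsg.omegaOne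
    rw [Subgroup.closure_le]
    rintro x ⟨hx, hxp⟩
    rw [SetLike.mem_coe, Subgroup.mem_comap]
    simp only [MulEquiv.coe_toMonoidHom, MulAut.conj_apply]
    have hmem : g * x * g⁻¹ ∈ omegaZ p ((g • S : Sylow p G) : Subgroup G) := by
      apply Subgroup.subset_closure
      rw [Subgroup.mem_inf] at hx
      refine ⟨?_, ?_⟩
      · rw [Subgroup.mem_inf]
        constructor
        · rw [mem_smul_sylow_iff]
          have : g⁻¹ * (g * x * g⁻¹) * g = x := by group
          rw [this]; exact hx.1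
        · rw [Subgroup.mem_centralizer_iff]
          intro t ht
          rw [SetLike.mem_coe, mem_smul_sylow_iff] at ht
          have h1 := Subgroup.mem_centralizer_iff.mp hx.2 _ ht
          have h2 : t * (g * x * g⁻¹) = g * ((g⁻¹ * t * g) * x) * g⁻¹ := by group
          rw [h2, h1]; group
      · rw [conj_pow, hxp]; group
    exact le_iSup (fun S : Sylow p G => omegaZ p (S : Subgroup G)) (g • S) hmem
  exact hle hv

end tf

end Cfsg.Agent.Helper11
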