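import Mathlib
import Cfsg.Agent.Helper1.ShultDefs
import Cfsg.Agent.Helper75.ShultNilA

/-!
# (L) of board #4604 (for helper1, S4305): coprime lifting of fixed points for an `S₃`-pair
-/

set_option autoImplicit false

namespace Cfsg.Agent.Helper11.Shult

open Subgroup Cfsg.Agent.Helper1.Shult

variable {H : Type*} [Group H]

/-- the elements `a` of `N_H(N)` with `a y a⁻¹ ∈ y N`, as a subgroup -/
def cosetStab (N : Subgroup H) (y : H) : Subgroup H where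
  carrier := {a | a ∈ normalizer (N : Set H) ∧ y⁻¹ * (a * y * a⁻¹) ∈ N}
  one_mem' := ⟨one_mem _, by simp⟩
  mul_mem' := by
    rintro a b ⟨ha, ha'⟩ ⟨hb, hb'⟩
    refine ⟨mul_mem ha hb, ?_⟩
    have h1 : a * (y⁻¹ * (b * y * b⁻¹)) * a⁻¹ ∈ N := (mem_normalizer_iff.mp ha _).mp hb'
    have h2 := N.mul_mem ha' h1
    have e : y⁻¹ * (a * y * a⁻¹) * (a * (y⁻¹ * (b * y * b⁻¹)) * a⁻¹)
        = y⁻¹ * (a * b * y * (a * b)⁻¹) := by group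
    rw [e] at h2
    exact h2
  inv_mem' := by
    rintro a ⟨ha, ha'⟩
    refine ⟨inv_mem ha, ?_⟩
    have h1 : a⁻¹ * (y⁻¹ * (a * y * a⁻¹)) * a⁻¹⁻¹ ∈ N :=
      (mem_normalizer_iff.mp (inv_mem ha) _).mp ha'
    have h2 := N.inv_mem h1
    have e : (a⁻¹ * (y⁻¹ * (a * y * a⁻¹)) * a⁻¹⁻¹)⁻¹ = y⁻¹ * (a⁻¹ * y * a⁻¹⁻¹) := by group
    rw [e] at h2
    exact h2

theorem mem_cosetStab {N : Subgroup H} {y a : H} :
    a ∈ cosetStab N y ↔ a ∈ normalizer (N : Set H) ∧ y⁻¹ * (a * y * a⁻¹) ∈ N := Iff.rfl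

/-- a generator in `cosetStab` puts the whole cyclic group there -/
theorem zpowers_le_cosetStab {N : Subgroup H} {y g : H} (hg : g ∈ normalizer (N : Set H))
    (hy : y⁻¹ * (g * y * g⁻¹) ∈ N) : zpowers g ≤ cosetStab N y :=
  zpowers_le.2 (show g ∈ cosetStab N y from ⟨hg, hy⟩)

/-- `τ` normalizes the centralizer of `σ` when it inverts `σ` -/
theorem tau_mem_normalizer_centralizer {σ τ : H} (rel : τ * σ * τ⁻¹ = σ⁻¹) :
    τ ∈ normalizer ((centralizer ({σ} : Set H) : Subgroup H) : Set H) := by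
  have rel' : τ⁻¹ * σ * τ = σ⁻¹ := by
    have e : τ⁻¹ * σ * τ = (τ⁻¹ * σ⁻¹ * τ)⁻¹ := by group
    have e2 : τ⁻¹ * σ⁻¹ * τ = σ := by rw [← rel]; group
    rw [e, e2]
  rw [mem_normalizer_iff]
  intro c
  simp only [mem_centralizer_iff, Set.mem_singleton_iff, forall_eq]
  constructor
  · intro hc
    -- σ * (τ c τ⁻¹) = τ (τ⁻¹ σ τ) c τ⁻¹ = τ σ⁻¹ c τ⁻¹ = τ c σ⁻¹ τ⁻¹ = (τ c τ⁻¹) (τ σ⁻¹ τ⁻¹) = (τ c τ⁻¹) σ
    have hc' : σ⁻¹ * c = c * σ⁻¹ := by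
      have : c = σ⁻¹ * (σ * c) := by group
      rw [hc] at this
      calc σ⁻¹ * c = σ⁻¹ * c * σ * σ⁻¹ := by group
        _ = c * σ⁻¹ := by rw [mul_assoc σ⁻¹ c σ, ← this]
    have e1 : σ * (τ * c * τ⁻¹) = τ * (τ⁻¹ * σ * τ) * c * τ⁻¹ := by group
    have e2 : τ * c * τ⁻¹ * σ = τ * c * (τ⁻¹ * σ * τ) * τ⁻¹ := by group
    rw [e1, e2, rel', mul_assoc τ σ⁻¹ c, hc', mul_assoc τ c σ⁻¹]
  · intro hc
    have hs : σ⁻¹ * (τ * c * τ⁻¹) = τ * c * τ⁻¹ * σ⁻¹ := by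
      have : τ * c * τ⁻¹ = σ⁻¹ * (σ * (τ * c * τ⁻¹)) := by group
      rw [hc] at this
      calc σ⁻¹ * (τ * c * τ⁻¹) = σ⁻¹ * (τ * c * τ⁻¹) * σ * σ⁻¹ := by group
        _ = τ * c * τ⁻¹ * σ⁻¹ := by rw [mul_assoc σ⁻¹ (τ * c * τ⁻¹) σ, ← this]
    -- σ c = τ⁻¹ (τ σ τ⁻¹) (τ c τ⁻¹) τ = τ⁻¹ σ⁻¹ (τ c τ⁻¹) τ
    have e1 : σ * c = τ⁻¹ * ((τ * σ * τ⁻¹) * (τ * c * τ⁻¹)) * τ := by group
    have e2 : c * σ = τ⁻¹ * ((τ * c * τ⁻¹) * (τ * σ * τ⁻¹)) * τ := by group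
    rw [e1, e2, rel, hs]

variable [Finite H]

/-- (L) coprime lifting of fixed points for the S3-pair. -/
theorem s3_fixed_lift {σ τ : H} (h : S3Pair σ τ) (N : Subgroup H) (hN : Inv σ τ N)
    (hcop : (Nat.card N).Coprime 6) (y : H)
    (hyσ : y⁻¹ * (σ * y * σ⁻¹) ∈ N) (hyτ : y⁻¹ * (τ * y * τ⁻¹) ∈ N) :
    ∃ n ∈ N, σ * (y * n) * σ⁻¹ = y * n ∧ τ * (y * n) * τ⁻¹ = y * n := by
  obtain ⟨hσN, hτN⟩ := hN
  have h3 : ¬ 3 ∣ Nat.card N := by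
    intro hd
    have := Nat.dvd_gcd hd (by norm_num : 3 ∣ 6)
    rw [hcop] at this
    omega
  have h2 : ¬ 2 ∣ Nat.card N := by
    intro hd
    have := Nat.dvd_gcd hd (by norm_num : 2 ∣ 6)
    rw [hcop] at this
    omega
  -- step 1: a σ-fixed point in `y N`
  have hA1 : IsPGroup 3 (zpowers σ) :=
    IsPGroup.of_card (n := 1) (by rw [Nat.card_zpowers, h.oσ, pow_one])
  have hle1 : zpowers σ ≤ cosetStab N y := zpowers_le_cosetStab hσN hyσ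
  obtain ⟨y1, hy1N, hy1fix⟩ := Cfsg.Agent.Helper75.ShultNil.exists_fixed_in_coset
    (A := zpowers σ) (Φ := N) (p := 3) hA1 h3 (fun a ha => (hle1 ha).1) y
    (fun a ha => (hle1 ha).2)
  have hσy1 : σ * y1 * σ⁻¹ = y1 := hy1fix σ (mem_zpowers σ)
  -- step 2: a τ-fixed point in `y1 (N ⊓ C(σ))`
  set Nσ : Subgroup H := N ⊓ centralizer ({σ} : Set H) with hNσ
  have hτNσ : τ ∈ normalizer (Nσ : Set H) := by
    have hτC := tau_mem_normalizer_centralizer h.rel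
    rw [mem_normalizer_iff] at hτN hτC ⊢
    intro c
    rw [hNσ, mem_inf, mem_inf, ← hτN c, ← hτC c]
  have h2' : ¬ 2 ∣ Nat.card Nσ := fun hd =>
    h2 (dvd_trans hd (Subgroup.card_dvd_of_le inf_le_left))
  have hy1τ : y1⁻¹ * (τ * y1 * τ⁻¹) ∈ Nσ := by
    rw [hNσ, mem_inf]
    constructor
    · -- in N
      have h1 : τ * (y⁻¹ * y1) * τ⁻¹ ∈ N := (mem_normalizer_iff.mp hτN _).mp hy1N
      have h4 := N.mul_mem (N.mul_mem (N.inv_mem hy1N) hyτ) h1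
      have e : (y⁻¹ * y1)⁻¹ * (y⁻¹ * (τ * y * τ⁻¹)) * (τ * (y⁻¹ * y1) * τ⁻¹)
          = y1⁻¹ * (τ * y1 * τ⁻¹) := by group
      rw [e] at h4
      exact h4
    · -- commutes with σ
      have hc1 : y1 ∈ centralizer ({σ} : Set H) := by
        simp only [mem_centralizer_iff, Set.mem_singleton_iff, forall_eq]
        calc σ * y1 = σ * y1 * σ⁻¹ * σ := by group
          _ = y1 * σ := by rw [hσy1]
      have hc2 : τ * y1 * τ⁻¹ ∈ centralizer ({σ} : Set H) :=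
        (mem_normalizer_iff.mp (tau_mem_normalizer_centralizer h.rel) _).mp hc1
      exact mul_mem (inv_mem hc1) hc2
  have hA2 : IsPGroup 2 (zpowers τ) :=
    IsPGroup.of_card (n := 1) (by rw [Nat.card_zpowers, h.oτ, pow_one])
  have hle2 : zpowers τ ≤ cosetStab Nσ y1 := zpowers_le_cosetStab hτNσ hy1τ
  obtain ⟨y2, hy2N, hy2fix⟩ := Cfsg.Agent.Helper75.ShultNil.exists_fixed_in_coset
    (A := zpowers τ) (Φ := Nσ) (p := 2) hA2 h2' (fun a ha => (hle2 ha).1) y1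
    (fun a ha => (hle2 ha).2)
  have hτy2 : τ * y2 * τ⁻¹ = y2 := hy2fix τ (mem_zpowers τ)
  rw [hNσ, mem_inf] at hy2N
  obtain ⟨hy2N1, hy2C⟩ := hy2N
  have hσy2 : σ * y2 * σ⁻¹ = y2 := by
    simp only [mem_centralizer_iff, Set.mem_singleton_iff, forall_eq] at hy2C
    -- y2 = y1 * (y1⁻¹ y2)
    calc σ * y2 * σ⁻¹ = (σ * y1 * σ⁻¹) * (σ * (y1⁻¹ * y2)) * σ⁻¹ := by group
      _ = y1 * (y1⁻¹ * y2 * σ) * σ⁻¹ := by rw [hσy1, hy2C]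
      _ = y2 := by group
  refine ⟨y⁻¹ * y2, ?_, ?_, ?_⟩
  · have := N.mul_mem hy1N hy2N1
    have e : y⁻¹ * y1 * (y1⁻¹ * y2) = y⁻¹ * y2 := by group
    rw [e] at this
    exact this
  · rw [mul_inv_cancel_left]; exact hσy2
  · rw [mul_inv_cancel_left]; exact hτy2

end Cfsg.Agent.Helper11.Shult
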