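import Cfsg.Agent.Helper96.StC.Generic
import Cfsg.Agent.Helper96.StC.Basic
import Cfsg.Agent.Helper29.StCA1
import Cfsg.Agent.Helper14.StCA4
set_option autoImplicit false

/-!
Piece (A5L) of board post #7223 (helper96, S2092, type `C` Steinberg presentation): the long-root element
`w_{p p̄}(t)` is monomial.  `W_long_isMono_of` takes piece (A1) and the long rank-one relations as hypotheses.
-/

namespace Cfsg.Agent.Helper11.StCA5L

open Cfsg.Agent.Helper96.StN Cfsg.Agent.Helper96.StC

universe u v w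

variable {K : Type u} [Field K] {D : Type v} [Group D] {ι : Type w} [DecidableEq ι]
  {X : ι ⊕ ι → ι ⊕ ι → K → D}

theorem reflPerm_long (p : ι ⊕ ι) : reflPerm p (bar p) = Equiv.swap p (bar p) := by
  unfold reflPerm
  rw [if_pos rfl]

theorem cw_long (p : ι ⊕ ι) (t : K) (k : ι ⊕ ι) :
    cw p (bar p) t k = if k = p then -t⁻¹ else if k = bar p then t else 1 := by
  unfold cw
  rw [if_pos rfl]

theorem ne_bar_of_ne_bar {k p : ι ⊕ ι} (h : k ≠ bar p) : p ≠ bar k := fun e => h (by rw [e, bar_bar])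

theorem bar_ne_of_ne {k p : ι ⊕ ι} (h : k ≠ p) : bar k ≠ bar p := fun e => h (bar_injective e)

theorem bar_ne_of_ne_bar {k p : ι ⊕ ι} (h : k ≠ bar p) : bar k ≠ p := fun e => h (by rw [← e, bar_bar])

section

variable (hX : SpRel X)
  (hA1 : ∀ {p l : ι ⊕ ι}, l ≠ p → l ≠ bar p → ∀ {t : K}, t ≠ 0 → ∀ u : K,
    W X p (bar p) t * X (bar p) l u * (W X p (bar p) t)⁻¹ = X p l (t * u))

include hX hA1

/-- `k = p`, `l ∉ {p, p̄}` -/
theorem W_long_conj_p {p l : ι ⊕ ι} (hlp : l ≠ p) (hlp' : l ≠ bar p) {t : K} (ht : t ≠ 0) (u : K) :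
    W X p (bar p) t * X p l u * (W X p (bar p) t)⁻¹ = X (bar p) l (-(t⁻¹ * u)) := by
  have h := hA1 hlp hlp' (neg_ne_zero.mpr ht) (-(t⁻¹ * u))
  rw [← W_inv hX (bar_ne p).symm t] at h
  have e : -t * -(t⁻¹ * u) = u := by field_simp
  rw [e, inv_inv] at h
  rw [← h]
  group

/-- `l = p`, `k ∉ {p, p̄}` -/
theorem W_long_conj_kp {p k : ι ⊕ ι} (hkp : k ≠ p) (hkp' : k ≠ bar p) {t : K} (ht : t ≠ 0) (u : K) :
    W X p (bar p) t * X k p u * (W X p (bar p) t)⁻¹ = X k (bar p) (-(t * u)) := by
  rw [hX.sym k p hkp (ne_bar_of_ne_bar hkp') u,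
    hA1 (bar_ne_of_ne_bar hkp') (bar_ne_of_ne hkp) ht,
    hX.sym p (bar k) (bar_ne_of_ne_bar hkp').symm (fun e => hkp (bar_injective e)), bar_bar]
  congr 1
  rw [eps_bar_right, eps_comm p k]
  have h := eps_mul_self (K := K) k p
  linear_combination (-(t * u)) * h

/-- `l = p̄`, `k ∉ {p, p̄}` -/
theorem W_long_conj_kbar {p k : ι ⊕ ι} (hkp : k ≠ p) (hkp' : k ≠ bar p) {t : K} (ht : t ≠ 0) (u : K) :
    W X p (bar p) t * X k (bar p) u * (W X p (bar p) t)⁻¹ = X k p (t⁻¹ * u) := by
  rw [hX.sym k (bar p) hkp' (fun e => hkp (bar_injective e).symm) u, bar_bar,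
    W_long_conj_p hX hA1 (bar_ne_of_ne_bar hkp') (bar_ne_of_ne hkp) ht,
    sym' hX hkp (ne_bar_of_ne_bar hkp')]
  congr 1
  rw [eps_bar_right]
  have h := eps_mul_self (K := K) k p
  linear_combination (t⁻¹ * u) * h

/-- `k, l ∉ {p, p̄}` -/
theorem W_long_conj_disj {p k l : ι ⊕ ι} (hkl : k ≠ l) (hkp : k ≠ p) (hkp' : k ≠ bar p) (hlp : l ≠ p)
    (hlp' : l ≠ bar p) (t u : K) :
    W X p (bar p) t * X k l u * (W X p (bar p) t)⁻¹ = X k l u := by
  have e : W X p (bar p) t * X k l u * (W X p (bar p) t)⁻¹ =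
      X p (bar p) t * (X (bar p) p (-t⁻¹) * (X p (bar p) t * X k l u * (X p (bar p) t)⁻¹) *
        (X (bar p) p (-t⁻¹))⁻¹) * (X p (bar p) t)⁻¹ := by
    unfold W; group
  have c1 : ∀ s : K, X p (bar p) s * X k l u * (X p (bar p) s)⁻¹ = X k l u := fun s =>
    comm_conj hX (bar_ne p).symm hkl hkp'.symm (fun e => hlp (bar_injective e).symm)
      (ne_bar_of_ne_bar hkp') hlp.symm s u
  have c2 : ∀ s : K, X (bar p) p s * X k l u * (X (bar p) p s)⁻¹ = X k l u := fun s =>
    comm_conj hX (bar_ne p) hkl hkp.symm (ne_bar_of_ne_bar hlp') (bar_ne_of_ne hkp).symm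
      hlp'.symm s u
  rw [e, c1, c2, c1]

/-- the long-root `w` is monomial, given (A1) and the long rank-one relations -/
theorem W_long_isMono_of (hLR : ∀ p : ι ⊕ ι, Cfsg.Agent.Helper96.StPres.Rel (pair X p (bar p))) (p : ι ⊕ ι)
    {t : K} (ht : t ≠ 0) :
    IsMono X (W X p (bar p) t) (reflPerm p (bar p)) (cw p (bar p) t) := by
  refine ⟨fun k => ?_, fun k l hkl u => ?_⟩
  · rw [cw_long]
    split_ifs
    · exact neg_ne_zero.mpr (inv_ne_zero ht)
    · exact ht
    · exact one_ne_zero
  · rw [reflPerm_long, cw_long, cw_long]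
    have hpp : p ≠ bar p := (bar_ne p).symm
    by_cases hkp : k = p
    · subst hkp
      by_cases hlb : l = bar k
      · subst hlb
        have h := (hLR k).conj true t u ht
        rw [Wd_pair_true] at h
        rw [Equiv.swap_apply_left, Equiv.swap_apply_right]
        simp only [pair_true, Bool.not_true, pair_false] at h
        rw [h]
        congr 1
        simp only [if_true, if_neg hpp.symm]
        field_simp
      · have hlk : l ≠ k := fun e => hkl e.symm
        rw [W_long_conj_p hX hA1 hlk hlb ht, Equiv.swap_apply_left,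
          Equiv.swap_apply_of_ne_of_ne hlk hlb]
        congr 1
        simp only [if_true, if_neg hlk, if_neg hlb]
        field_simp
    · by_cases hkb : k = bar p
      · subst hkb
        by_cases hlp : l = p
        · subst hlp
          have h := Cfsg.Agent.Helper96.StPres.conj' (hLR l) true t u ht
          rw [Wd_pair_true] at h
          simp only [pair_true, Bool.not_true, pair_false] at h
          rw [h, Equiv.swap_apply_left, Equiv.swap_apply_right]
          congr 1
          simp only [if_true, if_neg hpp.symm]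
          field_simp
        · have hlb : l ≠ bar p := fun e => hkl e.symm
          rw [hA1 hlp hlb ht, Equiv.swap_apply_right, Equiv.swap_apply_of_ne_of_ne hlp hlb]
          congr 1
          simp only [if_true, if_neg hpp.symm, if_neg hlp, if_neg hlb]
          field_simp
      · by_cases hlp : l = p
        · subst hlp
          rw [W_long_conj_kp hX hA1 hkp hkb ht, Equiv.swap_apply_of_ne_of_ne hkp hkb,
            Equiv.swap_apply_left]
          congr 1
          simp only [if_true, if_neg hkp, if_neg hkb]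
          field_simp
        · by_cases hlb : l = bar p
          · subst hlb
            rw [W_long_conj_kbar hX hA1 hkp hkb ht, Equiv.swap_apply_of_ne_of_ne hkp hkb,
              Equiv.swap_apply_right]
            congr 1
            simp only [if_true, if_neg hkp, if_neg hkb, if_neg hpp.symm]
            field_simp
          · rw [W_long_conj_disj hX hA1 hkl hkp hkb hlp hlb, Equiv.swap_apply_of_ne_of_ne hkp hkb,
              Equiv.swap_apply_of_ne_of_ne hlp hlb]
            congr 1
            simp only [if_neg hkp, if_neg hkb, if_neg hlp, if_neg hlb]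
            simp

end

/-- (A5L) the long-root `w` is monomial -/
theorem W_long_isMono (hX : SpRel X) (h2 : ∀ p : ι ⊕ ι, ∃ r, r ≠ p ∧ r ≠ bar p) (p : ι ⊕ ι)
    {t : K} (ht : t ≠ 0) :
    IsMono X (W X p (bar p) t) (reflPerm p (bar p)) (cw p (bar p) t) :=
  W_long_isMono_of hX (fun hlp hlp' _ ht u => Cfsg.Agent.Helper29.StCA1.W_long_conj_bar hX hlp hlp' ht u)
    (fun p => Cfsg.Agent.Helper14.StCA4.long_pair_rel hX h2 p) p ht

end Cfsg.Agent.Helper11.StCA5L
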