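import Mathlib
import Cfsg.Agent.Helper1.ShultDefs
import Cfsg.Agent.Helper75.ShultNilA

/-!
# (I) of board #4604 (for helper1, S4305): an involution without fixed points modulo `K0` on a group
`C` of odd order makes `C / K0` abelian
-/

set_option autoImplicit false

namespace Cfsg.Agent.Helper11.Shult

open Subgroup

variable {H : Type*} [Group H] [Finite H]

/-- (I) an involution without fixed points modulo `K0` on the odd order group `C`: `C / K0` is
abelian. -/
theorem comm_mem_of_fpf_invol {τ : H} (hτ : orderOf τ = 2) (C K0 : Subgroup H) (hK0C : K0 ≤ C)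
    (hCK0 : C ≤ normalizer (K0 : Set H)) (hτC : τ ∈ normalizer (C : Set H))
    (hτK0 : τ ∈ normalizer (K0 : Set H)) (hodd : Odd (Nat.card C))
    (hfix : C ⊓ centralizer {τ} ≤ K0) :
    ∀ a ∈ C, ∀ b ∈ C, a * b * a⁻¹ * b⁻¹ ∈ K0 := by
  have hτ2 : τ * τ = 1 := by
    have := pow_orderOf_eq_one τ
    rw [hτ, pow_two] at this
    exact this
  have hτinv : τ⁻¹ = τ := inv_eq_of_mul_eq_one_left hτ2
  have hnorm : (K0.subgroupOf C).Normal :=
    (normal_subgroupOf_iff_le_normalizer hK0C).2 hCK0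
  -- the automorphism of `C` induced by `τ`
  let θ : ↥C ≃* ↥C := Cfsg.Agent.Helper75.ShultNil.conjOn τ hτC
  have hθ : ∀ x : ↥C, ((θ x : ↥C) : H) = τ * x * τ⁻¹ := fun x =>
    Cfsg.Agent.Helper75.ShultNil.conjOn_coe τ hτC x
  have hθK : K0.subgroupOf C ≤ (K0.subgroupOf C).comap θ.toMonoidHom := by
    intro k hk
    rw [mem_comap, mem_subgroupOf]
    rw [mem_subgroupOf] at hk
    show ((θ k : ↥C) : H) ∈ K0
    rw [hθ]
    exact (mem_normalizer_iff.mp hτK0 _).mp hk
  let φ : (↥C ⧸ K0.subgroupOf C) →* (↥C ⧸ K0.subgroupOf C) :=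
    QuotientGroup.map (K0.subgroupOf C) (K0.subgroupOf C) θ.toMonoidHom hθK
  have hφmk : ∀ x : ↥C, φ (QuotientGroup.mk x) = QuotientGroup.mk (θ x) := fun x => rfl
  -- involutive
  have hinv : Function.Involutive φ := by
    intro xb
    induction xb using QuotientGroup.induction_on with
    | H x =>
      rw [hφmk, hφmk]
      congr 1
      apply Subtype.ext
      rw [hθ, hθ, hτinv]
      calc τ * (τ * (x : H) * τ) * τ = (τ * τ) * (x : H) * (τ * τ) := by group
        _ = x := by rw [hτ2, one_mul, mul_one]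
  -- fixed point free
  have h2K0 : ¬ 2 ∣ Nat.card K0 := by
    intro hd
    have h1 : 2 ∣ Nat.card C := dvd_trans hd (Subgroup.card_dvd_of_le hK0C)
    exact (Nat.not_even_iff_odd.2 hodd) (even_iff_two_dvd.2 h1)
  have hA2 : IsPGroup 2 (zpowers τ) :=
    IsPGroup.of_card (n := 1) (by rw [Nat.card_zpowers, hτ, pow_one])
  have hfpf : MonoidHom.FixedPointFree φ := by
    intro xb hx
    induction xb using QuotientGroup.induction_on with
    | H x =>
      rw [hφmk] at hx
      have h1 : x⁻¹ * θ x ∈ K0.subgroupOf C := QuotientGroup.eq.1 hx.symm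
      rw [mem_subgroupOf] at h1
      have h1' : (x : H)⁻¹ * (τ * (x : H) * τ⁻¹) ∈ K0 := by
        have : ((x⁻¹ * θ x : ↥C) : H) = (x : H)⁻¹ * (τ * (x : H) * τ⁻¹) := by
          rw [Subgroup.coe_mul, Subgroup.coe_inv, hθ]
        rw [← this]
        exact h1
      -- all of `zpowers τ` stabilizes the coset
      have hstab : ∀ a ∈ zpowers τ, a ∈ normalizer (K0 : Set H) ∧
          (x : H)⁻¹ * (a * (x : H) * a⁻¹) ∈ K0 := by
        intro a ha
        obtain ⟨k, rfl⟩ := mem_zpowers_iff.1 ha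
        rcases Int.even_or_odd k with ⟨j, rfl⟩ | ⟨j, rfl⟩
        · have e : τ ^ (j + j) = 1 := by
            rw [zpow_add, ← (Commute.refl τ).mul_zpow, hτ2, one_zpow]
          rw [e]
          exact ⟨one_mem _, by simp⟩
        · have e : τ ^ (2 * j + 1) = τ := by
            rw [zpow_add, zpow_one, two_mul, zpow_add, ← (Commute.refl τ).mul_zpow, hτ2, one_zpow,
              one_mul]
          rw [e]
          exact ⟨hτK0, h1'⟩
      obtain ⟨y, hyK, hyfix⟩ := Cfsg.Agent.Helper75.ShultNil.exists_fixed_in_coset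
        (A := zpowers τ) (Φ := K0) (p := 2) hA2 h2K0 (fun a ha => (hstab a ha).1) (x : H)
        (fun a ha => (hstab a ha).2)
      have hyτ : τ * y * τ⁻¹ = y := hyfix τ (mem_zpowers τ)
      have hyC : y ∈ C := by
        have : y = (x : H) * ((x : H)⁻¹ * y) := by group
        rw [this]
        exact C.mul_mem x.2 (hK0C hyK)
      have hycent : y ∈ centralizer ({τ} : Set H) := by
        simp only [mem_centralizer_iff, Set.mem_singleton_iff, forall_eq]
        calc τ * y = τ * y * τ⁻¹ * τ := by group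
          _ = y * τ := by rw [hyτ]
      have hyK0 : y ∈ K0 := hfix ⟨hyC, hycent⟩
      have hxK0 : (x : H) ∈ K0 := by
        have : (x : H) = y * ((x : H)⁻¹ * y)⁻¹ := by group
        rw [this]
        exact K0.mul_mem hyK0 (K0.inv_mem hyK)
      exact (QuotientGroup.eq_one_iff x).2 (mem_subgroupOf.2 hxK0)
  intro a ha b hb
  have hcomm := MonoidHom.FixedPointFree.commute_all_of_involutive hfpf hinv
    (QuotientGroup.mk (⟨a, ha⟩ : ↥C)) (QuotientGroup.mk (⟨b, hb⟩ : ↥C))
  have h1 : (QuotientGroup.mk ((⟨a, ha⟩ : ↥C) * ⟨b, hb⟩ * (⟨a, ha⟩ : ↥C)⁻¹ * (⟨b, hb⟩ : ↥C)⁻¹) :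
      ↥C ⧸ K0.subgroupOf C) = 1 := by
    rw [QuotientGroup.mk_mul, QuotientGroup.mk_mul, QuotientGroup.mk_mul, QuotientGroup.mk_inv,
      QuotientGroup.mk_inv, hcomm.eq]
    group
  have h2 := (QuotientGroup.eq_one_iff _).1 h1
  rw [mem_subgroupOf] at h2
  exact h2

end Cfsg.Agent.Helper11.Shult
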