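import Mathlib

/-!
# Recognition of `SL(2, p)` acting on a plane inside a group (helper11)

`W` is an elementary abelian subgroup of order `p ^ 2` of `G` with "basis" `w₁, w₂`.  The normalizer of `W`
acts on `W`; in the coordinates given by `w₁, w₂` this gives a homomorphism to `2 × 2` matrices over `ZMod p`.
If `D = ⟨a, b⟩` acts faithfully, `a` acts as an upper and `b` as a lower transvection, then `D ≃* SL(2, p)`.
-/

set_option autoImplicit false

namespace Cfsg.Agent.Helper11.SL2Recog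

open Matrix

variable {G : Type*} [Group G] {p : ℕ} [hp : Fact p.Prime]

/-- `W` is a plane with basis `w₁, w₂`. -/
structure PlaneData (p : ℕ) (W : Subgroup G) (w₁ w₂ : G) : Prop where
  comm : ∀ x ∈ W, ∀ y ∈ W, x * y = y * x
  exp : ∀ x ∈ W, x ^ p = 1
  mem₁ : w₁ ∈ W
  mem₂ : w₂ ∈ W
  card : Nat.card W = p ^ 2
  indep : ∀ i j : ℕ, w₁ ^ i * w₂ ^ j = 1 → p ∣ i ∧ p ∣ j

/-- the coordinate space -/
abbrev T (p : ℕ) := Fin 2 → ZMod p

theorem pow_val_add {x : G} (hx : x ^ p = 1) (s t : ZMod p) :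
    x ^ (s + t).val = x ^ s.val * x ^ t.val := by
  rw [ZMod.val_add, ← pow_add, ← pow_eq_pow_mod _ hx]

theorem pow_val_natCast {x : G} (hx : x ^ p = 1) (n : ℕ) : x ^ ((n : ZMod p)).val = x ^ n := by
  rw [ZMod.val_natCast, ← pow_eq_pow_mod _ hx]

section coords

variable {W : Subgroup G} {w₁ w₂ : G} (hP : PlaneData p W w₁ w₂)

/-- the parametrisation of `W` -/
def eFun (hP : PlaneData p W w₁ w₂) (v : T p) : ↥W :=
  ⟨w₁ ^ (v 0).val * w₂ ^ (v 1).val, W.mul_mem (W.pow_mem hP.mem₁ _) (W.pow_mem hP.mem₂ _)⟩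

theorem eFun_add (u v : T p) : eFun hP (u + v) = eFun hP u * eFun hP v := by
  apply Subtype.ext
  show w₁ ^ ((u + v) 0).val * w₂ ^ ((u + v) 1).val =
    (w₁ ^ (u 0).val * w₂ ^ (u 1).val) * (w₁ ^ (v 0).val * w₂ ^ (v 1).val)
  rw [Pi.add_apply, Pi.add_apply, pow_val_add (hP.exp _ hP.mem₁), pow_val_add (hP.exp _ hP.mem₂)]
  have hc : w₂ ^ (u 1).val * w₁ ^ (v 0).val = w₁ ^ (v 0).val * w₂ ^ (u 1).val :=
    hP.comm _ (W.pow_mem hP.mem₂ _) _ (W.pow_mem hP.mem₁ _)
  calc w₁ ^ (u 0).val * w₁ ^ (v 0).val * (w₂ ^ (u 1).val * w₂ ^ (v 1).val)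
      = w₁ ^ (u 0).val * (w₁ ^ (v 0).val * w₂ ^ (u 1).val) * w₂ ^ (v 1).val := by group
    _ = w₁ ^ (u 0).val * (w₂ ^ (u 1).val * w₁ ^ (v 0).val) * w₂ ^ (v 1).val := by rw [hc]
    _ = _ := by group

theorem eFun_zero : eFun hP (0 : T p) = 1 := by
  apply Subtype.ext
  show w₁ ^ ((0 : T p) 0).val * w₂ ^ ((0 : T p) 1).val = 1
  simp

theorem eFun_eq_one {v : T p} (h : eFun hP v = 1) : v = 0 := by
  have h' : w₁ ^ (v 0).val * w₂ ^ (v 1).val = 1 := congrArg Subtype.val h
  obtain ⟨h0, h1⟩ := hP.indep _ _ h'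
  have e0 : (v 0).val = 0 := Nat.eq_zero_of_dvd_of_lt h0 (ZMod.val_lt _)
  have e1 : (v 1).val = 0 := Nat.eq_zero_of_dvd_of_lt h1 (ZMod.val_lt _)
  funext i
  fin_cases i
  · exact (ZMod.val_eq_zero _).mp e0
  · exact (ZMod.val_eq_zero _).mp e1

theorem eFun_injective : Function.Injective (eFun hP) := by
  intro u v huv
  have h1 : eFun hP (u - v) * eFun hP v = eFun hP u := by
    rw [← eFun_add, sub_add_cancel]
  have h2 : eFun hP (u - v) = 1 := by
    rw [huv] at h1
    exact mul_eq_right.mp h1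
  exact sub_eq_zero.mp (eFun_eq_one hP h2)

theorem card_T : Nat.card (T p) = p ^ 2 := by
  rw [Nat.card_eq_fintype_card, Fintype.card_fun, ZMod.card, Fintype.card_fin]

theorem eFun_bijective : Function.Bijective (eFun hP) := by
  haveI : Finite ↥W := Nat.finite_of_card_ne_zero (by rw [hP.card]; exact pow_ne_zero 2 hp.out.ne_zero)
  refine (eFun_injective hP).bijective_of_nat_card_le ?_
  rw [hP.card, card_T]

/-- the parametrisation as an equivalence -/
noncomputable def eEquiv : T p ≃ ↥W := Equiv.ofBijective (eFun hP) (eFun_bijective hP)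

theorem eEquiv_apply (v : T p) : eEquiv hP v = eFun hP v := rfl

/-- coordinates -/
noncomputable def coord (x : ↥W) : T p := (eEquiv hP).symm x

theorem eFun_coord (x : ↥W) : eFun hP (coord hP x) = x := (eEquiv hP).apply_symm_apply x

theorem coord_eFun (v : T p) : coord hP (eFun hP v) = v := (eEquiv hP).symm_apply_apply v

theorem coord_mul (x y : ↥W) : coord hP (x * y) = coord hP x + coord hP y := by
  apply eFun_injective hP
  rw [eFun_add, eFun_coord, eFun_coord, eFun_coord]

theorem coord_one : coord hP (1 : ↥W) = 0 := by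
  apply eFun_injective hP
  rw [eFun_coord, eFun_zero]

theorem coord_pow_mul (i j : ℕ) (h : w₁ ^ i * w₂ ^ j ∈ W) :
    coord hP ⟨w₁ ^ i * w₂ ^ j, h⟩ = ![(i : ZMod p), (j : ZMod p)] := by
  apply eFun_injective hP
  rw [eFun_coord]
  apply Subtype.ext
  show w₁ ^ i * w₂ ^ j = w₁ ^ ((![(i : ZMod p), (j : ZMod p)] : T p) 0).val *
    w₂ ^ ((![(i : ZMod p), (j : ZMod p)] : T p) 1).val
  simp only [Matrix.cons_val_zero, Matrix.cons_val_one]
  rw [pow_val_natCast (hP.exp _ hP.mem₁), pow_val_natCast (hP.exp _ hP.mem₂)]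


/-- conjugation by an element of the normalizer, on `W` -/
def conjW (W : Subgroup G) (g : ↥(Subgroup.normalizer (W : Set G))) (x : ↥W) : ↥W :=
  ⟨(g : G) * x * (g : G)⁻¹, (Subgroup.mem_normalizer_iff.mp g.2 x).mp x.2⟩

theorem conjW_mul_elt (W : Subgroup G) (g : ↥(Subgroup.normalizer (W : Set G))) (x y : ↥W) :
    conjW W g (x * y) = conjW W g x * conjW W g y := by
  apply Subtype.ext
  show (g : G) * ((x : G) * y) * (g : G)⁻¹ = ((g : G) * x * (g : G)⁻¹) * ((g : G) * y * (g : G)⁻¹)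
  group

theorem conjW_mul (W : Subgroup G) (g h : ↥(Subgroup.normalizer (W : Set G))) (x : ↥W) :
    conjW W (g * h) x = conjW W g (conjW W h x) := by
  apply Subtype.ext
  show ((g : G) * (h : G)) * x * ((g : G) * (h : G))⁻¹ = (g : G) * ((h : G) * x * (h : G)⁻¹) * (g : G)⁻¹
  group

theorem conjW_one (W : Subgroup G) (x : ↥W) : conjW W 1 x = x := by
  apply Subtype.ext
  show (1 : G) * x * (1 : G)⁻¹ = x
  group

/-- the additive map in coordinates -/
noncomputable def alpha (g : ↥(Subgroup.normalizer (W : Set G))) : T p →+ T p where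
  toFun v := coord hP (conjW W g (eFun hP v))
  map_zero' := by
    rw [eFun_zero]
    have : conjW W g 1 = 1 := by
      apply Subtype.ext
      show (g : G) * 1 * (g : G)⁻¹ = 1
      group
    rw [this, coord_one]
  map_add' u v := by
    rw [eFun_add, conjW_mul_elt, coord_mul]

theorem alpha_apply (g : ↥(Subgroup.normalizer (W : Set G))) (v : T p) :
    alpha hP g v = coord hP (conjW W g (eFun hP v)) := rfl

theorem alpha_mul (g h : ↥(Subgroup.normalizer (W : Set G))) :
    alpha hP (g * h) = (alpha hP g).comp (alpha hP h) := by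
  refine AddMonoidHom.ext fun v => ?_
  rw [AddMonoidHom.comp_apply, alpha_apply, alpha_apply, alpha_apply, eFun_coord, conjW_mul]

theorem alpha_one : alpha hP (1 : ↥(Subgroup.normalizer (W : Set G))) = AddMonoidHom.id _ := by
  refine AddMonoidHom.ext fun v => ?_
  rw [alpha_apply, conjW_one, coord_eFun]
  rfl

/-- the matrix of an element of the normalizer -/
noncomputable def matHom : ↥(Subgroup.normalizer (W : Set G)) →* Matrix (Fin 2) (Fin 2) (ZMod p) where
  toFun g := LinearMap.toMatrix' ((alpha hP g).toZModLinearMap p)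
  map_one' := by
    rw [alpha_one]
    exact LinearMap.toMatrix'_id
  map_mul' g h := by
    rw [alpha_mul, ← LinearMap.toMatrix'_mul]
    rfl

theorem matHom_apply (g : ↥(Subgroup.normalizer (W : Set G))) (i j : Fin 2) :
    matHom hP g i j = coord hP (conjW W g (eFun hP (Pi.single j 1))) i := by
  show LinearMap.toMatrix' ((alpha hP g).toZModLinearMap p) i j = _
  rw [LinearMap.toMatrix'_apply]
  rfl

theorem eFun_single_zero : (eFun hP (Pi.single 0 1) : G) = w₁ := by
  show w₁ ^ ((Pi.single 0 1 : T p) 0).val * w₂ ^ ((Pi.single 0 1 : T p) 1).val = w₁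
  have : Fact (1 < p) := ⟨hp.out.one_lt⟩
  simp [ZMod.val_one]

theorem eFun_single_one : (eFun hP (Pi.single 1 1) : G) = w₂ := by
  show w₁ ^ ((Pi.single 1 1 : T p) 0).val * w₂ ^ ((Pi.single 1 1 : T p) 1).val = w₂
  have : Fact (1 < p) := ⟨hp.out.one_lt⟩
  simp [ZMod.val_one]

/-- the matrix of `g` from its action on the basis. -/
theorem matHom_eq (g : ↥(Subgroup.normalizer (W : Set G))) (i j k l : ℕ)
    (h₁ : (g : G) * w₁ * (g : G)⁻¹ = w₁ ^ i * w₂ ^ j) (h₂ : (g : G) * w₂ * (g : G)⁻¹ = w₁ ^ k * w₂ ^ l) :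
    matHom hP g = !![(i : ZMod p), (k : ZMod p); (j : ZMod p), (l : ZMod p)] := by
  have e1 : conjW W g (eFun hP (Pi.single 0 1)) =
      ⟨w₁ ^ i * w₂ ^ j, W.mul_mem (W.pow_mem hP.mem₁ _) (W.pow_mem hP.mem₂ _)⟩ := by
    apply Subtype.ext
    show (g : G) * (eFun hP (Pi.single 0 1) : G) * (g : G)⁻¹ = _
    rw [eFun_single_zero, h₁]
  have e2 : conjW W g (eFun hP (Pi.single 1 1)) =
      ⟨w₁ ^ k * w₂ ^ l, W.mul_mem (W.pow_mem hP.mem₁ _) (W.pow_mem hP.mem₂ _)⟩ := by
    apply Subtype.ext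
    show (g : G) * (eFun hP (Pi.single 1 1) : G) * (g : G)⁻¹ = _
    rw [eFun_single_one, h₂]
  ext a b
  rw [matHom_apply]
  fin_cases b
  · show coord hP (conjW W g (eFun hP (Pi.single 0 1))) a = _
    rw [e1, coord_pow_mul]
    fin_cases a <;> rfl
  · show coord hP (conjW W g (eFun hP (Pi.single 1 1))) a = _
    rw [e2, coord_pow_mul]
    fin_cases a <;> rfl

/-- an element with trivial matrix centralizes `W`. -/
theorem conj_eq_of_matHom_eq_one (g : ↥(Subgroup.normalizer (W : Set G))) (h : matHom hP g = 1)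
    (x : G) (hx : x ∈ W) : (g : G) * x * (g : G)⁻¹ = x := by
  have h1 : LinearMap.toMatrix' ((alpha hP g).toZModLinearMap p) = LinearMap.toMatrix' LinearMap.id := by
    rw [LinearMap.toMatrix'_id]; exact h
  have h2 : (alpha hP g).toZModLinearMap p = LinearMap.id := LinearMap.toMatrix'.injective h1
  have h3 : ∀ v : T p, alpha hP g v = v := fun v => by
    have := congrArg (fun f : T p →ₗ[ZMod p] T p => f v) h2
    simpa using this
  have h4 := h3 (coord hP ⟨x, hx⟩)
  rw [alpha_apply, eFun_coord] at h4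
  have h5 : conjW W g ⟨x, hx⟩ = ⟨x, hx⟩ := by
    have := congrArg (eFun hP) h4
    rwa [eFun_coord, eFun_coord] at this
  exact congrArg Subtype.val h5

end coords

section generation

open Matrix.SpecialLinearGroup

theorem transvection_nsmul {i j : Fin 2} (hij : i ≠ j) (c : ZMod p) (n : ℕ) :
    (SpecialLinearGroup.transvection hij c) ^ n = SpecialLinearGroup.transvection hij (n • c) := by
  induction n with
  | zero => rw [pow_zero, zero_smul, transvection_coeff_zero]
  | succ n ih => rw [pow_succ, ih, succ_nsmul, transvection_add]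

/-- a subgroup of `SL(2, p)` containing an upper and a lower nontrivial transvection is everything. -/
theorem eq_top_of_transvections (S : Subgroup (Matrix.SpecialLinearGroup (Fin 2) (ZMod p)))
    {c d : ZMod p} (hc : c ≠ 0) (hd : d ≠ 0)
    (h01 : SpecialLinearGroup.transvection (zero_ne_one : (0 : Fin 2) ≠ 1) c ∈ S)
    (h10 : SpecialLinearGroup.transvection (one_ne_zero : (1 : Fin 2) ≠ 0) d ∈ S) : S = ⊤ := by
  have key : ∀ {i j : Fin 2} (hij : i ≠ j) (c : ZMod p), c ≠ 0 →
      SpecialLinearGroup.transvection hij c ∈ S → ∀ t : ZMod p, SpecialLinearGroup.transvection hij t ∈ S := by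
    intro i j hij c hc hmem t
    have ht : t = (t * c⁻¹).val • c := by
      rw [nsmul_eq_mul, ZMod.natCast_zmod_val, mul_assoc, inv_mul_cancel₀ hc, mul_one]
    rw [ht, ← transvection_nsmul]
    exact S.pow_mem hmem _
  rw [eq_top_iff]
  intro A _
  refine Matrix.SL2.transvection_induction (fun A => A ∈ S) ?_ (fun A B hA hB => S.mul_mem hA hB) A
  intro i j hij t
  fin_cases i
  · obtain rfl : j = 1 := by fin_cases j <;> tauto
    exact key _ c hc h01 t
  · obtain rfl : j = 0 := by fin_cases j <;> tauto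
    exact key _ d hd h10 t

end generation

section main

variable {W : Subgroup G} {w₁ w₂ : G}

/-- **Recognition of `SL(2, p)`**: `D ≤ ⟨a, b⟩` containing `a, b` acts faithfully on the plane `W`, `a` acts as an
upper transvection and `b` as a lower transvection in the basis `w₁, w₂`. -/
theorem nonempty_mulEquiv_SL2 (hP : PlaneData p W w₁ w₂) (D : Subgroup G) (a b : G) (haD : a ∈ D) (hbD : b ∈ D)
    (hD : D ≤ Subgroup.closure {a, b}) (haN : a ∈ Subgroup.normalizer (W : Set G))
    (hbN : b ∈ Subgroup.normalizer (W : Set G)) (ha₁ : a * w₁ * a⁻¹ = w₁) (ha₂ : a * w₂ * a⁻¹ = w₁ * w₂)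
    (μ : ℕ) (hμ : ¬ p ∣ μ) (hb₁ : b * w₁ * b⁻¹ = w₁ * w₂ ^ μ) (hb₂ : b * w₂ * b⁻¹ = w₂)
    (hfaith : D ⊓ Subgroup.centralizer (W : Set G) = ⊥) :
    Nonempty (↥D ≃* Matrix.SpecialLinearGroup (Fin 2) (ZMod p)) := by
  classical
  have hclN : Subgroup.closure {a, b} ≤ Subgroup.normalizer (W : Set G) := by
    rw [Subgroup.closure_le]
    rintro x (rfl | rfl)
    · exact haN
    · exact hbN
  have hDN : D ≤ Subgroup.normalizer (W : Set G) := hD.trans hclN
  -- matrices of `a`, `b`
  have hMa : matHom hP ⟨a, haN⟩ = !![(1 : ZMod p), 1; 0, 1] := by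
    have := matHom_eq hP ⟨a, haN⟩ 1 0 1 1 (by simpa using ha₁) (by simpa using ha₂)
    simpa using this
  have hMb : matHom hP ⟨b, hbN⟩ = !![(1 : ZMod p), 0; (μ : ZMod p), 1] := by
    have := matHom_eq hP ⟨b, hbN⟩ 1 μ 0 1 (by simpa using hb₁) (by simpa using hb₂)
    simpa using this
  -- determinant one
  have hdet : ∀ g (hg : g ∈ Subgroup.closure {a, b}), (matHom hP ⟨g, hclN hg⟩).det = 1 := by
    intro g hg
    induction hg using Subgroup.closure_induction with
    | mem x hx =>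
      rcases hx with rfl | rfl
      · rw [hMa, Matrix.det_fin_two_of]; ring
      · rw [hMb, Matrix.det_fin_two_of]; ring
    | one =>
      have : (⟨1, hclN (Subgroup.one_mem _)⟩ : ↥(Subgroup.normalizer (W : Set G))) = 1 := rfl
      rw [this, map_one, Matrix.det_one]
    | mul x y hx hy ihx ihy =>
      have : (⟨x * y, hclN (Subgroup.mul_mem _ hx hy)⟩ : ↥(Subgroup.normalizer (W : Set G))) =
          ⟨x, hclN hx⟩ * ⟨y, hclN hy⟩ := rfl
      rw [this, map_mul, Matrix.det_mul, ihx, ihy, mul_one]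
    | inv x hx ihx =>
      have h1 : (⟨x⁻¹, hclN (Subgroup.inv_mem _ hx)⟩ : ↥(Subgroup.normalizer (W : Set G))) *
          ⟨x, hclN hx⟩ = 1 := by
        apply Subtype.ext
        show x⁻¹ * x = 1
        group
      have h2 := congrArg (fun g => (matHom hP g).det) h1
      simp only [map_mul, Matrix.det_mul, map_one, Matrix.det_one] at h2
      rw [ihx, mul_one] at h2
      exact h2
  -- the homomorphism
  let Φ : ↥D →* Matrix.SpecialLinearGroup (Fin 2) (ZMod p) :=
    { toFun := fun d => ⟨matHom hP ⟨d, hDN d.2⟩, hdet d (hD d.2)⟩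
      map_one' := by
        apply Subtype.ext
        have : (⟨((1 : ↥D) : G), hDN (1 : ↥D).2⟩ : ↥(Subgroup.normalizer (W : Set G))) = 1 := rfl
        show matHom hP ⟨((1 : ↥D) : G), hDN (1 : ↥D).2⟩ = 1
        rw [this, map_one]
      map_mul' := by
        intro d e
        apply Subtype.ext
        have : (⟨((d * e : ↥D) : G), hDN (d * e).2⟩ : ↥(Subgroup.normalizer (W : Set G))) =
            ⟨d, hDN d.2⟩ * ⟨e, hDN e.2⟩ := rfl
        show matHom hP ⟨((d * e : ↥D) : G), hDN (d * e).2⟩ =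
          matHom hP ⟨d, hDN d.2⟩ * matHom hP ⟨e, hDN e.2⟩
        rw [this, map_mul] }
  have hΦ : ∀ d : ↥D, (Φ d : Matrix (Fin 2) (Fin 2) (ZMod p)) = matHom hP ⟨d, hDN d.2⟩ := fun d => rfl
  have hinj : Function.Injective Φ := by
    rw [injective_iff_map_eq_one]
    intro d hd
    have h1 : matHom hP ⟨d, hDN d.2⟩ = 1 := by
      rw [← hΦ, hd]; rfl
    have h2 : (d : G) ∈ D ⊓ Subgroup.centralizer (W : Set G) := by
      refine Subgroup.mem_inf.mpr ⟨d.2, ?_⟩
      rw [Subgroup.mem_centralizer_iff]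
      intro x hx
      have := conj_eq_of_matHom_eq_one hP ⟨d, hDN d.2⟩ h1 x hx
      calc x * (d : G) = ((d : G) * x * (d : G)⁻¹) * d := by rw [this]
        _ = d * x := by group
    rw [hfaith, Subgroup.mem_bot] at h2
    exact Subtype.ext h2
  have hsurj : Function.Surjective Φ := by
    rw [← MonoidHom.range_eq_top]
    have hμ' : (μ : ZMod p) ≠ 0 := by
      intro h
      exact hμ ((ZMod.natCast_eq_zero_iff μ p).mp h)
    refine eq_top_of_transvections Φ.range (c := 1) (d := (μ : ZMod p)) one_ne_zero hμ' ?_ ?_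
    · refine ⟨⟨a, haD⟩, ?_⟩
      apply Subtype.ext
      rw [hΦ]
      show matHom hP ⟨a, _⟩ = _
      rw [hMa, SpecialLinearGroup.transvection_coe]
      ext i j
      fin_cases i <;> fin_cases j <;> simp [Matrix.single_apply]
    · refine ⟨⟨b, hbD⟩, ?_⟩
      apply Subtype.ext
      rw [hΦ]
      show matHom hP ⟨b, _⟩ = _
      rw [hMb, SpecialLinearGroup.transvection_coe]
      ext i j
      fin_cases i <;> fin_cases j <;> simp [Matrix.single_apply]
  exact ⟨MulEquiv.ofBijective Φ ⟨hinj, hsurj⟩⟩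

end main

end Cfsg.Agent.Helper11.SL2Recog
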