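import Cfsg.Agent.Helper11.ThompsonFact
import Cfsg.Agent.Helper54.PConstrained
import Cfsg.Agent.Helper11.PSeries
import Cfsg.Agent.Lib.Cores

set_option autoImplicit false

namespace Cfsg.Agent.Helper11

section iso
variable {G : Type*} [Group G] {H : Type*} [Group H]

/-- `J` is invariant under isomorphisms. -/
theorem thompsonSubgroup_map_equiv (p : ℕ) (φ : G ≃* H) :
    (Cfsg.thompsonSubgroup p G).map φ.toMonoidHom = Cfsg.thompsonSubgroup p H := by
  apply le_antisymm
  · unfold Cfsg.thompsonSubgroup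
    rw [Subgroup.map_le_iff_le_comap]
    apply sSup_le
    intro A hA
    rw [← Subgroup.map_le_iff_le_comap]
    exact le_sSup (Helper10.map_mem_maxElementaryAbelian φ hA)
  · unfold Cfsg.thompsonSubgroup
    apply sSup_le
    intro B hB
    have h1 : B.map φ.symm.toMonoidHom ≤ sSup (Cfsg.maxElementaryAbelianSubgroups p G) :=
      le_sSup (Helper10.map_mem_maxElementaryAbelian φ.symm hB)
    have h2 := Subgroup.map_mono (f := φ.toMonoidHom) h1
    have h3 : (B.map φ.symm.toMonoidHom).map φ.toMonoidHom = B := by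
      rw [Subgroup.map_map]
      have : φ.toMonoidHom.comp φ.symm.toMonoidHom = MonoidHom.id H := by
        ext x; simp
      rw [this, Subgroup.map_id]
    rwa [h3] at h2

/-- `J(range f)` for an injective `f`. -/
theorem thompsonSubgroupOf_range (p : ℕ) (f : G →* H) (hf : Function.Injective f) :
    Cfsg.thompsonSubgroupOf p f.range = (Cfsg.thompsonSubgroup p G).map f := by
  unfold Cfsg.thompsonSubgroupOf
  rw [← thompsonSubgroup_map_equiv p (MonoidHom.ofInjective hf), Subgroup.map_map]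
  congr 1

/-- `J(π S) = π (J(S))` when `π` is injective on `S`. -/
theorem thompsonSubgroupOf_map (p : ℕ) (π : G →* H) (S : Subgroup G)
    (hinj : ∀ x ∈ S, π x = 1 → x = 1) :
    Cfsg.thompsonSubgroupOf p (S.map π) = (Cfsg.thompsonSubgroupOf p S).map π := by
  have hf : Function.Injective (π.comp S.subtype) := by
    rw [injective_iff_map_eq_one]
    intro x hx
    exact Subtype.ext (hinj x.1 x.2 hx)
  have h1 : S.map π = (π.comp S.subtype).range := by
    rw [MonoidHom.range_comp, Subgroup.range_subtype]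
  rw [h1, thompsonSubgroupOf_range p _ hf]
  unfold Cfsg.thompsonSubgroupOf
  rw [Subgroup.map_map]

/-- `Ω₁Z(π S) = π (Ω₁Z(S))` when `π` is injective on `S`. -/
theorem omegaZ_map (p : ℕ) (π : G →* H) (S : Subgroup G)
    (hinj : ∀ x ∈ S, π x = 1 → x = 1) :
    omegaZ p (S.map π) = (omegaZ p S).map π := by
  have hinj2 : ∀ x ∈ S, ∀ y ∈ S, π x = π y → x = y := by
    intro x hx y hy hxy
    have h1 : π (x * y⁻¹) = 1 := by rw [map_mul, map_inv, hxy, mul_inv_cancel]
    have h2 := hinj _ (S.mul_mem hx (S.inv_mem hy)) h1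
    exact mul_inv_eq_one.mp h2
  unfold omegaZ Cfsg.omegaOne
  rw [MonoidHom.map_closure]
  congr 1
  ext y
  constructor
  · rintro ⟨hy, hyp⟩
    rw [Subgroup.mem_inf] at hy
    obtain ⟨⟨x, hx, rfl⟩, hyC⟩ := hy
    refine ⟨x, ⟨Subgroup.mem_inf.mpr ⟨hx, ?_⟩, ?_⟩, rfl⟩
    · rw [Subgroup.mem_centralizer_iff]
      intro s hs
      apply hinj2 _ (S.mul_mem hs hx) _ (S.mul_mem hx hs)
      rw [map_mul, map_mul]
      exact Subgroup.mem_centralizer_iff.mp hyC _ ⟨s, hs, rfl⟩
    · apply hinj _ (S.pow_mem hx p)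
      rw [map_pow]; exact hyp
  · rintro ⟨x, ⟨hx, hxp⟩, rfl⟩
    rw [Subgroup.mem_inf] at hx
    refine ⟨Subgroup.mem_inf.mpr ⟨⟨x, hx.1, rfl⟩, ?_⟩, ?_⟩
    · rw [Subgroup.mem_centralizer_iff]
      rintro _ ⟨s, hs, rfl⟩
      rw [← map_mul, ← map_mul, Subgroup.mem_centralizer_iff.mp hx.2 s hs]
    · rw [← map_pow, hxp, map_one]

end iso

end Cfsg.Agent.Helper11
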