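import Mathlib
import Cfsg.Prelude.Def_PLocal
import Cfsg.Agent.Helper11.ThompsonIso
import Cfsg.Agent.S0605

set_option autoImplicit false
universe u

namespace Cfsg.Agent.Helper11

section stableW

/-- The family of subgroups whose intersection is `W(S)`. -/
def stableFamily (p : ℕ) (S : Type u) [Group S] : Set (Subgroup S) :=
  {W : Subgroup S | Cfsg.omegaOne p (Subgroup.center S) ≤ W ∧
    ∀ (H : Type u) [Group H] (τ : S →* H), Cfsg.IsStableEmbedding p τ → (W.map τ).Normal}

theorem stableNormalClosure_eq (p : ℕ) (S : Type u) [Group S] :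
    Cfsg.stableNormalClosure p S = sInf (stableFamily p S) := rfl

/-- `Ω₁Z(J(S))` is invariant under isomorphisms. -/
theorem omegaCenterThompson_map_equiv (p : ℕ) {S S' : Type*} [Group S] [Group S'] (η : S ≃* S') :
    (Cfsg.omegaCenterThompson p S).map η.toMonoidHom = Cfsg.omegaCenterThompson p S' := by
  unfold Cfsg.omegaCenterThompson
  have h := omegaZ_map p η.toMonoidHom (Cfsg.thompsonSubgroup p S)
    (fun x _ hx => by
      have : η x = η 1 := by rw [map_one]; exact hx
      exact η.injective this)
  unfold omegaZ at h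
  rw [thompsonSubgroup_map_equiv] at h
  exact h.symm

/-- Precomposing a stable embedding with an isomorphism gives a stable embedding. -/
theorem isStableEmbedding_comp_equiv (p : ℕ) {S S' H : Type u} [Group S] [Group S'] [Group H]
    (η : S ≃* S') (τ' : S' →* H) (h : Cfsg.IsStableEmbedding p τ') :
    Cfsg.IsStableEmbedding p (τ'.comp η.toMonoidHom) := by
  obtain ⟨h1, h2, ⟨P, hP⟩, h4, h5, h6⟩ := h
  refine ⟨?_, h2, ⟨P, ?_⟩, h4, ?_, ?_⟩
  · exact h1.comp η.injective
  · rw [hP, MonoidHom.range_comp]
    have : η.toMonoidHom.range = ⊤ := MonoidHom.range_eq_top.mpr η.surjective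
    rw [this, ← MonoidHom.range_eq_map]
  · rw [← Subgroup.map_map, thompsonSubgroup_map_equiv]
    exact h5
  · intro V _ hV
    apply h6 V
    rw [← Subgroup.map_map, omegaCenterThompson_map_equiv] at hV
    exact hV

/-- The defining family is transported by isomorphisms. -/
theorem map_mem_stableFamily (p : ℕ) {S S' : Type u} [Group S] [Group S'] (η : S ≃* S')
    {W : Subgroup S} (hW : W ∈ stableFamily p S) : W.map η.toMonoidHom ∈ stableFamily p S' := by
  obtain ⟨hW1, hW2⟩ := hW
  refine ⟨?_, ?_⟩
  · unfold Cfsg.omegaOne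
    rw [Subgroup.closure_le]
    rintro x' ⟨hx', hx'p⟩
    refine ⟨η.symm x', hW1 (Subgroup.subset_closure ⟨?_, ?_⟩), by simp⟩
    · rw [Subgroup.mem_center_iff]
      intro g
      apply η.injective
      rw [map_mul, map_mul, MulEquiv.apply_symm_apply]
      exact Subgroup.mem_center_iff.mp hx' (η g)
    · rw [← map_pow, hx'p, map_one]
  · intro H _ τ' hτ'
    have := hW2 H (τ'.comp η.toMonoidHom) (isStableEmbedding_comp_equiv p η τ' hτ')
    rw [Subgroup.map_map]
    exact this

/-- `W(S)` is transported by isomorphisms. -/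
theorem stableNormalClosure_map_equiv (p : ℕ) {S S' : Type u} [Group S] [Group S'] (η : S ≃* S') :
    (Cfsg.stableNormalClosure p S).map η.toMonoidHom = Cfsg.stableNormalClosure p S' := by
  have key : ∀ {T T' : Type u} [Group T] [Group T'] (θ : T ≃* T'),
      (Cfsg.stableNormalClosure p T).map θ.toMonoidHom ≤ Cfsg.stableNormalClosure p T' := by
    intro T T' _ _ θ
    rw [stableNormalClosure_eq, stableNormalClosure_eq]
    apply le_sInf
    intro W' hW'
    have h1 := map_mem_stableFamily p θ.symm hW'
    have h2 : sInf (stableFamily p T) ≤ W'.map θ.symm.toMonoidHom := sInf_le h1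
    have h3 := Subgroup.map_mono (f := θ.toMonoidHom) h2
    have h4 : (W'.map θ.symm.toMonoidHom).map θ.toMonoidHom = W' := by
      rw [Subgroup.map_map]
      have : θ.toMonoidHom.comp θ.symm.toMonoidHom = MonoidHom.id T' := by
        ext x; simp
      rw [this, Subgroup.map_id]
    rwa [h4] at h3
  apply le_antisymm (key η)
  have h1 := Subgroup.map_mono (f := η.toMonoidHom) (key η.symm)
  have h2 : ((Cfsg.stableNormalClosure p S').map η.symm.toMonoidHom).map η.toMonoidHom =
      Cfsg.stableNormalClosure p S' := by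
    rw [Subgroup.map_map]
    have : η.toMonoidHom.comp η.symm.toMonoidHom = MonoidHom.id S' := by
      ext x; simp
    rw [this, Subgroup.map_id]
  rwa [h2] at h1

/-- `Ω₁Z(X)` of a normal subgroup is normal. -/
theorem omegaZ_normal (p : ℕ) {H : Type*} [Group H] (X : Subgroup H) [hX : X.Normal] :
    (omegaZ p X).Normal := by
  constructor
  intro v hv g
  have hle : omegaZ p X ≤ (omegaZ p X).comap (MulAut.conj g).toMonoidHom := by
    unfold omegaZ Cfsg.omegaOne
    rw [Subgroup.closure_le]
    rintro x ⟨hx, hxp⟩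
    rw [SetLike.mem_coe, Subgroup.mem_comap]
    simp only [MulEquiv.coe_toMonoidHom, MulAut.conj_apply]
    apply Subgroup.subset_closure
    rw [Subgroup.mem_inf] at hx
    refine ⟨Subgroup.mem_inf.mpr ⟨hX.conj_mem x hx.1 g, ?_⟩, ?_⟩
    · rw [Subgroup.mem_centralizer_iff]
      intro t ht
      have ht' : g⁻¹ * t * g⁻¹⁻¹ ∈ X := hX.conj_mem t ht g⁻¹
      rw [inv_inv] at ht'
      have h1 := Subgroup.mem_centralizer_iff.mp hx.2 _ ht'
      have h2 : t * (g * x * g⁻¹) = g * ((g⁻¹ * t * g) * x) * g⁻¹ := by group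
      rw [h2, h1]; group
    · rw [conj_pow, hxp]; group
  exact hle hv

end stableW

end Cfsg.Agent.Helper11
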