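import Mathlib
import Cfsg.Prelude.Def_PLocal

set_option autoImplicit false

namespace Cfsg.Agent.Helper11

/-- Elements of a commutative subgroup commute. -/
theorem comm_of_isMulCommutative {S : Type*} [Group S] {A : Subgroup S} (hA : IsMulCommutative A)
    {y z : S} (hy : y ∈ A) (hz : z ∈ A) : y * z = z * y :=
  congrArg Subtype.val (hA.is_comm.comm (⟨y, hy⟩ : A) ⟨z, hz⟩)

/-- The trivial subgroup is elementary abelian. -/
theorem isElementaryAbelian_bot {S : Type*} [Group S] (p : ℕ) :
    Cfsg.IsElementaryAbelian p (⊥ : Subgroup S) := by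
  refine ⟨⟨⟨?_⟩⟩, ?_⟩
  · rintro ⟨a, ha⟩ ⟨b, hb⟩
    rw [Subgroup.mem_bot] at ha hb
    subst ha; subst hb; rfl
  · intro a ha
    rw [Subgroup.mem_bot] at ha
    subst ha; simp

/-- In a finite group, the family of elementary abelian subgroups of largest order is nonempty. -/
theorem maxElAb_nonempty {S : Type*} [Group S] [Finite S] (p : ℕ) :
    (Cfsg.maxElementaryAbelianSubgroups p S).Nonempty := by
  classical
  have hfin : (Set.univ : Set {A : Subgroup S // Cfsg.IsElementaryAbelian p A}).Finite := Set.toFinite _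
  have hbot : Cfsg.IsElementaryAbelian p (⊥ : Subgroup S) := isElementaryAbelian_bot p
  haveI : Nonempty {A : Subgroup S // Cfsg.IsElementaryAbelian p A} := ⟨⟨⊥, hbot⟩⟩
  obtain ⟨A, hA⟩ := Finite.exists_max (fun A : {A : Subgroup S // Cfsg.IsElementaryAbelian p A} => Nat.card A.1)
  exact ⟨A.1, A.2, fun B hB => hA ⟨B, hB⟩⟩

/-- Adjoining to an elementary abelian subgroup `A` an element `x` of order dividing `p` commuting with `A`
gives an elementary abelian subgroup. -/
theorem elAb_adjoin {S : Type*} [Group S] (p : ℕ) (A : Subgroup S) (hA : Cfsg.IsElementaryAbelian p A)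
    (x : S) (hx : x ^ p = 1) (hxA : ∀ a ∈ A, a * x = x * a) :
    Cfsg.IsElementaryAbelian p (Subgroup.closure ((A : Set S) ∪ {x})) := by
  have hcomm : ∀ y ∈ ((A : Set S) ∪ {x}), ∀ z ∈ ((A : Set S) ∪ {x}), y * z = z * y := by
    intro y hy z hz
    rcases hy with hy | hy <;> rcases hz with hz | hz
    · have := hA.1.is_comm.comm (⟨y, hy⟩ : A) ⟨z, hz⟩
      exact congrArg Subtype.val this
    · rw [Set.mem_singleton_iff] at hz; subst hz
      exact hxA y hy
    · rw [Set.mem_singleton_iff] at hy; subst hy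
      exact (hxA z hz).symm
    · rw [Set.mem_singleton_iff] at hy hz; subst hy; subst hz; rfl
  have hcomm2 : ∀ y ∈ Subgroup.closure ((A : Set S) ∪ {x}), ∀ z ∈ Subgroup.closure ((A : Set S) ∪ {x}), y * z = z * y := by
    intro y hy z hz
    have hz' : z ∈ Subgroup.centralizer ((Subgroup.closure ((A : Set S) ∪ {x}) : Subgroup S) : Set S) := by
      revert z
      show Subgroup.closure ((A : Set S) ∪ {x}) ≤ Subgroup.centralizer ((Subgroup.closure ((A : Set S) ∪ {x}) : Subgroup S) : Set S)
      rw [Subgroup.closure_le]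
      intro z hz
      rw [SetLike.mem_coe, Subgroup.centralizer_closure, Subgroup.mem_centralizer_iff]
      intro w hw
      exact hcomm w hw z hz
    exact (Subgroup.mem_centralizer_iff.mp hz' y hy)
  refine ⟨⟨⟨?_⟩⟩, ?_⟩
  · rintro ⟨y, hy⟩ ⟨z, hz⟩
    exact Subtype.ext (hcomm2 y hy z hz)
  · intro a ha
    induction ha using Subgroup.closure_induction with
    | mem y hy =>
      rcases hy with hy | hy
      · exact hA.2 y hy
      · rw [Set.mem_singleton_iff] at hy; subst hy; exact hx
    | one => simp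
    | mul y z hy hz ihy ihz =>
      rw [(show Commute y z from hcomm2 y hy z hz).mul_pow, ihy, ihz, one_mul]
    | inv y hy ihy => rw [inv_pow, ihy, inv_one]

end Cfsg.Agent.Helper11
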