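import Mathlib
import Cfsg.Agent.Helper44.AltSylDefs

/-!
# S2221 piece (D6): a factor with faithful surjective character can be dropped from the kernel of
the product character
-/

set_option autoImplicit false

namespace Cfsg.Agent.Helper11.AltSyl

open Cfsg.Agent.Helper44.AltSyl
open scoped RegularWreathProduct

theorem piSign_eq_mul_prod {J : Type*} [Fintype J] [DecidableEq J]
    (Wf : J → Type*) [∀ j, Group (Wf j)] (s : ∀ j, Wf j →* ℤˣ) (j₁ : J) (w : ∀ j, Wf j) :
    piSign s w = s j₁ (w j₁) * ∏ j : {j : J // j ≠ j₁}, s j (w j) := by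
  rw [piSign_apply, ← Finset.mul_prod_erase Finset.univ (fun j => s j (w j)) (Finset.mem_univ j₁)]
  congr 1
  exact Finset.prod_subtype (Finset.univ.erase j₁) (p := fun j => j ≠ j₁)
    (fun j => by simp) (fun j => s j (w j))

/-- (D6) a factor of order two with faithful character can be dropped from the kernel -/
theorem ker_piSign_equiv_pi {J : Type*} [Fintype J] [DecidableEq J]
    (Wf : J → Type*) [∀ j, Group (Wf j)] (s : ∀ j, Wf j →* ℤˣ) (j₁ : J)
    (hinj : ∀ w : Wf j₁, s j₁ w = 1 → w = 1) (hodd : ∃ u : Wf j₁, s j₁ u = -1) :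
    Nonempty (↥(piSign s).ker ≃* (∀ j : {j : J // j ≠ j₁}, Wf j)) := by
  classical
  obtain ⟨u, hu⟩ := hodd
  let Φ : ↥(piSign s).ker →* (∀ j : {j : J // j ≠ j₁}, Wf j) :=
    { toFun := fun w j => (w : ∀ j, Wf j) j
      map_one' := rfl
      map_mul' := fun _ _ => rfl }
  have hΦ : ∀ (w : ↥(piSign s).ker) (j : {j : J // j ≠ j₁}), Φ w j = (w : ∀ j, Wf j) j :=
    fun _ _ => rfl
  have hbij : Function.Bijective Φ := by
    constructor
    · rw [injective_iff_map_eq_one]
      intro w hw
      have h1 : ∀ j : {j : J // j ≠ j₁}, (w : ∀ j, Wf j) j = 1 := by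
        intro j
        rw [← hΦ, hw]
        rfl
      have h2 := MonoidHom.mem_ker.mp w.2
      rw [piSign_eq_mul_prod Wf s j₁, Finset.prod_eq_one (fun j _ => by rw [h1 j, map_one]),
        mul_one] at h2
      have h3 := hinj _ h2
      apply Subtype.ext
      funext j
      by_cases hj : j = j₁
      · subst hj
        exact h3
      · exact h1 ⟨j, hj⟩
    · intro v
      set t : ℤˣ := ∏ j : {j : J // j ≠ j₁}, s j (v j) with ht
      obtain ⟨a, ha⟩ : ∃ a : Wf j₁, s j₁ a = t := by
        rcases Int.units_eq_one_or t with h | h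
        · exact ⟨1, by rw [map_one, h]⟩
        · exact ⟨u, by rw [hu, h]⟩
      let w : ∀ j, Wf j := fun j => if h : j = j₁ then (h.symm ▸ a : Wf j) else v ⟨j, h⟩
      have hw1 : w j₁ = a := by
        show (if h : j₁ = j₁ then (h.symm ▸ a : Wf j₁) else v ⟨j₁, h⟩) = a
        rw [dif_pos rfl]
      have hw2 : ∀ j : {j : J // j ≠ j₁}, w j = v j := by
        intro j
        show (if h : (j : J) = j₁ then (h.symm ▸ a : Wf j) else v ⟨j, h⟩) = v j
        rw [dif_neg j.2]
      have hwk : w ∈ (piSign s).ker := by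
        rw [MonoidHom.mem_ker, piSign_eq_mul_prod Wf s j₁, hw1, ha,
          Finset.prod_congr rfl (fun j _ => by rw [hw2 j]), ← ht]
        exact Int.units_mul_self t
      refine ⟨⟨w, hwk⟩, ?_⟩
      funext j
      rw [hΦ]
      exact hw2 j
  exact ⟨MulEquiv.ofBijective Φ hbij⟩

end Cfsg.Agent.Helper11.AltSyl
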