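import Mathlib
import Cfsg.Agent.Helper44.AltSylDefs

/-!
# S2221 piece (M4): the permutation representation of the model of the Sylow 2-subgroups
-/

set_option autoImplicit false

namespace Cfsg.Agent.Helper11.AltSyl

open Cfsg.Agent.Helper44.AltSyl
open scoped RegularWreathProduct

section sign

variable {α : Type*} [DecidableEq α] {β : α → Type*} [∀ a, DecidableEq (β a)]

/-- a swap in one fibre -/
theorem m4_sigmaCongrRight_swap (a : α) (x y : β a) :
    Equiv.Perm.sigmaCongrRight (Pi.mulSingle a (Equiv.swap x y) : ∀ a, Equiv.Perm (β a)) =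
      Equiv.swap (⟨a, x⟩ : Σ a, β a) ⟨a, y⟩ := by
  ext1 ⟨a', b⟩
  by_cases ha : a' = a
  · subst ha
    have h1 : Equiv.Perm.sigmaCongrRight
        (Pi.mulSingle a' (Equiv.swap x y) : ∀ a, Equiv.Perm (β a)) ⟨a', b⟩ =
        ⟨a', Equiv.swap x y b⟩ := by
      show (⟨a', (Pi.mulSingle a' (Equiv.swap x y) : ∀ a, Equiv.Perm (β a)) a' b⟩ : Σ a, β a) = _
      rw [Pi.mulSingle_eq_same]
    rw [h1]
    by_cases hbx : b = x
    · subst hbx
      rw [Equiv.swap_apply_left, Equiv.swap_apply_left]
    · by_cases hby : b = y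
      · subst hby
        rw [Equiv.swap_apply_right, Equiv.swap_apply_right]
      · rw [Equiv.swap_apply_of_ne_of_ne hbx hby, Equiv.swap_apply_of_ne_of_ne]
        · intro h
          exact hbx (eq_of_heq (Sigma.mk.inj h).2)
        · intro h
          exact hby (eq_of_heq (Sigma.mk.inj h).2)
  · have h1 : Equiv.Perm.sigmaCongrRight
        (Pi.mulSingle a (Equiv.swap x y) : ∀ a, Equiv.Perm (β a)) ⟨a', b⟩ = ⟨a', b⟩ := by
      show (⟨a', (Pi.mulSingle a (Equiv.swap x y) : ∀ a, Equiv.Perm (β a)) a' b⟩ : Σ a, β a) = _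
      rw [Pi.mulSingle_eq_of_ne ha]
      rfl
    rw [h1, Equiv.swap_apply_of_ne_of_ne]
    · intro h
      exact ha (Sigma.mk.inj h).1
    · intro h
      exact ha (Sigma.mk.inj h).1

variable [Fintype α] [∀ a, Fintype (β a)]

/-- a permutation of one fibre -/
theorem m4_sign_single (a : α) (τ : Equiv.Perm (β a)) :
    Equiv.Perm.sign (Equiv.Perm.sigmaCongrRight (Pi.mulSingle a τ : ∀ a, Equiv.Perm (β a))) =
      Equiv.Perm.sign τ := by
  induction τ using Equiv.Perm.swap_induction_on with
  | one =>
    rw [Pi.mulSingle_one, Equiv.Perm.sigmaCongrRight_one, map_one, map_one]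
  | swap_mul f x y hxy ih =>
    rw [Pi.mulSingle_mul, ← Equiv.Perm.sigmaCongrRight_mul, map_mul, map_mul, ih,
      m4_sigmaCongrRight_swap, Equiv.Perm.sign_swap hxy, Equiv.Perm.sign_swap]
    intro h
    exact hxy (eq_of_heq (Sigma.mk.inj h).2)

theorem m4_sign_of_support (S : Finset α) :
    ∀ σ : ∀ a, Equiv.Perm (β a), (∀ a, a ∉ S → σ a = 1) →
      Equiv.Perm.sign (Equiv.Perm.sigmaCongrRight σ) = ∏ a ∈ S, Equiv.Perm.sign (σ a) := by
  induction S using Finset.induction_on with
  | empty =>
    intro σ hσ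
    have h1 : σ = 1 := funext fun a => hσ a (Finset.notMem_empty a)
    rw [h1, Equiv.Perm.sigmaCongrRight_one, map_one, Finset.prod_empty]
  | insert a S ha ih =>
    intro σ hσ
    have h1 : σ = Function.update σ a 1 * Pi.mulSingle a (σ a) := by
      funext b
      by_cases hb : b = a
      · subst hb
        rw [Pi.mul_apply, Function.update_self, Pi.mulSingle_eq_same, one_mul]
      · rw [Pi.mul_apply, Function.update_of_ne hb, Pi.mulSingle_eq_of_ne hb, mul_one]
    have h2 : ∀ b, b ∉ S → Function.update σ a 1 b = 1 := by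
      intro b hb
      by_cases hba : b = a
      · subst hba
        rw [Function.update_self]
      · rw [Function.update_of_ne hba]
        apply hσ
        rw [Finset.mem_insert]
        rintro (h | h)
        · exact hba h
        · exact hb h
    rw [Finset.prod_insert ha]
    conv_lhs => rw [h1]
    rw [← Equiv.Perm.sigmaCongrRight_mul, map_mul, ih _ h2, m4_sign_single, mul_comm]
    congr 1
    apply Finset.prod_congr rfl
    intro b hb
    have hba : b ≠ a := fun h => ha (h ▸ hb)
    rw [Function.update_of_ne hba]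

/-- (M1), local copy: the sign of a permutation of a sigma type preserving the fibres -/
theorem m4_sign_sigmaCongrRight (σ : ∀ a, Equiv.Perm (β a)) :
    Equiv.Perm.sign (Equiv.Perm.sigmaCongrRight σ) = ∏ a, Equiv.Perm.sign (σ a) :=
  m4_sign_of_support Finset.univ σ (fun a ha => absurd (Finset.mem_univ a) ha)

end sign

theorem m4_card (n : ℕ) : Fintype.card (Σ i : ↥(bits n), (Fin (i : ℕ) → C2)) = n := by
  rw [Fintype.card_sigma]
  have h : ∀ i : ↥(bits n), Fintype.card (Fin (i : ℕ) → C2) = 2 ^ (i : ℕ) := by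
    intro i
    rw [Fintype.card_fun, Fintype.card_fin, Fintype.card_multiplicative, ZMod.card]
  rw [Finset.sum_congr rfl (fun i _ => h i), Finset.sum_coe_sort (bits n) (fun i => 2 ^ i),
    sum_bits]

/-- the componentwise permutation representation -/
noncomputable def m4_piHom (n : ℕ) :
    Model n →* (∀ i : ↥(bits n), Equiv.Perm (Fin (i : ℕ) → C2)) where
  toFun w i := iteratedWreathToPermHom C2 (i : ℕ) (w i)
  map_one' := by
    funext i
    exact map_one _
  map_mul' a b := by
    funext i
    exact map_mul _ _ _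

/-- (M4) the permutation representation of the model -/
theorem exists_model_hom (n : ℕ) :
    ∃ ψ : Model n →* Equiv.Perm (Fin n), Function.Injective ψ ∧
      ∀ w, Equiv.Perm.sign (ψ w) = modelSign n w := by
  classical
  have hcard : Fintype.card (Σ i : ↥(bits n), (Fin (i : ℕ) → C2)) = Fintype.card (Fin n) := by
    rw [m4_card, Fintype.card_fin]
  let e : (Σ i : ↥(bits n), (Fin (i : ℕ) → C2)) ≃ Fin n := Fintype.equivOfCardEq hcard
  let ψ : Model n →* Equiv.Perm (Fin n) :=
    (e.permCongrHom.toMonoidHom).comp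
      ((Equiv.Perm.sigmaCongrRightHom (fun i : ↥(bits n) => (Fin (i : ℕ) → C2))).comp (m4_piHom n))
  refine ⟨ψ, ?_, ?_⟩
  · have h1 : Function.Injective (m4_piHom n) := by
      intro a b hab
      funext i
      exact iteratedWreathToPermHomInj C2 (i : ℕ) (congrFun hab i)
    exact (e.permCongrHom.injective.comp
      (Equiv.Perm.sigmaCongrRightHom_injective.comp h1))
  · intro w
    have h1 : ψ w = e.permCongr (Equiv.Perm.sigmaCongrRight (m4_piHom n w)) := rfl
    rw [h1, Equiv.Perm.sign_permCongr, m4_sign_sigmaCongrRight]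
    rfl

end Cfsg.Agent.Helper11.AltSyl
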