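import Mathlib
import Cfsg.Agent.Helper44.AltSylDefs

/-!
# S2221 piece (M5): a 2-subgroup of the symmetric group of the full 2-power order, not inside the
alternating group, meets the alternating group in a Sylow 2-subgroup
-/

set_option autoImplicit false

namespace Cfsg.Agent.Helper11.AltSyl

open Cfsg.Agent.Helper44.AltSyl
open scoped RegularWreathProduct

/-- (M5) -/
theorem sylow_equiv_ker {M : Type*} [Group M] [Finite M] (n : ℕ)
    (ψ : M →* Equiv.Perm (Fin n)) (hψ : Function.Injective ψ)
    (hcard : Nat.card M = 2 ^ padicValNat 2 n.factorial)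
    (hodd : ∃ u : M, Equiv.Perm.sign (ψ u) = -1) (P : Sylow 2 (alternatingGroup (Fin n))) :
    Nonempty (↥(P : Subgroup (alternatingGroup (Fin n))) ≃* ↥(Equiv.Perm.sign.comp ψ).ker) := by
  classical
  obtain ⟨u, hu⟩ := hodd
  have hnt : Nontrivial (Fin n) := by
    by_contra hnt
    rw [not_nontrivial_iff_subsingleton] at hnt
    have h1 : ψ u = 1 := Subsingleton.elim _ _
    rw [h1, map_one] at hu
    exact absurd hu (by decide)
  have hsurj : Function.Surjective (Equiv.Perm.sign.comp ψ) := by
    intro z
    rcases Int.units_eq_one_or z with rfl | rfl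
    · exact ⟨1, map_one _⟩
    · exact ⟨u, hu⟩
  have hidx : (Equiv.Perm.sign.comp ψ).ker.index = 2 := by
    rw [Subgroup.index_ker, MonoidHom.range_eq_top.mpr hsurj, Subgroup.card_top,
      Nat.card_eq_fintype_card, Fintype.card_units_int]
  have hKM := Subgroup.card_mul_index (Equiv.Perm.sign.comp ψ).ker
  rw [hidx, hcard] at hKM
  -- the order of the alternating group
  have hA : 2 * Nat.card (alternatingGroup (Fin n)) = n.factorial := by
    rw [two_mul_nat_card_alternatingGroup, Nat.card_perm, Nat.card_eq_fintype_card,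
      Fintype.card_fin]
  have hApos : Nat.card (alternatingGroup (Fin n)) ≠ 0 := Nat.card_pos.ne'
  have hval : padicValNat 2 n.factorial = 1 + padicValNat 2 (Nat.card (alternatingGroup (Fin n))) := by
    rw [← hA, padicValNat.mul (by norm_num) hApos, padicValNat_self]
  have hK : Nat.card ↥(Equiv.Perm.sign.comp ψ).ker =
      2 ^ padicValNat 2 (Nat.card (alternatingGroup (Fin n))) := by
    rw [hval, pow_add, pow_one, mul_comm] at hKM
    exact Nat.eq_of_mul_eq_mul_left (by norm_num) hKM
  -- the restricted homomorphism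
  let ψ' : ↥(Equiv.Perm.sign.comp ψ).ker →* ↥(alternatingGroup (Fin n)) :=
    (ψ.comp (Equiv.Perm.sign.comp ψ).ker.subtype).codRestrict (alternatingGroup (Fin n))
      (fun k => by
        rw [Equiv.Perm.mem_alternatingGroup]
        exact MonoidHom.mem_ker.mp k.2)
  have hinj : Function.Injective ψ' := by
    intro a b hab
    have h1 : ψ (a : M) = ψ (b : M) := congrArg Subtype.val hab
    exact Subtype.ext (hψ h1)
  have hQ : Nat.card ↥ψ'.range =
      2 ^ (Nat.card (alternatingGroup (Fin n))).factorization 2 := by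
    rw [Nat.factorization_def _ Nat.prime_two, ← hK]
    exact (Nat.card_congr (MonoidHom.ofInjective hinj).toEquiv).symm
  have : Fact (Nat.Prime 2) := ⟨Nat.prime_two⟩
  have e1 : ↥(P : Subgroup (alternatingGroup (Fin n))) ≃* ↥ψ'.range :=
    Sylow.equiv P (Sylow.ofCard ψ'.range hQ)
  exact ⟨e1.trans (MonoidHom.ofInjective hinj).symm⟩

end Cfsg.Agent.Helper11.AltSyl
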