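import Mathlib

/-!
Piece (B) of board post #5812 (helper34, S4067): groups whose commutator subgroup has
order the least prime divisor of the group order.
-/

namespace Cfsg.Agent.Helper11.AutOrbB

/-- If `|G'|` is the least prime factor of `|G|`, then `G'` is central. -/
theorem commutator_le_center {G : Type*} [Group G] [Finite G]
    (hc : Nat.card (commutator G) = (Nat.card G).minFac) :
    commutator G ≤ Subgroup.center G := by
  classical
  by_cases h1 : Nat.card G = 1
  · -- trivial group
    have hsub : Subsingleton G := (Nat.card_eq_one_iff_unique.mp h1).1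
    intro x _
    rw [Subgroup.mem_center_iff]
    intro g
    rw [Subsingleton.elim x 1, mul_one, one_mul]
  · have hp : (Nat.card G).minFac.Prime := Nat.minFac_prime h1
    set p := (Nat.card G).minFac with hpdef
    have hfact : Fact p.Prime := ⟨hp⟩
    have hcyc : IsCyclic ↥(commutator G) := isCyclic_of_prime_card hc
    -- conjugation hom
    let f : G →* MulAut ↥(commutator G) := MulAut.conjNormal
    have hcardAut : Nat.card (MulAut ↥(commutator G)) = p - 1 := by
      rw [IsCyclic.card_mulAut, hc, Nat.totient_prime hp]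
    have hidx1 : f.ker.index ∣ p - 1 := by
      rw [Subgroup.index_ker, ← hcardAut]
      exact Subgroup.card_subgroup_dvd_card _
    have hidx2 : f.ker.index ∣ Nat.card G := Subgroup.index_dvd_card _
    have hidx : f.ker.index = 1 := by
      by_contra hne
      have hpos : f.ker.index ≠ 0 := Subgroup.index_ne_zero_of_finite
      have h2 : 2 ≤ f.ker.index := by omega
      have hle : p ≤ f.ker.index := Nat.minFac_le_of_dvd h2 hidx2
      have hle2 : f.ker.index ≤ p - 1 := Nat.le_of_dvd (by have := hp.two_le; omega) hidx1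
      have := hp.two_le
      omega
    have hker : f.ker = ⊤ := Subgroup.index_eq_one.mp hidx
    intro x hx
    rw [Subgroup.mem_center_iff]
    intro g
    have hg : g ∈ f.ker := by rw [hker]; exact Subgroup.mem_top g
    have hfg : f g = 1 := MonoidHom.mem_ker.mp hg
    have h3 : ((f g) ⟨x, hx⟩ : G) = g * x * g⁻¹ := MulAut.conjNormal_apply g ⟨x, hx⟩
    rw [hfg] at h3
    have h4 : x = g * x * g⁻¹ := by simpa using h3
    calc g * x = g * x * g⁻¹ * g := by group
      _ = x * g := by rw [← h4]

/-- If `|G'|` is the least prime factor of `|G|` and `g` is not central, then the conjugacy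
class of `g` is the whole coset `G' g`. -/
theorem exists_conj_eq_mul {G : Type*} [Group G] [Finite G]
    (hc : Nat.card (commutator G) = (Nat.card G).minFac) (g : G)
    (hg : g ∉ Subgroup.center G) (k : G) (hk : k ∈ commutator G) :
    ∃ x : G, x * g * x⁻¹ = k * g := by
  classical
  have hcen : commutator G ≤ Subgroup.center G := commutator_le_center hc
  have h1 : Nat.card G ≠ 1 := by
    intro h1
    apply hg
    have hsub : Subsingleton G := (Nat.card_eq_one_iff_unique.mp h1).1
    rw [Subgroup.mem_center_iff]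
    intro y
    rw [Subsingleton.elim g 1, mul_one, one_mul]
  have hp : (Nat.card G).minFac.Prime := Nat.minFac_prime h1
  have hfact : Fact (Nat.card ↥(commutator G)).Prime := ⟨by rw [hc]; exact hp⟩
  -- the commutator map x ↦ [x, g]
  have hmem : ∀ x : G, x * g * x⁻¹ * g⁻¹ ∈ commutator G := by
    intro x
    have h := Subgroup.commutator_mem_commutator (Subgroup.mem_top x) (Subgroup.mem_top g)
    rw [commutatorElement_def] at h
    rw [commutator_def]
    exact h
  have hcomm : ∀ (x y : G), x * g * x⁻¹ * g⁻¹ * y = y * (x * g * x⁻¹ * g⁻¹) := by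
    intro x y
    have := Subgroup.mem_center_iff.mp (hcen (hmem x)) y
    exact this.symm
  let φ : G →* ↥(commutator G) :=
    { toFun := fun x => ⟨x * g * x⁻¹ * g⁻¹, hmem x⟩
      map_one' := by
        apply Subtype.ext
        simp
      map_mul' := by
        intro x y
        apply Subtype.ext
        show x * y * g * (x * y)⁻¹ * g⁻¹ = (x * g * x⁻¹ * g⁻¹) * (y * g * y⁻¹ * g⁻¹)
        have e2 : x * (y * g * y⁻¹ * g⁻¹) = (y * g * y⁻¹ * g⁻¹) * x := (hcomm y x).symm
        have e3 : (y * g * y⁻¹ * g⁻¹) * (x * g * x⁻¹ * g⁻¹)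
            = (x * g * x⁻¹ * g⁻¹) * (y * g * y⁻¹ * g⁻¹) := (hcomm x _).symm
        calc x * y * g * (x * y)⁻¹ * g⁻¹
            = (x * (y * g * y⁻¹ * g⁻¹)) * (g * x⁻¹ * g⁻¹) := by group
          _ = ((y * g * y⁻¹ * g⁻¹) * x) * (g * x⁻¹ * g⁻¹) := by rw [e2]
          _ = (y * g * y⁻¹ * g⁻¹) * (x * g * x⁻¹ * g⁻¹) := by simp only [mul_assoc]
          _ = (x * g * x⁻¹ * g⁻¹) * (y * g * y⁻¹ * g⁻¹) := e3 }
  rcases φ.range.eq_bot_or_eq_top_of_prime_card with hbot | htop
  · exfalso
    apply hg
    rw [Subgroup.mem_center_iff]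
    intro y
    have hy : φ y ∈ φ.range := ⟨y, rfl⟩
    rw [hbot, Subgroup.mem_bot] at hy
    have hy' : y * g * y⁻¹ * g⁻¹ = 1 := by
      have := congrArg (Subtype.val) hy
      simpa [φ] using this
    calc y * g = y * g * y⁻¹ * g⁻¹ * (g * y) := by group
      _ = g * y := by rw [hy', one_mul]
  · have hkr : (⟨k, hk⟩ : ↥(commutator G)) ∈ φ.range := by rw [htop]; exact Subgroup.mem_top _
    obtain ⟨x, hx⟩ := hkr
    refine ⟨x, ?_⟩
    have hx' : x * g * x⁻¹ * g⁻¹ = k := by
      have := congrArg (Subtype.val) hx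
      simpa [φ] using this
    calc x * g * x⁻¹ = x * g * x⁻¹ * g⁻¹ * g := by group
      _ = k * g := by rw [hx']

/-- In a nonabelian finite group, `p² |Z(G)| ≤ |G|` for the least prime divisor `p`. -/
theorem sq_mul_card_center_le {G : Type*} [Group G] [Finite G]
    (hna : ¬ IsMulCommutative G) :
    (Nat.card G).minFac ^ 2 * Nat.card (Subgroup.center G) ≤ Nat.card G := by
  classical
  set i := (Subgroup.center G).index with hi
  have hipos : 0 < i := Nat.pos_of_ne_zero Subgroup.index_ne_zero_of_finite
  have hcard : Nat.card (Subgroup.center G) * i = Nat.card G := Subgroup.card_mul_index _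
  have hidvd : i ∣ Nat.card G := Subgroup.index_dvd_card _
  have hi1 : i ≠ 1 := by
    intro h
    apply hna
    have htop : Subgroup.center G = ⊤ := Subgroup.index_eq_one.mp h
    refine ⟨⟨fun a b => ?_⟩⟩
    have ha : a ∈ Subgroup.center G := by rw [htop]; exact Subgroup.mem_top a
    exact ((Subgroup.mem_center_iff.mp ha) b).symm
  have hinp : ¬ i.Prime := by
    intro hpr
    apply hna
    have hfact : Fact i.Prime := ⟨hpr⟩
    have hq : Nat.card (G ⧸ Subgroup.center G) = i := by
      rw [hi, Subgroup.index_eq_card]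
    have hcyc : IsCyclic (G ⧸ Subgroup.center G) := isCyclic_of_prime_card hq
    exact (QuotientGroup.mk' (Subgroup.center G)).isMulCommutative_of_isCyclic_of_ker_le_center
      (by rw [QuotientGroup.ker_mk'])
  have hq : i.minFac.Prime := Nat.minFac_prime hi1
  have hqdvd : i.minFac ∣ Nat.card G := (Nat.minFac_dvd i).trans hidvd
  have hle : (Nat.card G).minFac ≤ i.minFac := Nat.minFac_le_of_dvd hq.two_le hqdvd
  have hsq : i.minFac ^ 2 ≤ i := Nat.minFac_sq_le_self hipos hinp
  calc (Nat.card G).minFac ^ 2 * Nat.card (Subgroup.center G)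
      ≤ i.minFac ^ 2 * Nat.card (Subgroup.center G) :=
        Nat.mul_le_mul_right _ (Nat.pow_le_pow_left hle 2)
    _ ≤ i * Nat.card (Subgroup.center G) := Nat.mul_le_mul_right _ hsq
    _ = Nat.card G := by rw [mul_comm]; exact hcard

end Cfsg.Agent.Helper11.AutOrbB
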