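import Cfsg.Agent.Helper78.Brandt.ClassMat

/-!
Piece (B-GD2) of board post #6522 (helper78, S4607): the image of the center of the group algebra
`k G` (`k` the residue field) under multiplication by the reduced block idempotent has dimension
equal to the rank of the reduction of the class-sum matrix `classMat B`.
-/

set_option autoImplicit false
set_option linter.unusedSectionVars false

namespace Cfsg.Agent.Helper11.BrandtGD2

open Module Cfsg Cfsg.Agent.Helper78 Cfsg.Agent.Helper78.Brandt

universe u

variable {G : Type u} [Group G] [Fintype G]

section general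

variable (k : Type*) [Field k]

/-- The linear map sending a function on conjugacy classes to the corresponding combination of
class sums. -/
noncomputable def classSumMap : (ConjClasses G → k) →ₗ[k] MonoidAlgebra k G where
  toFun w := ∑ g : G, MonoidAlgebra.single g (w (ConjClasses.mk g))
  map_add' w₁ w₂ := by
    simp only [Pi.add_apply, MonoidAlgebra.single_add, Finset.sum_add_distrib]
  map_smul' c w := by
    simp only [Pi.smul_apply, smul_eq_mul, RingHom.id_apply, Finset.smul_sum,
      MonoidAlgebra.smul_single']

variable {k}

theorem coeff_classSumMap (w : ConjClasses G → k) (g : G) :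
    (classSumMap k w).coeff g = w (ConjClasses.mk g) := by
  classical
  show (∑ x : G, MonoidAlgebra.single x (w (ConjClasses.mk x))).coeff g = _
  rw [MonoidAlgebra.coeff_sum, Finsupp.finsetSum_apply, Finset.sum_eq_single g]
  · rw [MonoidAlgebra.coeff_single]
    exact Finsupp.single_eq_same
  · intro b _ hb
    rw [MonoidAlgebra.coeff_single]
    exact Finsupp.single_eq_of_ne hb.symm
  · intro h
    exact absurd (Finset.mem_univ g) h

theorem mk_out_eq (C : ConjClasses G) : ConjClasses.mk (Quotient.out C) = C :=
  Quotient.out_eq C

theorem classSumMap_injective : Function.Injective (classSumMap (G := G) k) := by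
  intro w₁ w₂ h
  funext C
  have h1 := congrArg (fun a => a.coeff (Quotient.out C)) h
  simp only [coeff_classSumMap, mk_out_eq] at h1
  exact h1

/-- Coefficients of a central element are constant on conjugacy classes. -/
theorem coeff_conj_of_mem_center {z : MonoidAlgebra k G}
    (hz : z ∈ Subalgebra.center k (MonoidAlgebra k G)) (g h : G) :
    z.coeff (h * g * h⁻¹) = z.coeff g := by
  have h1 := (Subalgebra.mem_center_iff.mp hz) (MonoidAlgebra.single h (1 : k))
  have h2 := congrArg (fun a => a.coeff (h * g)) h1
  simp only [MonoidAlgebra.coeff_single_mul_apply, MonoidAlgebra.coeff_mul_single_apply] at h2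
  rw [one_mul, mul_one, inv_mul_cancel_left] at h2
  exact h2.symm

theorem coeff_out_of_mem_center {z : MonoidAlgebra k G}
    (hz : z ∈ Subalgebra.center k (MonoidAlgebra k G)) (g : G) :
    z.coeff (Quotient.out (ConjClasses.mk g)) = z.coeff g := by
  have hconj : IsConj (Quotient.out (ConjClasses.mk g)) g := by
    rw [← ConjClasses.mk_eq_mk_iff_isConj]
    exact mk_out_eq _
  obtain ⟨c, hc⟩ := isConj_iff.mp hconj
  have h1 := coeff_conj_of_mem_center hz (Quotient.out (ConjClasses.mk g)) c
  rw [hc] at h1
  exact h1.symm

theorem classSumMap_mem_center (w : ConjClasses G → k) :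
    classSumMap k w ∈ Subalgebra.center k (MonoidAlgebra k G) := by
  classical
  rw [Subalgebra.mem_center_iff]
  intro a
  have hkey : ∀ g : G, MonoidAlgebra.of k G g * classSumMap k w =
      classSumMap k w * MonoidAlgebra.of k G g := by
    intro g
    apply MonoidAlgebra.coeff_injective
    ext x
    rw [MonoidAlgebra.of_apply, MonoidAlgebra.coeff_mul_single_apply,
      MonoidAlgebra.coeff_single_mul_apply, mul_one, one_mul, coeff_classSumMap,
      coeff_classSumMap]
    congr 1
    rw [ConjClasses.mk_eq_mk_iff_isConj, isConj_iff]
    exact ⟨g, by group⟩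
  induction a using MonoidAlgebra.induction_on with
  | of g => exact hkey g
  | add a b ha hb => rw [add_mul, mul_add, ha, hb]
  | smul c a ha => rw [smul_mul_assoc, mul_smul_comm, ha]

theorem eq_classSumMap_of_mem_center {z : MonoidAlgebra k G}
    (hz : z ∈ Subalgebra.center k (MonoidAlgebra k G)) :
    z = classSumMap k (fun C => z.coeff (Quotient.out C)) := by
  apply MonoidAlgebra.coeff_injective
  ext g
  rw [coeff_classSumMap, coeff_out_of_mem_center hz]

end general

variable (M : Ideal AlgInt) [M.IsPrime]

theorem epsB_mem_center (B : Set (IrrCharacter G)) :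
    epsB M B ∈ Subalgebra.center (ResField M) (MonoidAlgebra (ResField M) G) := by
  rw [Subalgebra.mem_center_iff]
  intro b
  exact (epsB_central M B b).symm

/-- coefficient formula for `Ψ w * ε`. -/
theorem coeff_classSumMap_mul_epsB (B : Set (IrrCharacter G)) (w : ConjClasses G → ResField M)
    (g : G) :
    (classSumMap (ResField M) w * epsB M B).coeff g =
      ∑ x : G, w (ConjClasses.mk x) * resMap M (blockCoeff B (x⁻¹ * g)) := by
  rw [coeff_mul_eq_sum]
  refine Finset.sum_congr rfl (fun x _ => ?_)
  rw [coeff_classSumMap, coeff_epsB]

/-- the reduced class matrix entries. -/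
theorem map_classMat_apply [DecidableEq (ConjClasses G)] {B : Set (IrrCharacter G)}
    (hB : IsPBlock M B) (C C' : ConjClasses G) :
    ((classMat B).map (resMap M)) C C' =
      ∑ x : G, if ConjClasses.mk x = C' then resMap M (blockCoeff B (x⁻¹ * Quotient.out C))
        else 0 := by
  classical
  rw [Matrix.map_apply]
  unfold classMat
  rw [resMap_sum]
  · refine Finset.sum_congr rfl (fun x _ => ?_)
    by_cases hx : ConjClasses.mk x = C'
    · rw [if_pos hx, if_pos hx]
    · rw [if_neg hx, if_neg hx, resMap_zero]
  · intro x _
    by_cases hx : ConjClasses.mk x = C'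
    · rw [if_pos hx]
      exact Helper16.osima hB _
    · rw [if_neg hx]
      exact Helper16.memLocalRing_zero

theorem classSumMap_mul_epsB [Fintype (ConjClasses G)] {B : Set (IrrCharacter G)}
    (hB : IsPBlock M B) (w : ConjClasses G → ResField M) :
    classSumMap (ResField M) w * epsB M B =
      classSumMap (ResField M) (((classMat B).map (resMap M)).mulVec w) := by
  classical
  have hcen : classSumMap (ResField M) w * epsB M B ∈
      Subalgebra.center (ResField M) (MonoidAlgebra (ResField M) G) :=
    Subalgebra.mul_mem _ (classSumMap_mem_center w) (epsB_mem_center M B)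
  apply MonoidAlgebra.coeff_injective
  ext g
  rw [← coeff_out_of_mem_center hcen g, coeff_classSumMap_mul_epsB, coeff_classSumMap]
  simp only [Matrix.mulVec, dotProduct]
  symm
  calc ∑ C' : ConjClasses G, ((classMat B).map (resMap M)) (ConjClasses.mk g) C' * w C'
      = ∑ C' : ConjClasses G, ∑ x : G,
          (if ConjClasses.mk x = C' then
            resMap M (blockCoeff B (x⁻¹ * Quotient.out (ConjClasses.mk g))) else 0) * w C' := by
        refine Finset.sum_congr rfl (fun C' _ => ?_)
        rw [map_classMat_apply M hB, Finset.sum_mul]
    _ = ∑ x : G, ∑ C' : ConjClasses G,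
          (if ConjClasses.mk x = C' then
            resMap M (blockCoeff B (x⁻¹ * Quotient.out (ConjClasses.mk g))) else 0) * w C' :=
        Finset.sum_comm
    _ = ∑ x : G, w (ConjClasses.mk x) *
          resMap M (blockCoeff B (x⁻¹ * Quotient.out (ConjClasses.mk g))) := by
        refine Finset.sum_congr rfl (fun x _ => ?_)
        rw [Finset.sum_eq_single (ConjClasses.mk x)]
        · rw [if_pos rfl, mul_comm]
        · intro C' _ hC'
          rw [if_neg (fun h => hC' h.symm), zero_mul]
        · intro h
          exact absurd (Finset.mem_univ _) h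

open Classical in
/-- (B-GD2) the center of the block algebra and the reduced matrix. -/
theorem finrank_center_mul_epsB_eq_rank {B : Set (IrrCharacter G)} (hB : IsPBlock M B) :
    finrank (ResField M) (Submodule.map (LinearMap.mulRight (ResField M) (epsB M B))
      (Subalgebra.toSubmodule (Subalgebra.center (ResField M) (MonoidAlgebra (ResField M) G)))) =
      ((classMat B).map (resMap M)).rank := by
  have key : Submodule.map (LinearMap.mulRight (ResField M) (epsB M B))
      (Subalgebra.toSubmodule (Subalgebra.center (ResField M) (MonoidAlgebra (ResField M) G))) =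
      Submodule.map (classSumMap (G := G) (ResField M))
        (LinearMap.range ((classMat B).map (resMap M)).mulVecLin) := by
    ext y
    constructor
    · rintro ⟨z, hz, rfl⟩
      have hz' : z ∈ Subalgebra.center (ResField M) (MonoidAlgebra (ResField M) G) := hz
      rw [LinearMap.mulRight_apply, eq_classSumMap_of_mem_center hz', classSumMap_mul_epsB M hB]
      exact ⟨_, ⟨_, rfl⟩, rfl⟩
    · rintro ⟨v, ⟨w, rfl⟩, rfl⟩
      refine ⟨classSumMap (ResField M) w, classSumMap_mem_center w, ?_⟩
      rw [LinearMap.mulRight_apply, classSumMap_mul_epsB M hB]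
      rfl
  rw [key, Matrix.rank]
  exact (Submodule.equivMapOfInjective _ classSumMap_injective _).finrank_eq.symm

end Cfsg.Agent.Helper11.BrandtGD2
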