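import Mathlib
import Cfsg.Agent.Helper53.CHMDefs
import Cfsg.Agent.Helper53.CHMClass

/-!
# (T) of board #4518 (for helper53, S4139): groups with the same multiset of class sizes have the
same order, the same order of the centre and the same number of elements of `p'`-index.
-/

set_option autoImplicit false

namespace Cfsg.Agent.Helper11.CHMTransfer

open Cfsg.Agent.Helper53.CHM

/-- every element sits in the carrier of its class: `G ≃ Σ C, C.carrier` -/
noncomputable def sigmaEquiv (G : Type*) [Group G] : G ≃ Σ C : ConjClasses G, C.carrier where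
  toFun x := ⟨ConjClasses.mk x, ⟨x, ConjClasses.mem_carrier_mk⟩⟩
  invFun y := (y.2 : G)
  left_inv _ := rfl
  right_inv := by
    rintro ⟨C, ⟨x, hx⟩⟩
    have hC : ConjClasses.mk x = C := ConjClasses.mem_carrier_iff_mk_eq.1 hx
    subst hC
    rfl

/-- a bijection `G ≃ H` preserving class sizes -/
theorem exists_equiv {G H : Type*} [Group G] [Finite G] [Group H] [Finite H]
    (h : ∀ k : ℕ, Nat.card {C : ConjClasses G // Nat.card C.carrier = k} =
      Nat.card {C : ConjClasses H // Nat.card C.carrier = k}) :
    ∃ φ : G ≃ H, ∀ x : G, Nat.card (ConjClasses.mk (φ x)).carrier =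
      Nat.card (ConjClasses.mk x).carrier := by
  classical
  -- the bijection between classes
  have e1 : ∀ k : ℕ, Nonempty ({C : ConjClasses G // Nat.card C.carrier = k} ≃
      {C : ConjClasses H // Nat.card C.carrier = k}) := fun k => Finite.card_eq.1 (h k)
  let ek : ∀ k : ℕ, {C : ConjClasses G // Nat.card C.carrier = k} ≃
      {C : ConjClasses H // Nat.card C.carrier = k} := fun k => (e1 k).some
  let E : ConjClasses G ≃ ConjClasses H :=
    ((Equiv.sigmaFiberEquiv (fun C : ConjClasses G => Nat.card C.carrier)).symm.trans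
      (Equiv.sigmaCongrRight ek)).trans
      (Equiv.sigmaFiberEquiv (fun C : ConjClasses H => Nat.card C.carrier))
  have hE : ∀ C : ConjClasses G, Nat.card (E C).carrier = Nat.card C.carrier := by
    intro C
    exact ((ek (Nat.card C.carrier)) ⟨C, rfl⟩).2
  have e2 : ∀ C : ConjClasses G, Nonempty (C.carrier ≃ (E C).carrier) := fun C =>
    Finite.card_eq.1 (hE C).symm
  let eC : ∀ C : ConjClasses G, C.carrier ≃ (E C).carrier := fun C => (e2 C).some
  let φ : G ≃ H := ((sigmaEquiv G).trans
    ((Equiv.sigmaCongrRight eC).trans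
      (Equiv.sigmaCongrLeft (β := fun D : ConjClasses H => D.carrier) E))).trans
    (sigmaEquiv H).symm
  refine ⟨φ, fun x => ?_⟩
  have hφ : ConjClasses.mk (φ x) = E (ConjClasses.mk x) := by
    have hmem : φ x ∈ (E (ConjClasses.mk x)).carrier := by
      show ((eC (ConjClasses.mk x)) ⟨x, ConjClasses.mem_carrier_mk⟩ : H) ∈ _
      exact ((eC (ConjClasses.mk x)) ⟨x, ConjClasses.mem_carrier_mk⟩).2
    exact ConjClasses.mem_carrier_iff_mk_eq.1 hmem
  rw [hφ, hE]

theorem mem_center_iff_card_carrier {G : Type*} [Group G] (x : G) :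
    x ∈ Subgroup.center G ↔ Nat.card (ConjClasses.mk x).carrier = 1 := by
  rw [card_carrier_eq_index, Subgroup.index_eq_one, Subgroup.centralizer_eq_top_iff_subset,
    Set.singleton_subset_iff]
  rfl

theorem transfer {G H : Type*} [Group G] [Finite G] [Group H] [Finite H]
    (h : ∀ k : ℕ, Nat.card {C : ConjClasses G // Nat.card C.carrier = k} =
      Nat.card {C : ConjClasses H // Nat.card C.carrier = k}) (p : ℕ) :
    Nat.card G = Nat.card H ∧
      Nat.card (Subgroup.center G) = Nat.card (Subgroup.center H) ∧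
      Nat.card (Ap G p) = Nat.card (Ap H p) := by
  obtain ⟨φ, hφ⟩ := exists_equiv h
  refine ⟨Nat.card_congr φ, ?_, ?_⟩
  · refine Nat.card_congr (Equiv.subtypeEquiv φ fun x => ?_)
    rw [mem_center_iff_card_carrier, mem_center_iff_card_carrier, hφ]
  · refine Nat.card_congr (Equiv.subtypeEquiv φ fun x => ?_)
    rw [mem_Ap_iff_card_carrier, mem_Ap_iff_card_carrier, hφ]

end Cfsg.Agent.Helper11.CHMTransfer
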