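import Mathlib
import Cfsg.Agent.Helper48.CoprimeGen

/-!
# Coprime action: if all commutators `[q, a]` are `r`-elements then `[Q, A]` is an `r`-group (helper11)
-/

set_option autoImplicit false

namespace Cfsg.Agent.Helper11

open scoped commutatorElement

/-- product-set criterion: if `|K| |T ∩ C| ≤ |T| |C|` then `K = T C`. -/
theorem exists_mul_of_card_le {K : Type*} [Group K] [Finite K] (T C : Subgroup K)
    (h : Nat.card K * Nat.card ↥(T ⊓ C) ≤ Nat.card T * Nat.card C) :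
    ∀ k : K, ∃ t ∈ T, ∃ c ∈ C, k = t * c := by
  classical
  haveI : Fintype K := Fintype.ofFinite K
  haveI : Fintype T := Fintype.ofFinite T
  haveI : Fintype C := Fintype.ofFinite C
  haveI : Fintype ↥(T ⊓ C) := Fintype.ofFinite _
  let f : T × C → K := fun x => (x.1 : K) * x.2
  have hfib : ∀ g ∈ (Finset.univ : Finset (T × C)).image f,
      (Finset.univ.filter (fun x : T × C => f x = g)).card ≤ Fintype.card ↥(T ⊓ C) := by
    intro g hg
    obtain ⟨x₀, -, hx₀⟩ := Finset.mem_image.mp hg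
    have hmem : ∀ x : T × C, f x = g → (x₀.1 : K)⁻¹ * x.1 ∈ T ⊓ C := by
      intro x hx
      refine Subgroup.mem_inf.mpr ⟨T.mul_mem (T.inv_mem x₀.1.2) x.1.2, ?_⟩
      have h1 : (x₀.1 : K) * x₀.2 = (x.1 : K) * x.2 := hx₀.trans hx.symm
      have h2 : (x₀.1 : K)⁻¹ * x.1 = (x₀.2 : K) * (x.2 : K)⁻¹ := by
        calc (x₀.1 : K)⁻¹ * x.1 = (x₀.1 : K)⁻¹ * ((x.1 : K) * x.2) * (x.2 : K)⁻¹ := by group
          _ = (x₀.1 : K)⁻¹ * ((x₀.1 : K) * x₀.2) * (x.2 : K)⁻¹ := by rw [h1]
          _ = (x₀.2 : K) * (x.2 : K)⁻¹ := by group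
      rw [h2]
      exact C.mul_mem x₀.2.2 (C.inv_mem x.2.2)
    let φ : T × C → ↥(T ⊓ C) := fun x =>
      if hx : f x = g then ⟨(x₀.1 : K)⁻¹ * x.1, hmem x hx⟩ else 1
    rw [← Finset.card_univ]
    apply Finset.card_le_card_of_injOn φ (fun _ _ => Finset.mem_univ _)
    intro x hx y hy hxy
    have hx' : f x = g := (Finset.mem_filter.mp hx).2
    have hy' : f y = g := (Finset.mem_filter.mp hy).2
    simp only [φ, dif_pos hx', dif_pos hy'] at hxy
    have h1 : (x₀.1 : K)⁻¹ * x.1 = (x₀.1 : K)⁻¹ * y.1 := congrArg Subtype.val hxy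
    have h2 : (x.1 : K) = y.1 := mul_left_cancel h1
    have h3 : (x.1 : K) * x.2 = (y.1 : K) * y.2 := hx'.trans hy'.symm
    rw [h2] at h3
    have h4 : (x.2 : K) = y.2 := mul_left_cancel h3
    exact Prod.ext (Subtype.ext h2) (Subtype.ext h4)
  have hcard := Finset.card_le_mul_card_image (Finset.univ : Finset (T × C)) _ hfib
  rw [Finset.card_univ, Fintype.card_prod] at hcard
  simp only [← Nat.card_eq_fintype_card] at hcard
  intro k
  by_contra hk
  have hk' : k ∉ (Finset.univ : Finset (T × C)).image f := by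
    intro hmem
    obtain ⟨x, -, hx⟩ := Finset.mem_image.mp hmem
    exact hk ⟨x.1, x.1.2, x.2, x.2.2, hx.symm⟩
  have hlt : ((Finset.univ : Finset (T × C)).image f).card < Nat.card K := by
    rw [Nat.card_eq_fintype_card, ← Finset.card_univ]
    apply Finset.card_lt_card
    rw [Finset.ssubset_univ_iff]
    intro h
    exact hk' (h ▸ Finset.mem_univ k)
  have hpos : 0 < Nat.card ↥(T ⊓ C) := Nat.card_pos
  have : Nat.card T * Nat.card C < Nat.card K * Nat.card ↥(T ⊓ C) := by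
    calc Nat.card T * Nat.card C ≤ Nat.card ↥(T ⊓ C) * ((Finset.univ : Finset (T × C)).image f).card := hcard
      _ < Nat.card ↥(T ⊓ C) * Nat.card K := Nat.mul_lt_mul_of_pos_left hlt hpos
      _ = Nat.card K * Nat.card ↥(T ⊓ C) := Nat.mul_comm _ _
  omega

end Cfsg.Agent.Helper11
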