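import Mathlib

set_option autoImplicit false

namespace Cfsg.Agent.Helper11

section countp
variable {Q : Type*} [Group Q]

/-- A non-cyclic group of order `p²` has exactly `p + 1` subgroups of order `p`. -/
theorem card_subgroups_prime_of_sq [Finite Q] {p : ℕ} [hp : Fact p.Prime] (hcard : Nat.card Q = p ^ 2)
    (hnc : ¬ IsCyclic Q) : Nat.card {M : Subgroup Q // Nat.card M = p} = p + 1 := by
  classical
  have hp1 : 1 < p := hp.out.one_lt
  -- every nonidentity element has order p
  have hord : ∀ x : Q, x ≠ 1 → orderOf x = p := by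
    intro x hx
    have hdvd : orderOf x ∣ p ^ 2 := hcard ▸ orderOf_dvd_natCard x
    obtain ⟨k, hk, hkk⟩ := (Nat.dvd_prime_pow hp.out).mp hdvd
    interval_cases k
    · rw [pow_zero, orderOf_eq_one_iff] at hkk
      exact absurd hkk hx
    · rw [pow_one] at hkk; exact hkk
    · exfalso
      apply hnc
      exact isCyclic_of_orderOf_eq_card x (by rw [hkk, hcard])
  let f : {x : Q // x ≠ 1} → {M : Subgroup Q // Nat.card M = p} := fun x =>
    ⟨Subgroup.zpowers x.1, by rw [Nat.card_zpowers, hord x.1 x.2]⟩
  have hfib : ∀ M : {M : Subgroup Q // Nat.card M = p}, Nat.card {x // f x = M} = p - 1 := by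
    intro M
    have e : {x // f x = M} ≃ {y : M.1 // y ≠ 1} :=
      { toFun := fun x => ⟨⟨x.1.1, by
            have := congrArg Subtype.val x.2
            simp only [f] at this
            rw [← this]; exact Subgroup.mem_zpowers _⟩, by
            intro h
            exact x.1.2 (congrArg Subtype.val h)⟩
        invFun := fun y => ⟨⟨y.1.1, by
            intro h
            exact y.2 (Subtype.ext h)⟩, by
            apply Subtype.ext
            simp only [f]
            apply Subgroup.eq_of_le_of_card_ge
            · rw [Subgroup.zpowers_le]; exact y.1.2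
            · rw [Nat.card_zpowers, hord y.1.1 (fun h => y.2 (Subtype.ext h)), M.2]⟩
        left_inv := fun x => by rfl
        right_inv := fun y => by rfl }
    rw [Nat.card_congr e]
    have h1 : Nat.card {y : M.1 // y ≠ 1} = Nat.card M.1 - 1 := by
      have : Fintype M.1 := Fintype.ofFinite _
      rw [Nat.card_eq_fintype_card, Nat.card_eq_fintype_card, Fintype.card_subtype_compl,
        Fintype.card_subtype_eq]
    rw [h1, M.2]
  have hX : Nat.card {x : Q // x ≠ 1} = p ^ 2 - 1 := by
    have : Fintype Q := Fintype.ofFinite _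
    rw [Nat.card_eq_fintype_card, Fintype.card_subtype_compl, Fintype.card_subtype_eq,
      ← Nat.card_eq_fintype_card, hcard]
  have hsum : Nat.card {x : Q // x ≠ 1} =
      Nat.card {M : Subgroup Q // Nat.card M = p} * (p - 1) := by
    have : Fintype {M : Subgroup Q // Nat.card M = p} := Fintype.ofFinite _
    rw [← Nat.card_congr (Equiv.sigmaFiberEquiv f), Nat.card_sigma]
    simp only [hfib]
    rw [Finset.sum_const, Finset.card_univ, smul_eq_mul, Fintype.card_eq_nat_card]
  rw [hX] at hsum
  have h2 : p ^ 2 - 1 = (p + 1) * (p - 1) := by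
    obtain ⟨q, rfl⟩ : ∃ q, p = q + 1 := ⟨p - 1, by omega⟩
    simp only [Nat.add_sub_cancel]
    have : (q + 1) ^ 2 = (q + 1 + 1) * q + 1 := by ring
    rw [this, Nat.add_sub_cancel]
  rw [h2] at hsum
  exact (Nat.eq_of_mul_eq_mul_right (by omega) hsum).symm

end countp

end Cfsg.Agent.Helper11
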