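import Cfsg.Agent.Helper61.DihDefs

/-!
# S3616 pieces (SG1), (SG2), (SG3): the counting identities of a dihedral strongly regular datum
-/

set_option autoImplicit false

namespace Cfsg.Agent.Helper11.Dih

open DihedralGroup Finset Cfsg.Agent.Helper61.Dih

variable {e : ℕ} [NeZero e]

/-- double counting along a family of bijections -/
theorem sum_card_filter_equiv {G : Type*} [Fintype G] [DecidableEq G] (S T : Finset G)
    (σ : G → G ≃ G) :
    ∑ x : G, ((S.filter (fun i => σ i x ∈ T)).card : ℤ) = (S.card : ℤ) * T.card := by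
  have h1 : ∀ x : G, ((S.filter (fun i => σ i x ∈ T)).card : ℤ) =
      ∑ i ∈ S, (if σ i x ∈ T then (1 : ℤ) else 0) := by
    intro x
    rw [Finset.card_filter]
    push_cast
    rfl
  rw [Finset.sum_congr rfl (fun x _ => h1 x), Finset.sum_comm]
  have h2 : ∀ i ∈ S, ∑ x : G, (if σ i x ∈ T then (1 : ℤ) else 0) = T.card := by
    intro i _
    rw [Equiv.sum_comp (σ i) (fun y => if y ∈ T then (1 : ℤ) else 0), Finset.sum_ite_mem,
      Finset.univ_inter, Finset.sum_const, nsmul_eq_mul, mul_one]
  rw [Finset.sum_congr rfl h2, Finset.sum_const, nsmul_eq_mul]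

/-- the sum of a two-valued function -/
theorem sum_ite_mem_const (S : Finset (ZMod e)) (lam mu : ℤ) :
    ∑ x : ZMod e, (if x ∈ S then lam else mu) = lam * S.card + mu * ((e : ℤ) - S.card) := by
  rw [Finset.sum_ite, Finset.sum_const, Finset.sum_const, nsmul_eq_mul, nsmul_eq_mul,
    Finset.filter_mem_eq_inter, Finset.univ_inter, Finset.filter_not, Finset.filter_mem_eq_inter,
    Finset.univ_inter, Finset.card_univ_diff, ZMod.card, Nat.cast_sub]
  · ring
  · have := Finset.card_le_univ S
    rwa [ZMod.card] at this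

theorem sum_refl {A B : Finset (ZMod e)} {k lam mu : ℤ} (h : DihData e A B k lam mu) :
    2 * (A.card : ℤ) * B.card = lam * B.card + mu * ((e : ℤ) - B.card) := by
  have h1 := sum_card_filter_equiv A B (fun i => Equiv.addRight i)
  have h2 : ∑ x : ZMod e, (2 * ((A.filter (fun i => x + i ∈ B)).card : ℤ)) =
      ∑ x : ZMod e, (if x ∈ B then lam else mu) :=
    Finset.sum_congr rfl (fun x _ => h.refl x)
  rw [← Finset.mul_sum, sum_ite_mem_const] at h2
  have h3 : ∑ x : ZMod e, ((A.filter (fun i => x + i ∈ B)).card : ℤ) = (A.card : ℤ) * B.card := h1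
  rw [h3] at h2
  linarith

theorem sum_rot {A B : Finset (ZMod e)} {k lam mu : ℤ} (h : DihData e A B k lam mu) :
    (A.card : ℤ) ^ 2 + (B.card : ℤ) ^ 2 =
      A.card + B.card + lam * A.card + mu * ((e : ℤ) - A.card) - mu := by
  have hR : ∑ x : ZMod e, ((A.filter (fun i => x - i ∈ A)).card : ℤ) = (A.card : ℤ) * A.card :=
    sum_card_filter_equiv A A (fun i => Equiv.subRight i)
  have hS : ∑ x : ZMod e, ((B.filter (fun j => j + x ∈ B)).card : ℤ) = (B.card : ℤ) * B.card :=
    sum_card_filter_equiv B B (fun j => Equiv.addLeft j)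
  -- the terms at `x = 0`
  have hR0 : ((A.filter (fun i => (0 : ZMod e) - i ∈ A)).card : ℤ) = A.card := by
    congr 1
    congr 1
    apply Finset.filter_true_of_mem
    intro i hi
    rw [zero_sub]
    exact h.neg_mem i hi
  have hS0 : ((B.filter (fun j => j + (0 : ZMod e) ∈ B)).card : ℤ) = B.card := by
    congr 1
    congr 1
    apply Finset.filter_true_of_mem
    intro j hj
    rw [add_zero]
    exact hj
  set F : ZMod e → ℤ := fun x => ((A.filter (fun i => x - i ∈ A)).card : ℤ) +
    ((B.filter (fun j => j + x ∈ B)).card : ℤ) with hF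
  have hsum : ∑ x : ZMod e, F x = (A.card : ℤ) * A.card + (B.card : ℤ) * B.card := by
    rw [hF, Finset.sum_add_distrib, hR, hS]
  have hsplit := Finset.add_sum_erase Finset.univ F (Finset.mem_univ (0 : ZMod e))
  have hF0 : F 0 = (A.card : ℤ) + B.card := by
    show ((A.filter (fun i => (0 : ZMod e) - i ∈ A)).card : ℤ) +
      ((B.filter (fun j => j + (0 : ZMod e) ∈ B)).card : ℤ) = _
    rw [hR0, hS0]
  have hrest : ∑ x ∈ Finset.univ.erase (0 : ZMod e), F x =
      ∑ x ∈ Finset.univ.erase (0 : ZMod e), (if x ∈ A then lam else mu) := by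
    apply Finset.sum_congr rfl
    intro x hx
    exact h.rot x (Finset.ne_of_mem_erase hx)
  have hsplit2 := Finset.add_sum_erase Finset.univ (fun x : ZMod e => if x ∈ A then lam else mu)
    (Finset.mem_univ (0 : ZMod e))
  rw [sum_ite_mem_const] at hsplit2
  have h0 : (if (0 : ZMod e) ∈ A then lam else mu) = mu := if_neg h.zero_notMem
  simp only [h0] at hsplit2
  rw [hsum, hF0, hrest] at hsplit
  linarith

/-- (SG1) -/
theorem DihData.sgn_sq {A B : Finset (ZMod e)} {k lam mu : ℤ} (h : DihData e A B k lam mu) :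
    sgn A B ^ 2 = (k - mu) + (lam - mu) * sgn A B := by
  have E1 := sum_rot h
  have E3 := sum_refl h
  have hk := h.card_add
  unfold sgn
  rw [← hk]
  linear_combination E1 - E3

/-- (SG2) -/
theorem DihData.k_sq {A B : Finset (ZMod e)} {k lam mu : ℤ} (h : DihData e A B k lam mu) :
    k ^ 2 = k + lam * k + mu * (2 * e - 1 - k) := by
  have E1 := sum_rot h
  have E3 := sum_refl h
  have hk := h.card_add
  rw [← hk]
  linear_combination E1 + E3

/-- (SG3) -/
theorem DihData.two_mul_card {A B : Finset (ZMod e)} {k lam mu : ℤ} (h : DihData e A B k lam mu) :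
    2 * (A.card : ℤ) * B.card = lam * B.card + mu * (e - B.card) :=
  sum_refl h

end Cfsg.Agent.Helper11.Dih
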