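import Mathlib
import Cfsg.Agent.Helper43.EF.Defs
import Cfsg.Agent.Helper43.SpOrthA
import Cfsg.Agent.Helper45.GUCard
import Cfsg.Agent.Helper94.TiH
import Cfsg.Agent.Helper99.SpMain

/-!
# (DER4) of S5976: derangements of odd prime order `r ≠ p` with `4 ∣ i`

An element `x` of `Sp_{2d}(q)` of order `r` whose cyclotomic part is a single irreducible block of
dimension `i = ord_r(q)` with `4 ∣ i` commutes with no `θ` with `θ² = δ`, `θ* = -θ`.
-/

set_option autoImplicit false
set_option linter.unusedSectionVars false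
set_option linter.unusedVariables false

namespace Cfsg.Agent.Helper11.EF

open Matrix Cfsg Cfsg.Geo Cfsg.Agent.Helper13 Cfsg.Agent.Helper45.C3S
open Module Polynomial
open Cfsg.Agent.Helper59.InvChain Cfsg.Agent.Helper59.Elusive
open Cfsg.Agent.Helper99.RDecomp Cfsg.Agent.Helper99.SpStruct Cfsg.Agent.Helper99.SpElt
open Cfsg.Agent.S0776

universe u v

section abstract

theorem der4_commute_aeval {F : Type*} [Field F] {A : Type*} [Ring A] [Algebra F A] {a b : A}
    (hab : Commute a b) (g : F[X]) : Commute (aeval a g) b := by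
  induction g using Polynomial.induction_on' with
  | add p q hp hq => rw [map_add]; exact hp.add_left hq
  | monomial n c =>
    rw [aeval_monomial]
    exact (Algebra.commute_algebraMap_left c b).mul_left (hab.pow_left n)

/-- the arithmetic: `q ^ (i / 2) = 2 * ((q - 1) * K) + 1` for odd `q` and `4 ∣ i` -/
theorem der4_arith {q i : ℕ} (hq : Odd q) (hi : 4 ∣ i) :
    ∃ K : ℕ, q ^ (i / 2) = 2 * ((q - 1) * K) + 1 := by
  obtain ⟨j, rfl⟩ := hi
  obtain ⟨a, rfl⟩ := hq
  have h1 : 4 * j / 2 = 2 * j := by omega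
  rw [h1, pow_mul]
  obtain ⟨M, hM⟩ := Nat.sub_dvd_pow_sub_pow ((2 * a + 1) ^ 2) 1 j
  rw [one_pow] at hM
  have hpos : 1 ≤ ((2 * a + 1) ^ 2) ^ j := Nat.one_le_pow _ _ (by positivity)
  have h2 : (2 * a + 1) ^ 2 - 1 = 2 * ((2 * a + 1 - 1) * (a + 1)) := by
    have e1 : 2 * a + 1 - 1 = 2 * a := by omega
    rw [e1]
    have e2 : (2 * a + 1) ^ 2 = 2 * (2 * a * (a + 1)) + 1 := by ring
    rw [e2]
    omega
  refine ⟨(a + 1) * M, ?_⟩
  have h3 : ((2 * a + 1) ^ 2) ^ j = ((2 * a + 1) ^ 2 - 1) * M + 1 := by omega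
  rw [h3, h2]
  ring

variable {F : Type u} [Field F] [Fintype F] {V : Type v} [AddCommGroup V] [Module F V]
  [FiniteDimensional F V]
variable {B : LinearMap.BilinForm F V} {r : ℕ} {y : Module.End F V}

/-- odd powers of an endomorphism with scalar square -/
theorem der4_pow_eq {T : Module.End F V} {δ : F} (hδ : δ ≠ 0) (hT2 : T * T = δ • (1 : Module.End F V))
    (K : ℕ) : T ^ (2 * ((Fintype.card F - 1) * K) + 1) = T := by
  rw [pow_succ, pow_mul, pow_two, hT2, _root_.smul_pow, one_pow, pow_mul,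
    FiniteField.pow_card_sub_one_eq_one δ hδ, one_pow, one_smul, one_mul]

/-- the core: no skew square root of a scalar commutes with an isometry of order `r` whose
cyclotomic part is irreducible of dimension `i`, `4 ∣ i`. -/
theorem der4_core
    (h : SpSetup B r y (orderOf ((Fintype.card F : ℕ) : ZMod r)))
    (h2 : (2 : F) ≠ 0) (hq : Odd (Fintype.card F))
    (hi4 : 4 ∣ orderOf ((Fintype.card F : ℕ) : ZMod r))
    (hdim : finrank F ↥(cycSp r y) = orderOf ((Fintype.card F : ℕ) : ZMod r))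
    (T : Module.End F V) (δ : F) (hδ : δ ≠ 0) (hT2 : T * T = δ • (1 : Module.End F V))
    (hadj : ∀ u v, B (T u) v = - B u (T v))
    (hcomm : y * T = T * y) : False := by
  set i := orderOf ((Fintype.card F : ℕ) : ZMod r) with hidef
  have hipos : 0 < i := h.setup.c_pos
  have hieven : Even i := by
    obtain ⟨j, hj⟩ := hi4
    exact ⟨2 * j, by omega⟩
  have hWinv : Inv y (cycSp r y) := inv_cycSp r y
  have hndtop : Nd B (⊤ : Submodule F V) := by
    rw [nd_iff]
    intro u _ hu
    exact h.nondeg.2 u (fun w => hu w trivial)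
  have hWnd : Nd B (cycSp r y) := by
    have := h.nd_inf_cyc (inv_top y) hndtop
    rwa [top_inf_eq] at this
  have hWne : cycSp r y ≠ ⊥ := by
    intro h0
    rw [h0, finrank_bot] at hdim
    omega
  obtain ⟨w, hwW, hw0⟩ := Submodule.exists_mem_ne_zero_of_ne_bot hWne
  -- the cyclic subspace is everything
  have hZle : cycSub y w ≤ cycSp r y := cycSub_le y hWinv hwW
  have hZinv := inv_cycSub y w
  have hZne : cycSub y w ≠ ⊥ := by
    intro h0
    have := self_mem_cycSub y w
    rw [h0] at this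
    exact hw0 ((Submodule.mem_bot F).mp this)
  have hZdim : finrank F ↥(cycSub y w) = finrank F ↥(cycSp r y) := by
    have h1 : finrank F ↥(cycSub y w) ≤ finrank F ↥(cycSp r y) := Submodule.finrank_mono hZle
    obtain ⟨m, hm⟩ := h.setup.dvd _ hZinv hZle
    have hpos : 0 < finrank F ↥(cycSub y w) := by
      rw [Nat.pos_iff_ne_zero]
      intro h0
      exact hZne (Submodule.finrank_eq_zero.mp h0)
    rcases Nat.eq_zero_or_pos m with h0 | hmpos
    · rw [h0, mul_zero] at hm; omega
    · have : i ≤ i * m := Nat.le_mul_of_pos_right i hmpos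
      omega
  have hZeq : cycSub y w = cycSp r y := Submodule.eq_of_le_of_finrank_eq hZle hZdim
  -- `T` commutes with polynomials in `y`
  have hc : Commute y T := hcomm
  have hcg : ∀ g : F[X], ∀ v : V, T ((aeval y g) v) = (aeval y g) (T v) := by
    intro g v
    have := (der4_commute_aeval hc g).eq
    rw [← Module.End.mul_apply, ← Module.End.mul_apply, this]
  -- `T` preserves the cyclotomic part
  have hTW : ∀ v ∈ cycSp r y, T v ∈ cycSp r y := by
    intro v hv
    show T v ∈ LinearMap.ker (aeval y (cyclotomic r F))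
    rw [LinearMap.mem_ker, ← hcg, LinearMap.mem_ker.mp hv, map_zero]
  -- `T = s(y)` on the cyclotomic part
  have hTw : T w ∈ cycSub y w := by rw [hZeq]; exact hTW w hwW
  obtain ⟨s, hs⟩ := mem_cycSub.mp hTw
  have hTs : ∀ v ∈ cycSp r y, (aeval y s) v = T v := by
    intro v hv
    rw [← hZeq] at hv
    obtain ⟨g, rfl⟩ := mem_cycSub.mp hv
    rw [hcg, ← hs, ← Module.End.mul_apply, ← Module.End.mul_apply, ← map_mul, ← map_mul, mul_comm]
  have hTsk : ∀ k : ℕ, ∀ v ∈ cycSp r y, ((aeval y s) ^ k) v = (T ^ k) v := by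
    intro k
    induction k with
    | zero => intro v _; rw [pow_zero, pow_zero]
    | succ k ih =>
      intro v hv
      rw [pow_succ, pow_succ, Module.End.mul_apply, Module.End.mul_apply, hTs v hv,
        ih _ (hTW v hv)]
  -- the adjoint computation
  obtain ⟨K, hK⟩ := der4_arith hq hi4
  have hsym : ∀ u ∈ cycSp r y, ∀ v ∈ cycSp r y, B (T u) v = B u (T v) := by
    intro u hu v hv
    rw [← hTs u hu, h.adjoint_aeval, h.inv_eq_pow hieven, ← aeval_pow_card_pow, hTsk _ v hv,
      ← hidef, hK, der4_pow_eq hδ hT2]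
  have hzero : ∀ u ∈ cycSp r y, ∀ v ∈ cycSp r y, B u (T v) = 0 := by
    intro u hu v hv
    have h1 := hsym u hu v hv
    rw [hadj] at h1
    have h3 : (2 : F) * B u (T v) = 0 := by linear_combination -h1
    rcases mul_eq_zero.mp h3 with h4 | h4
    · exact absurd h4 h2
    · exact h4
  have hTw0 : T w = 0 := nd_iff.mp hWnd (T w) (hTW w hwW) (fun u hu => hzero u hu w hwW)
  have h5 : δ • w = 0 := by
    have : (T * T) w = δ • w := by rw [hT2]; rfl
    rw [← this, Module.End.mul_apply, hTw0, map_zero]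
  rcases smul_eq_zero.mp h5 with h6 | h6
  · exact hδ h6
  · exact hw0 h6

end abstract

variable {F : Type*} [Field F] {d : ℕ}

local notation "Vec" => (Fin d ⊕ Fin d → F)
local notation "Mat" => Matrix (Fin d ⊕ Fin d) (Fin d ⊕ Fin d) F
local notation "⟪" x ", " y "⟫" => Cfsg.sympForm d F x y

/-- (DER4) derangements of odd prime order `r ≠ p`, `4 ∣ i` -/
theorem exists_derangement_four [Fintype F] {p : ℕ} [Fact p.Prime] [CharP F p] (h2 : (2 : F) ≠ 0)
    (r : ℕ) [Fact r.Prime] (hrp : r ≠ p) (hr2 : r ≠ 2)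
    (hi : 4 ∣ orderOf ((Fintype.card F : ℕ) : ZMod r))
    (hid : orderOf ((Fintype.card F : ℕ) : ZMod r) ≤ 2 * d) :
    ∃ x ∈ Cfsg.spGL d F, x ^ r = 1 ∧ x ≠ 1 ∧
      ∀ (θ : Mat) (δ : F), SData θ δ → (x : Mat) * θ ≠ θ * (x : Mat) := by
  classical
  have hr : r.Prime := Fact.out
  have hp : p.Prime := Fact.out
  have hipos : 0 < orderOf ((Fintype.card F : ℕ) : ZMod r) := orderOf_card_pos r hrp
  have hdvd : orderOf ((Fintype.card F : ℕ) : ZMod r) ∣ r - 1 := orderOf_card_dvd r hrp
  have heven : Even (orderOf ((Fintype.card F : ℕ) : ZMod r)) := by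
    obtain ⟨j, hj⟩ := hi
    exact ⟨2 * j, by omega⟩
  have hut : 1 * orderOf ((Fintype.card F : ℕ) : ZMod r) ≤ r - 1 := by
    rw [one_mul]
    exact Nat.le_of_dvd (by have := hr.two_le; omega) hdvd
  have hud : 1 * orderOf ((Fintype.card F : ℕ) : ZMod r) ≤ 2 * d := by rw [one_mul]; exact hid
  obtain ⟨x, hxr, hfix, -⟩ := Cfsg.Agent.Helper94.Ti.exists_sp_elt_aniso (F := F) (p := p) d r hrp
    heven 1 one_pos hut hud
  rw [one_mul] at hfix
  -- `q` is odd
  have hqodd : Odd (Fintype.card F) := by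
    obtain ⟨k, -, hk⟩ := FiniteField.card F p
    rw [hk]
    apply Odd.pow
    apply hp.odd_of_ne_two
    rintro rfl
    apply h2
    have := CharP.cast_eq_zero F 2
    exact_mod_cast this
  set y := Matrix.toLin' (x : Mat) with hy
  have hyr : y ^ r = 1 := Cfsg.Agent.Helper99.SpMain.toLin_pow_eq_one x hxr
  have hsetup := Cfsg.Agent.Helper99.SpMain.spSetup_of (F := F) (p := p) r hrp y
    (Cfsg.Agent.Helper99.SpMain.toLin_isom x) hyr
  have htot := hsetup.setup.total
  rw [Cfsg.Agent.Helper99.SpMain.finrank_space, hfix] at htot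
  have hcyc : finrank F ↥(cycSp r y) = orderOf ((Fintype.card F : ℕ) : ZMod r) := by omega
  refine ⟨Cfsg.Agent.Helper43.SpOrth.sympToGL x, Cfsg.Agent.Helper43.SpOrth.sympToGL_mem x,
    ?_, ?_, ?_⟩
  · rw [← map_pow, hxr, map_one]
  · intro h1
    have h3 : (x : Mat) = 1 := by
      have := congrArg (fun g : GL (Fin d ⊕ Fin d) F => (g : Mat)) h1
      simpa [Cfsg.Agent.Helper43.SpOrth.sympToGL_coe] using this
    have h4 : y = 1 := by rw [hy, h3, Matrix.toLin'_one]; rfl
    have h5 : fixSp y = ⊤ := by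
      rw [eq_top_iff]
      intro v _
      rw [mem_fixSp, h4]
      rfl
    rw [h5, finrank_top, Cfsg.Agent.Helper99.SpMain.finrank_space] at hfix
    omega
  · intro θ δ hs hcomm
    rw [Cfsg.Agent.Helper43.SpOrth.sympToGL_coe] at hcomm
    refine der4_core hsetup h2 hqodd hi hcyc (Matrix.toLin' θ) δ hs.delta_ne ?_ ?_ ?_
    · rw [Module.End.mul_eq_comp, ← Matrix.toLin'_mul, hs.sq, map_smul, Matrix.toLin'_one]
      rfl
    · intro u v
      rw [omega_apply, omega_apply, Matrix.toLin'_apply, Matrix.toLin'_apply]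
      exact hs.adj u v
    · rw [hy, Module.End.mul_eq_comp, Module.End.mul_eq_comp, ← Matrix.toLin'_mul,
        ← Matrix.toLin'_mul, hcomm]

end Cfsg.Agent.Helper11.EF
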