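import Cfsg.Agent.Helper11.FFS3
import Cfsg.Agent.Helper49.FFTv
import Cfsg.Agent.Helper10.Card

/-!
# Abelian offenders in solvable groups at the prime 2, part 1: general lemmas (helper11)
-/

set_option autoImplicit false

namespace Cfsg.Agent.Helper11

open scoped commutatorElement
open Cfsg.Agent.Helper49.FF (cj mem_cj conj_mem_cj cj_mul cj_one cj_eq_self_of_mem_normalizer cj_mono card_cj
  comm_cj cj_centralizer cj_inf)

section conjAut
variable {Γ : Type*} [Group Γ]

/-- Conjugation by an element of the normalizer, as an automorphism of the subgroup. -/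
def conjAutNormalizer (S : Subgroup Γ) (g : Γ) (hg : g ∈ Subgroup.normalizer (S : Set Γ)) :
    ↥S ≃* ↥S where
  toFun s := ⟨g * s * g⁻¹, (Subgroup.mem_normalizer_iff.1 hg s).1 s.2⟩
  invFun s := ⟨g⁻¹ * s * g, by
    have := (Subgroup.mem_normalizer_iff.1 (inv_mem hg) s).1 s.2
    simpa using this⟩
  left_inv s := by
    apply Subtype.ext
    simp [mul_assoc]
  right_inv s := by
    apply Subtype.ext
    simp [mul_assoc]
  map_mul' s t := by
    apply Subtype.ext
    simp [mul_assoc]

/-- A characteristic subgroup of `S` is normalized by `N(S)`. -/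
theorem normalizer_le_normalizer_map_of_char (S : Subgroup Γ) (T : Subgroup ↥S)
    (hTc : T.Characteristic) :
    Subgroup.normalizer (S : Set Γ) ≤
      Subgroup.normalizer ((T.map S.subtype : Subgroup Γ) : Set Γ) := by
  apply le_normalizer_of_conj_mem
  rintro g hg _ ⟨t, ht, rfl⟩
  have h1 := (Subgroup.characteristic_iff_map_eq.1 hTc) (conjAutNormalizer S g hg)
  have h2 : conjAutNormalizer S g hg t ∈ T.map (conjAutNormalizer S g hg).toMonoidHom :=
    ⟨t, ht, rfl⟩
  rw [h1] at h2
  exact ⟨_, h2, rfl⟩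

end conjAut

section cjBO
variable {G : Type*} [Group G]

theorem cj_cj_inv (g : G) (B : Subgroup G) : cj g (cj g⁻¹ B) = B := by
  rw [← cj_mul, mul_inv_cancel, cj_one]

theorem cj_inv_cj (g : G) (B : Subgroup G) : cj g⁻¹ (cj g B) = B := by
  rw [← cj_mul, inv_mul_cancel, cj_one]

/-- `|C_V(B^g)| = |C_V(B)|` for `g` normalizing `V`. -/
theorem card_fixed_cj {V : Subgroup G} {g : G} (hg : g ∈ Subgroup.normalizer (V : Set G)) (B : Subgroup G) :
    Nat.card ↥(V ⊓ Subgroup.centralizer ((cj g B : Subgroup G) : Set G)) =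
      Nat.card ↥(V ⊓ Subgroup.centralizer (B : Set G)) := by
  have h1 : V ⊓ Subgroup.centralizer ((cj g B : Subgroup G) : Set G) =
      cj g (V ⊓ Subgroup.centralizer (B : Set G)) := by
    rw [cj_inf, cj_centralizer, cj_eq_self_of_mem_normalizer hg]
  rw [h1, card_cj]

/-- Conjugates of best offenders by elements normalizing `V` are best offenders. -/
theorem isBestOffenderOn_cj {p : ℕ} {V A : Subgroup G} {g : G} (hg : g ∈ Subgroup.normalizer (V : Set G))
    (hA : Cfsg.IsBestOffenderOn p V A) : Cfsg.IsBestOffenderOn p V (cj g A) := by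
  obtain ⟨h1, h2, h3⟩ := hA
  have hgi : g⁻¹ ∈ Subgroup.normalizer (V : Set G) := inv_mem hg
  have hCV : cj g (Subgroup.centralizer (V : Set G)) = Subgroup.centralizer (V : Set G) := by
    rw [cj_centralizer, cj_eq_self_of_mem_normalizer hg]
  refine ⟨?_, ?_, ?_⟩
  · intro B hB
    have hB' : cj g⁻¹ B ≤ A := by
      have := cj_mono g⁻¹ hB
      rwa [cj_inv_cj] at this
    have := h1 _ hB'
    rw [card_cj, card_fixed_cj hgi] at this
    rw [card_cj, card_fixed_cj hg]
    exact this
  · have : ⁅cj g A, cj g A⁆ = cj g ⁅A, A⁆ := (Subgroup.map_commutator A A _).symm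
    rw [this, ← hCV]
    exact cj_mono g h2
  · intro a ha
    rw [mem_cj] at ha
    have h4 := h3 _ ha
    have h5' : (g⁻¹ * a * g) ^ p = g⁻¹ * a ^ p * g := by
      have := conj_pow (a := g⁻¹) (b := a) (i := p)
      simpa using this
    have h5 : a ^ p = g * (g⁻¹ * a * g) ^ p * g⁻¹ := by
      rw [h5']; group
    rw [h5, ← hCV]
    exact conj_mem_cj h4

/-- The trivial subgroup is a best offender. -/
theorem isBestOffenderOn_bot' (p : ℕ) (V : Subgroup G) : Cfsg.IsBestOffenderOn p V ⊥ := by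
  refine ⟨?_, ?_, ?_⟩
  · intro B hB
    rw [le_bot_iff] at hB
    rw [hB]
  · rw [Subgroup.commutator_bot_left]; exact bot_le
  · intro a ha
    rw [Subgroup.mem_bot] at ha
    rw [ha, one_pow]; exact Subgroup.one_mem _

end cjBO

section sylowInf
variable {G : Type*} [Group G] [Finite G]

/-- If `P` has `p'`-index in `M` and normalizes `N ≤ M`, then `N ∩ P` has `p'`-index in `N`. -/
theorem relIndex_inf_coprime {p : ℕ} {N P M : Subgroup G} (hNM : N ≤ M) (hPM : P ≤ M)
    (hPN : P ≤ Subgroup.normalizer (N : Set G)) (hcop : (P.relIndex M).Coprime p) :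
    ((N ⊓ P).relIndex N).Coprime p := by
  have h1 := Cfsg.Agent.Helper10.card_sup_mul_card_inf P N hPN
  have h2 : Nat.card P * P.relIndex (P ⊔ N) = Nat.card ↥(P ⊔ N) :=
    Cfsg.Agent.Helper49.FF.card_mul_relIndex_of_le le_sup_left
  have h3 : Nat.card ↥(N ⊓ P) * (N ⊓ P).relIndex N = Nat.card N :=
    Cfsg.Agent.Helper49.FF.card_mul_relIndex_of_le inf_le_left
  have h4 : (P.relIndex (P ⊔ N)) ∣ P.relIndex M :=
    Dvd.intro _ (Subgroup.relIndex_mul_relIndex P (P ⊔ N) M le_sup_left (sup_le hPM hNM))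
  have hpos1 : 0 < Nat.card P := Nat.card_pos
  have hpos2 : 0 < Nat.card ↥(N ⊓ P) := Nat.card_pos
  -- `(N ⊓ P).relIndex N = P.relIndex (P ⊔ N)`
  have h5 : (N ⊓ P).relIndex N = P.relIndex (P ⊔ N) := by
    have : Nat.card P * P.relIndex (P ⊔ N) * Nat.card ↥(P ⊓ N) =
        Nat.card P * (Nat.card ↥(N ⊓ P) * (N ⊓ P).relIndex N) := by
      rw [h2, h1, h3]
    rw [inf_comm P N] at this
    have h6 : Nat.card P * (P.relIndex (P ⊔ N) * Nat.card ↥(N ⊓ P)) =
        Nat.card P * ((N ⊓ P).relIndex N * Nat.card ↥(N ⊓ P)) := by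
      rw [← mul_assoc, this]; ring
    have h7 := Nat.eq_of_mul_eq_mul_left hpos1 h6
    exact (Nat.eq_of_mul_eq_mul_right hpos2 h7).symm
  rw [h5]
  exact Nat.Coprime.coprime_dvd_left h4 hcop

end sylowInf

end Cfsg.Agent.Helper11
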