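import Cfsg.Agent.Helper11.FFAbel1
import Cfsg.Agent.Helper11.Uniserial
import Cfsg.Agent.Helper51.Timmesfeld
import Cfsg.Agent.Helper51.NilAct
import Cfsg.Agent.Helper62.PSolvDual
import Cfsg.Agent.Helper70.PSolvable

/-!
# Abelian offenders in solvable groups at the prime 2, part 2 (helper11)
-/

set_option autoImplicit false

namespace Cfsg.Agent.Helper11

open scoped commutatorElement
open Cfsg.Agent.Helper49.FF (cj mem_cj conj_mem_cj cj_mul cj_one cj_eq_self_of_mem_normalizer cj_mono card_cj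
  comm_cj cj_centralizer cj_inf)

section S3facts

set_option maxRecDepth 100000 in
theorem perm3_generation : ∀ t e : Equiv.Perm (Fin 3), t ≠ 1 → t * t = 1 →
    ∃ x y : Equiv.Perm (Fin 3), e = x * t * x⁻¹ * (y * t * y⁻¹) ∨ e = x * t * x⁻¹ := by
  decide

theorem perm3_sq_or_cube : ∀ s : Equiv.Perm (Fin 3), s * s = 1 ∨ s * s * s = 1 := by
  decide

variable {G : Type*} [Group G]

/-- a `2`-element of a copy of `S₃` is an involution or trivial. -/
theorem sq_eq_one_of_two_element {E : Subgroup G} (φ : ↥E ≃* Equiv.Perm (Fin 3)) {t : G} (ht : t ∈ E)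
    {k : ℕ} (hk : t ^ (2 ^ k) = 1) : t * t = 1 := by
  rcases perm3_sq_or_cube (φ ⟨t, ht⟩) with h | h
  · have h1 : φ (⟨t, ht⟩ * ⟨t, ht⟩) = φ 1 := by rw [map_mul, map_one]; exact h
    have h2 := congrArg Subtype.val (φ.injective h1)
    simpa using h2
  · have h1 : φ (⟨t, ht⟩ * ⟨t, ht⟩ * ⟨t, ht⟩) = φ 1 := by rw [map_mul, map_mul, map_one]; exact h
    have h2 := congrArg Subtype.val (φ.injective h1)
    have h3 : t ^ 3 = 1 := by
      have : t * t * t = 1 := by simpa using h2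
      rw [pow_succ, pow_two]; exact this
    have h4 : orderOf t ∣ 3 := orderOf_dvd_of_pow_eq_one h3
    have h5 : orderOf t ∣ 2 ^ k := orderOf_dvd_of_pow_eq_one hk
    have h6 : orderOf t ∣ Nat.gcd 3 (2 ^ k) := Nat.dvd_gcd h4 h5
    have h7 : Nat.gcd 3 (2 ^ k) = 1 := Nat.Coprime.pow_right k (by decide)
    rw [h7, Nat.dvd_one, orderOf_eq_one_iff] at h6
    rw [h6, one_mul]

/-- a copy `E` of `S₃` lies in every subgroup `F` it normalizes and meets in an involution. -/
theorem le_of_involution_mem {E F : Subgroup G} (φ : ↥E ≃* Equiv.Perm (Fin 3)) {t : G} (htE : t ∈ E)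
    (htF : t ∈ F) (ht1 : t ≠ 1) (ht2 : t * t = 1) (hEF : E ≤ Subgroup.normalizer (F : Set G)) : E ≤ F := by
  intro e he
  have h1 : φ ⟨t, htE⟩ ≠ 1 := by
    intro h
    have : (⟨t, htE⟩ : ↥E) = 1 := φ.injective (by rw [h, map_one])
    exact ht1 (congrArg Subtype.val this)
  have h2 : φ ⟨t, htE⟩ * φ ⟨t, htE⟩ = 1 := by
    rw [← map_mul]
    have : (⟨t, htE⟩ : ↥E) * ⟨t, htE⟩ = 1 := Subtype.ext ht2
    rw [this, map_one]
  have hconj : ∀ x : ↥E, (x : G) * t * (x : G)⁻¹ ∈ F := fun x =>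
    (Subgroup.mem_normalizer_iff.mp (hEF x.2) t).mp htF
  obtain ⟨x, y, h | h⟩ := perm3_generation (φ ⟨t, htE⟩) (φ ⟨e, he⟩) h1 h2
  · have h3 : (⟨e, he⟩ : ↥E) = φ.symm x * ⟨t, htE⟩ * (φ.symm x)⁻¹ * (φ.symm y * ⟨t, htE⟩ * (φ.symm y)⁻¹) := by
      apply φ.injective
      simp only [map_mul, map_inv, MulEquiv.apply_symm_apply]
      exact h
    have h4 := congrArg Subtype.val h3
    simp only [Subgroup.coe_mul, Subgroup.coe_inv] at h4
    rw [h4]
    exact F.mul_mem (hconj _) (hconj _)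
  · have h3 : (⟨e, he⟩ : ↥E) = φ.symm x * ⟨t, htE⟩ * (φ.symm x)⁻¹ := by
      apply φ.injective
      simp only [map_mul, map_inv, MulEquiv.apply_symm_apply]
      exact h
    have h4 := congrArg Subtype.val h3
    simp only [Subgroup.coe_mul, Subgroup.coe_inv] at h4
    rw [h4]
    exact hconj _

end S3facts

section cardFour
variable {G : Type*} [Group G] [Finite G]

/-- A `2`-element normalizing a group `W` of order `4` and exponent `2` has its square centralizing `W`. -/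
theorem sq_mem_centralizer_of_card_four {W : Subgroup G} (hW4 : Nat.card W = 4) (hWexp : ∀ w ∈ W, w ^ 2 = 1)
    {a : G} (ha : a ∈ Subgroup.normalizer (W : Set G)) {k : ℕ} (hak : a ^ (2 ^ k) = 1) :
    a ^ 2 ∈ Subgroup.centralizer (W : Set G) := by
  haveI : Fact (Nat.Prime 2) := ⟨Nat.prime_two⟩
  set Z := Subgroup.zpowers a with hZ
  have hZW : Z ≤ Subgroup.normalizer (W : Set G) := by
    rw [hZ, Subgroup.zpowers_le]; exact ha
  have hZ2 : IsPGroup 2 Z := by
    rw [hZ]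
    apply IsPGroup.of_card (n := (Nat.factorization (orderOf a)) 2)
    rw [Nat.card_zpowers]
    have h1 : orderOf a ∣ 2 ^ k := orderOf_dvd_of_pow_eq_one hak
    obtain ⟨j, -, hj⟩ := (Nat.dvd_prime_pow Nat.prime_two).mp h1
    rw [hj, Nat.Prime.factorization_pow Nat.prime_two]
    simp
  have hW2 : IsPGroup 2 W := IsPGroup.of_card (n := 2) (by rw [hW4]; norm_num)
  have hWne : W ≠ ⊥ := by
    intro h; rw [h, Subgroup.card_bot] at hW4; omega
  set W₁ := ⁅W, Z⁆ with hW₁
  have hW₁W : W₁ ≤ W := commutator_le_of_le_normalizer hZW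
  have hW₁ne : W₁ ≠ W := commutator_ne_self hW2 hZ2 hZW hWne
  have hcard1 : Nat.card W₁ ≤ 2 := by
    have hdvd : Nat.card W₁ ∣ 4 := hW4 ▸ Subgroup.card_dvd_of_le hW₁W
    have hlt : Nat.card W₁ < 4 := by
      rw [← hW4]
      exact lt_of_le_of_ne (Subgroup.card_le_of_le hW₁W)
        (fun h => hW₁ne (Subgroup.eq_of_le_of_card_ge hW₁W h.ge))
    have hle := Nat.le_of_dvd (by norm_num) hdvd
    interval_cases h : Nat.card W₁ <;> simp_all
  have hZW₁ : Z ≤ Subgroup.normalizer (W₁ : Set G) := le_normalizer_commutator hZW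
  have hquad : ⁅W₁, Z⁆ = ⊥ := by
    by_cases hb : W₁ = ⊥
    · rw [hb, Subgroup.commutator_bot_left]
    · have h2 : IsPGroup 2 W₁ := hW2.to_le hW₁W
      have hne := commutator_ne_self h2 hZ2 hZW₁ hb
      have hle : ⁅W₁, Z⁆ ≤ W₁ := commutator_le_of_le_normalizer hZW₁
      have hlt : Nat.card ↥⁅W₁, Z⁆ < Nat.card W₁ :=
        lt_of_le_of_ne (Subgroup.card_le_of_le hle)
          (fun h => hne (Subgroup.eq_of_le_of_card_ge hle h.ge))
      have hdvd : Nat.card ↥⁅W₁, Z⁆ ∣ Nat.card W₁ := Subgroup.card_dvd_of_le hle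
      have hpos : 0 < Nat.card ↥⁅W₁, Z⁆ := Nat.card_pos
      have h1 : Nat.card ↥⁅W₁, Z⁆ = 1 := by
        have : Nat.card ↥⁅W₁, Z⁆ < 2 := lt_of_lt_of_le hlt hcard1
        omega
      exact Subgroup.eq_bot_of_card_eq _ h1
  have haC : a ∈ Subgroup.centralizer (W₁ : Set G) := by
    have : Z ≤ Subgroup.centralizer (W₁ : Set G) := by
      have := Subgroup.commutator_eq_bot_iff_le_centralizer.mp hquad
      exact Subgroup.le_centralizer_iff.mp this
    exact this (Subgroup.mem_zpowers a)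
  exact Cfsg.Agent.Helper49.FF.pow_p_mem_centralizer (p := 2) (fun w hw => hWexp w (hW₁W hw)) haC
    (fun v hv => Cfsg.Agent.Helper49.SubIrr.commElt_mem hv (Subgroup.mem_zpowers a))

end cardFour

end Cfsg.Agent.Helper11
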