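import Cfsg.Agent.Helper11.FFAbel2

/-!
# Abelian offenders in solvable groups at the prime 2, part 3: extraction of a best offender, hypothesis S1 (helper11)
-/

set_option autoImplicit false

namespace Cfsg.Agent.Helper11

open scoped commutatorElement
open Cfsg.Agent.Helper49.FF (cj mem_cj conj_mem_cj cj_mul cj_one cj_eq_self_of_mem_normalizer cj_mono card_cj
  comm_cj cj_centralizer cj_inf)

section extract
variable {G : Type*} [Group G] [Finite G]

set_option maxHeartbeats 400000 in
/-- **Extraction of a best offender**: an abelian `p`-group `A` acting faithfully on `V`; if the maximum `m` of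
`|B||C_V(B)|` over `B ≤ A` is attained at a nontrivial subgroup, it is attained at a nontrivial best offender
(quadratic, hence of exponent `p` modulo `C(V)`). -/
theorem exists_bestOffender_of_max {p : ℕ} [Fact p.Prime] {V A : Subgroup G}
    (hV : Cfsg.IsElementaryAbelian p V) (hAV : A ≤ Subgroup.normalizer (V : Set G))
    (hAc : ∀ x ∈ A, ∀ y ∈ A, x * y = y * x) (hAp : IsPGroup p A)
    (hf : A ⊓ Subgroup.centralizer (V : Set G) = ⊥) (m : ℕ)
    (hmax : ∀ B : Subgroup G, B ≤ A →
      Nat.card B * Nat.card ↥(V ⊓ Subgroup.centralizer (B : Set G)) ≤ m) :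
    ∀ (n : ℕ) (B : Subgroup G), Nat.card B = n → B ≤ A → B ≠ ⊥ →
      Nat.card B * Nat.card ↥(V ⊓ Subgroup.centralizer (B : Set G)) = m →
      ∃ B' : Subgroup G, B' ≤ A ∧ B' ≠ ⊥ ∧
        Nat.card B' * Nat.card ↥(V ⊓ Subgroup.centralizer (B' : Set G)) = m ∧
        Cfsg.IsBestOffenderOn p V B' := by
  intro n
  induction n using Nat.strong_induction_on with
  | _ n ih =>
    intro B hn hBA hB1 hBm
    have hVp : IsPGroup p V := by
      intro v
      exact ⟨1, Subtype.ext (by simpa using hV.2 v v.2)⟩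
    have hBV : B ≤ Subgroup.normalizer (V : Set G) := hBA.trans hAV
    have hBp : IsPGroup p B := hAp.to_le hBA
    have hBB : ⁅B, B⁆ = ⊥ := by
      rw [Subgroup.commutator_eq_bot_iff_le_centralizer]
      intro x hx
      rw [Subgroup.mem_centralizer_iff]
      intro y hy
      exact hAc y (hBA hy) x (hBA hx)
    have hab : ⁅B, B⁆ ≤ Subgroup.centralizer (V : Set G) := by rw [hBB]; exact bot_le
    have hBO : ∀ B' : Subgroup G, B' ≤ B → Cfsg.Agent.Helper51.mu V B' ≤ Cfsg.Agent.Helper51.mu V B := by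
      intro B' hB'
      show Nat.card B' * Nat.card ↥(V ⊓ Subgroup.centralizer (B' : Set G)) ≤
        Nat.card B * Nat.card ↥(V ⊓ Subgroup.centralizer (B : Set G))
      rw [hBm]
      exact hmax B' (hB'.trans hBA)
    obtain ⟨t1, t2⟩ := Cfsg.Agent.Helper51.timmesfeld_replacement V B hV.1 hBV hab hBO V le_rfl
    set Bs := B ⊓ Subgroup.centralizer ((⁅V, B⁆ : Subgroup G) : Set G) with hBs
    have ht1 : Nat.card Bs * Nat.card ↥(V ⊓ Subgroup.centralizer (Bs : Set G)) = m := by
      rw [← hBm]; exact t1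
    have hnil := Cfsg.Agent.Helper51.exists_iterComm_eq_bot_of_isPGroup hVp hBp hBV
    have hBs1 : Bs ≠ ⊥ := by
      intro hbot
      rw [hbot] at t2
      have h1 : V ≤ ⁅V, B⁆ ⊔ Cfsg.Agent.Helper51.cD V B := by
        rw [← t2]
        intro v hv
        refine Subgroup.mem_inf.mpr ⟨hv, ?_⟩
        rw [Subgroup.mem_centralizer_iff]
        intro x hx
        rw [SetLike.mem_coe, Subgroup.mem_bot] at hx
        rw [hx, one_mul, mul_one]
      have h2 := Cfsg.Agent.Helper51.commutator_eq_bot_of_le_sup' hV.1 hBV hnil h1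
      have h3 : V ≤ Subgroup.centralizer (B : Set G) := Subgroup.commutator_eq_bot_iff_le_centralizer.mp h2
      have h4 : B ≤ Subgroup.centralizer (V : Set G) := Subgroup.le_centralizer_iff.mp h3
      have h5 : B ≤ A ⊓ Subgroup.centralizer (V : Set G) := le_inf hBA h4
      rw [hf] at h5
      exact hB1 (le_bot_iff.mp h5)
    by_cases hEq : Bs = B
    · -- `B` is quadratic
      have hquad : B ≤ Subgroup.centralizer ((⁅V, B⁆ : Subgroup G) : Set G) := by
        intro x hx
        have hx' : x ∈ Bs := by rw [hEq]; exact hx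
        exact (Subgroup.mem_inf.mp hx').2
      refine ⟨B, hBA, hB1, hBm, ?_, hab, ?_⟩
      · intro B' hB'
        rw [hBm]
        exact hmax B' (hB'.trans hBA)
      · intro b hb
        have hWV : ⁅V, B⁆ ≤ V := Cfsg.Agent.Helper49.SubIrr.comm_le hBV
        exact Cfsg.Agent.Helper49.FF.pow_p_mem_centralizer (p := p) (fun w hw => hV.2 w (hWV hw)) (hquad hb)
          (fun v hv => Cfsg.Agent.Helper49.SubIrr.commElt_mem hv hb)
    · have hlt : Nat.card Bs < n := by
        rw [← hn]
        exact lt_of_le_of_ne (Subgroup.card_le_of_le inf_le_left)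
          (fun h => hEq (Subgroup.eq_of_le_of_card_ge inf_le_left h.ge))
      exact ih _ hlt Bs rfl (inf_le_left.trans hBA) hBs1 ht1

end extract

section S1
variable {G : Type*} [Group G] [Finite G]

/-- **Hypothesis S1 for normal solvable subgroups** of a group `M` with a self-centralizing normal `p'`-subgroup `Q`. -/
theorem S1_of_ffSetting {p : ℕ} [Fact p.Prime] {V M Q H : Subgroup G}
    (hS : FFSetting p V M Q) (hHM : H ≤ M) (hMH : M ≤ Subgroup.normalizer (H : Set G))
    (hsolv : Group.IsSolvable ↥H) :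
    Subgroup.centralizer (Cfsg.pPrimeCore p ↥H : Set ↥H) ≤ Cfsg.pPrimeCore p ↥H := by
  have hp : p.Prime := Fact.out
  set N₀ := (Cfsg.pCore p ↥H).map H.subtype with hN₀
  have hN₀H : N₀ ≤ H := Subgroup.map_subtype_le _
  have hN₀norm : M ≤ Subgroup.normalizer (N₀ : Set G) :=
    hMH.trans (normalizer_le_normalizer_map_of_char H _ (Cfsg.Agent.Lib.pCore_characteristic p))
  have hN₀p : IsPGroup p N₀ := by
    have := Cfsg.Agent.Lib.isPGroup_pCore (G := ↥H) p
    exact this.map H.subtype
  have hdisj : N₀ ⊓ Q = ⊥ := by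
    apply Disjoint.eq_bot
    apply Subgroup.disjoint_of_coprime_natCard
    obtain ⟨k, hk⟩ := IsPGroup.iff_card.mp hN₀p
    rw [hk]
    apply Nat.Coprime.pow_left
    exact (Nat.Prime.coprime_iff_not_dvd hp).mpr hS.pQ
  have hcomm : ⁅N₀, Q⁆ = ⊥ := by
    rw [eq_bot_iff, ← hdisj]
    apply le_inf
    · exact Subgroup.le_normalizer_iff_commutator_le_left.mp (hS.QH.trans hN₀norm)
    · rw [Subgroup.commutator_comm]
      exact Subgroup.le_normalizer_iff_commutator_le_left.mp ((hN₀H.trans hHM).trans hS.normQ)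
  have hN₀bot : N₀ = ⊥ := by
    rw [eq_bot_iff, ← hdisj]
    intro h hh
    refine Subgroup.mem_inf.mpr ⟨hh, ?_⟩
    apply hS.selfC h (hHM (hN₀H hh))
    intro x hx
    have h1 : ⁅h, x⁆ ∈ ⁅N₀, Q⁆ := Subgroup.commutator_mem_commutator hh hx
    rw [hcomm, Subgroup.mem_bot, commutatorElement_def] at h1
    calc h * x = (h * x * h⁻¹ * x⁻¹) * x * h := by group
      _ = x * h := by rw [h1, one_mul]
  have hO : Cfsg.pCore p ↥H = ⊥ :=
    (Subgroup.map_eq_bot_iff_of_injective _ H.subtype_injective).mp hN₀bot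
  haveI := hsolv
  exact Cfsg.Agent.Helper62.centralizer_pPrimeCore_le_of_isPSolvable
    (Cfsg.Agent.Helper70.isPSolvable_of_isSolvable p) hO

omit [Finite G] in
/-- Restriction of an `FFSetting` to `Q ⊔ A`. -/
theorem FFSetting.restrict {p : ℕ} {V L Q : Subgroup G} (hS : FFSetting p V L Q) {A : Subgroup G}
    (hAL : A ≤ L) : FFSetting p V (Q ⊔ A) Q := by
  have hle : Q ⊔ A ≤ L := sup_le hS.QH hAL
  refine ⟨hS.pV, hle.trans hS.norm, ?_, le_sup_left, hS.pQ, hle.trans hS.normQ, ?_⟩
  · rw [eq_bot_iff, ← hS.faithful]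
    exact inf_le_inf_right _ hle
  · intro h hh hc
    exact hS.selfC h (hle hh) hc

end S1

end Cfsg.Agent.Helper11
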