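import Cfsg.Agent.Helper11.FFAbel3

/-!
# Abelian offenders in solvable groups at the prime 2, part 4 (helper11)
-/

set_option autoImplicit false

namespace Cfsg.Agent.Helper11

open scoped commutatorElement
open Cfsg.Agent.Helper49.FF (cj mem_cj conj_mem_cj cj_mul cj_one cj_eq_self_of_mem_normalizer cj_mono card_cj
  comm_cj cj_centralizer cj_inf mem_normalizer_of_cj_eq_self)

variable {G : Type*} [Group G] [Finite G]

omit [Finite G] in
/-- `cj a (normalizer E) = normalizer (cj a E)`. -/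
theorem cj_normalizer_eq (a : G) (E : Subgroup G) :
    cj a (Subgroup.normalizer (E : Set G)) = Subgroup.normalizer ((cj a E : Subgroup G) : Set G) :=
  Subgroup.map_equiv_normalizer_eq E (MulAut.conj a)

set_option maxHeartbeats 400000 in
/-- An abelian `2`-subgroup `A` of odd index in `M` normalizes every copy `E` of `S₃` which is normal in a
normal subgroup `H₀` of `M`. -/
theorem le_normalizer_of_odd_index {E H₀ A M : Subgroup G} (φ : ↥E ≃* Equiv.Perm (Fin 3))
    (hEH₀ : E ≤ H₀) (hH₀E : H₀ ≤ Subgroup.normalizer (E : Set G)) (hH₀M : H₀ ≤ M)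
    (hMH₀ : M ≤ Subgroup.normalizer (H₀ : Set G)) (hAM : A ≤ M) (hodd : (A.relIndex M).Coprime 2)
    (hAc : ∀ x ∈ A, ∀ y ∈ A, x * y = y * x) (hA2 : IsPGroup 2 A) :
    A ≤ Subgroup.normalizer (E : Set G) := by
  -- an involution in `E ∩ A`
  have h1 : ((H₀ ⊓ A).relIndex H₀).Coprime 2 :=
    relIndex_inf_coprime hH₀M hAM (hAM.trans hMH₀) hodd
  have h2 : ((E ⊓ (H₀ ⊓ A)).relIndex E).Coprime 2 :=
    relIndex_inf_coprime hEH₀ inf_le_left (inf_le_left.trans hH₀E) h1
  have hcardE : Nat.card E = 6 := by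
    rw [Nat.card_congr φ.toEquiv, Nat.card_eq_fintype_card, Fintype.card_perm, Fintype.card_fin]
    rfl
  have hne : E ⊓ (H₀ ⊓ A) ≠ ⊥ := by
    intro hbot
    rw [hbot, Subgroup.relIndex_bot_left, hcardE] at h2
    revert h2; decide
  obtain ⟨t, ht1⟩ := (Subgroup.ne_bot_iff_exists_ne_one).mp hne
  have ht1' : (t : G) ≠ 1 := fun h => ht1 (Subtype.ext h)
  have htE : (t : G) ∈ E := (Subgroup.mem_inf.mp t.2).1
  have htA : (t : G) ∈ A := (Subgroup.mem_inf.mp (Subgroup.mem_inf.mp t.2).2).2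
  obtain ⟨k, hk⟩ := hA2 ⟨(t : G), htA⟩
  have hk' : (t : G) ^ (2 ^ k) = 1 := by
    have := congrArg Subtype.val hk
    simpa using this
  have ht2 : (t : G) * (t : G) = 1 := sq_eq_one_of_two_element φ htE hk'
  intro a ha
  have haM : a ∈ M := hAM ha
  have hcjH₀ : cj a H₀ = H₀ := cj_eq_self_of_mem_normalizer (hMH₀ haM)
  have htF : (t : G) ∈ cj a E := by
    rw [mem_cj]
    have : a⁻¹ * (t : G) * a = (t : G) := by
      rw [mul_assoc, hAc _ htA a ha, ← mul_assoc, inv_mul_cancel, one_mul]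
    rw [this]; exact htE
  have hEF : E ≤ Subgroup.normalizer ((cj a E : Subgroup G) : Set G) := by
    rw [← cj_normalizer_eq]
    calc E ≤ H₀ := hEH₀
      _ = cj a H₀ := hcjH₀.symm
      _ ≤ cj a (Subgroup.normalizer (E : Set G)) := cj_mono a hH₀E
  have hle : E ≤ cj a E := le_of_involution_mem φ htE htF ht1' ht2 hEF
  have heq : cj a E = E :=
    (Subgroup.eq_of_le_of_card_ge hle (by rw [card_cj])).symm
  exact mem_normalizer_of_cj_eq_self heq

end Cfsg.Agent.Helper11
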