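import Cfsg.Agent.Helper11.FFAbel4

/-!
# Abelian offenders in solvable groups at the prime 2 are best offenders (helper11)
-/

set_option autoImplicit false

namespace Cfsg.Agent.Helper11

open scoped commutatorElement
open Cfsg.Agent.Helper49.FF (cj mem_cj conj_mem_cj cj_mul cj_one cj_eq_self_of_mem_normalizer cj_mono card_cj
  comm_cj cj_centralizer cj_inf mem_normalizer_of_cj_eq_self)

variable {G : Type*} [Group G] [Finite G]

set_option maxHeartbeats 400000 in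
/-- In an `FFSetting` at the prime `2`, an abelian `2`-subgroup `A` with `|V| ≤ |A||C_V(A)|` has no subgroup of
larger measure than `|V|`, and contains a nontrivial best offender. -/
theorem weak_bound {V L Q A : Subgroup G} (hV : Cfsg.IsElementaryAbelian 2 V) (hS : FFSetting 2 V L Q)
    (hAL : A ≤ L) (hAc : ∀ x ∈ A, ∀ y ∈ A, x * y = y * x) (hA2 : IsPGroup 2 A) (hA1 : A ≠ ⊥)
    (hoff : Nat.card V ≤ Nat.card A * Nat.card ↥(V ⊓ Subgroup.centralizer (A : Set G))) :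
    (∀ B : Subgroup G, B ≤ A →
      Nat.card B * Nat.card ↥(V ⊓ Subgroup.centralizer (B : Set G)) ≤ Nat.card V) ∧
    ∃ B₀ : Subgroup G, B₀ ≤ A ∧ B₀ ≠ ⊥ ∧ Cfsg.IsBestOffenderOn 2 V B₀ := by
  haveI : Fact (Nat.Prime 2) := ⟨Nat.prime_two⟩
  have hAV : A ≤ Subgroup.normalizer (V : Set G) := hAL.trans hS.norm
  have hfA : A ⊓ Subgroup.centralizer (V : Set G) = ⊥ := by
    rw [eq_bot_iff, ← hS.faithful]
    exact inf_le_inf_right _ hAL
  haveI : Nonempty {B : Subgroup G // B ≤ A} := ⟨⟨⊥, bot_le⟩⟩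
  obtain ⟨Bmax, hBmax⟩ := Finite.exists_max (fun B : {B : Subgroup G // B ≤ A} =>
    Nat.card (B : Subgroup G) * Nat.card ↥(V ⊓ Subgroup.centralizer ((B : Subgroup G) : Set G)))
  set m := Nat.card (Bmax : Subgroup G) *
    Nat.card ↥(V ⊓ Subgroup.centralizer ((Bmax : Subgroup G) : Set G)) with hm
  have hmax : ∀ B : Subgroup G, B ≤ A →
      Nat.card B * Nat.card ↥(V ⊓ Subgroup.centralizer (B : Set G)) ≤ m := fun B hB => hBmax ⟨B, hB⟩
  have hex : ∃ B : Subgroup G, B ≤ A ∧ B ≠ ⊥ ∧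
      Nat.card B * Nat.card ↥(V ⊓ Subgroup.centralizer (B : Set G)) = m := by
    by_cases hb : (Bmax : Subgroup G) = ⊥
    · refine ⟨A, le_rfl, hA1, le_antisymm (hmax A le_rfl) ?_⟩
      have : m = Nat.card V := by
        rw [hm, hb]; exact card_bot_mul_card_fixed V
      rw [this]; exact hoff
    · exact ⟨Bmax, Bmax.2, hb, rfl⟩
  obtain ⟨B, hBA, hB1, hBm⟩ := hex
  obtain ⟨B₀, hB₀A, hB₀1, hB₀m, hB₀BO⟩ :=
    exists_bestOffender_of_max hV hAV hAc hA2 hfA m hmax (Nat.card B) B rfl hBA hB1 hBm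
  have hexp : ∀ a ∈ B₀, a ^ 2 = 1 := bestOffender_exp hS.faithful (hB₀A.trans hAL) hB₀BO
  have hcomm : ∀ x ∈ B₀, ∀ y ∈ B₀, x * y = y * x := fun x hx y hy => hAc x (hB₀A hx) y (hB₀A hy)
  have hle := card_mul_card_fixed_le hS _ B₀ rfl (hB₀A.trans hAL) hcomm hexp
  rw [hB₀m] at hle
  exact ⟨fun B hB => (hmax B hB).trans hle, B₀, hB₀A, hB₀1, hB₀BO⟩

set_option maxHeartbeats 1000000 in
/-- **Abelian offenders in solvable groups with `O_2 = 1` are best offenders** (in particular elementary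
abelian modulo the kernel). -/
theorem abelian_offender_isBestOffender {V L Q : Subgroup G} (hV : Cfsg.IsElementaryAbelian 2 V)
    (hS : FFSetting 2 V L Q) (hsolv : Group.IsSolvable ↥L) (A : Subgroup G) (hAL : A ≤ L)
    (hAc : ∀ x ∈ A, ∀ y ∈ A, x * y = y * x) (hA2 : IsPGroup 2 A)
    (hoff : Nat.card V ≤ Nat.card A * Nat.card ↥(V ⊓ Subgroup.centralizer (A : Set G))) :
    Cfsg.IsBestOffenderOn 2 V A := by
  classical
  haveI : Fact (Nat.Prime 2) := ⟨Nat.prime_two⟩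
  by_cases hA1 : A = ⊥
  · rw [hA1]; exact isBestOffenderOn_bot' 2 V
  obtain ⟨hweak, B₀, hB₀A, hB₀1, hB₀BO⟩ := weak_bound hV hS hAL hAc hA2 hA1 hoff
  have hμA : Nat.card A * Nat.card ↥(V ⊓ Subgroup.centralizer (A : Set G)) = Nat.card V :=
    le_antisymm (hweak A le_rfl) hoff
  have hAV : A ≤ Subgroup.normalizer (V : Set G) := hAL.trans hS.norm
  have hVcomm : ∀ x ∈ V, ∀ y ∈ V, x * y = y * x := by
    intro x hx y hy
    have := hV.1
    exact congrArg Subtype.val (mul_comm' (⟨x, hx⟩ : ↥V) ⟨y, hy⟩)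
  -- the group `M = Q A`
  set M := Q ⊔ A with hM
  have hSM : FFSetting 2 V M Q := hS.restrict hAL
  have hAM : A ≤ M := le_sup_right
  have hML : M ≤ L := sup_le hS.QH hAL
  -- `A` has odd index in `M`
  have hodd : (A.relIndex M).Coprime 2 := by
    have hAQ : A ≤ Subgroup.normalizer (Q : Set G) := hAL.trans hS.normQ
    have h1 := Cfsg.Agent.Helper10.card_sup_mul_card_inf A Q hAQ
    have hdisj : A ⊓ Q = ⊥ := by
      apply Disjoint.eq_bot
      apply Subgroup.disjoint_of_coprime_natCard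
      obtain ⟨k, hk⟩ := IsPGroup.iff_card.mp hA2
      rw [hk]
      apply Nat.Coprime.pow_left
      exact (Nat.Prime.coprime_iff_not_dvd Nat.prime_two).mpr hS.pQ
    rw [hdisj, Subgroup.card_bot, mul_one, sup_comm] at h1
    have h2 : Nat.card A * A.relIndex M = Nat.card M :=
      Cfsg.Agent.Helper49.FF.card_mul_relIndex_of_le hAM
    rw [h1] at h2
    have h3 : A.relIndex M = Nat.card Q := Nat.eq_of_mul_eq_mul_left Nat.card_pos h2
    rw [h3]
    exact ((Nat.Prime.coprime_iff_not_dvd Nat.prime_two).mpr hS.pQ).symm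
  -- the group generated by the best offenders of `M`
  set H₀ : Subgroup G := ⨆ B : {B : Subgroup G // B ≤ M ∧ Cfsg.IsBestOffenderOn 2 V B}, (B : Subgroup G)
    with hH₀
  have hH₀M : H₀ ≤ M := iSup_le fun B => B.2.1
  have hle_H₀ : ∀ B : Subgroup G, B ≤ M → Cfsg.IsBestOffenderOn 2 V B → B ≤ H₀ := fun B h1 h2 =>
    le_iSup (fun B : {B : Subgroup G // B ≤ M ∧ Cfsg.IsBestOffenderOn 2 V B} => (B : Subgroup G)) ⟨B, h1, h2⟩
  have hMH₀ : M ≤ Subgroup.normalizer (H₀ : Set G) := by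
    apply le_normalizer_of_conj_mem
    intro g hg
    have hle : H₀ ≤ H₀.comap (MulAut.conj g).toMonoidHom := by
      apply iSup_le
      rintro ⟨B, hBM, hBO⟩
      rw [← Subgroup.map_le_iff_le_comap]
      apply hle_H₀
      · have := cj_mono g hBM
        rwa [cj_eq_self_of_mem_normalizer (Subgroup.le_normalizer hg)] at this
      · exact isBestOffenderOn_cj (hSM.norm hg) hBO
    intro x hx
    have := hle hx
    rw [Subgroup.mem_comap] at this
    simpa using this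
  have hsolvH₀ : Group.IsSolvable ↥H₀ :=
    Group.isSolvable_of_isSolvable_injective (Subgroup.inclusion_injective (hH₀M.trans hML))
  have hS1 := S1_of_ffSetting hSM hH₀M hMH₀ hsolvH₀
  have hS3 : H₀ = ⨆ B : {B : Subgroup G // B ≤ H₀ ∧ Cfsg.IsBestOffenderOn 2 V B}, (B : Subgroup G) := by
    apply le_antisymm
    · apply iSup_le
      rintro ⟨B, hBM, hBO⟩
      exact le_iSup (fun B : {B : Subgroup G // B ≤ H₀ ∧ Cfsg.IsBestOffenderOn 2 V B} => (B : Subgroup G))
        ⟨B, hle_H₀ B hBM hBO, hBO⟩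
    · exact iSup_le fun B => B.2.1
  have hH₀1 : H₀ ≠ ⊥ := by
    intro h
    have := hle_H₀ B₀ (hB₀A.trans hAM) hB₀BO
    rw [h, le_bot_iff] at this
    exact hB₀1 this
  have hH₀V : H₀ ≤ Subgroup.normalizer (V : Set G) := hH₀M.trans hSM.norm
  have hH₀f : H₀ ⊓ Subgroup.centralizer (V : Set G) = ⊥ := by
    rw [eq_bot_iff, ← hSM.faithful]
    exact inf_le_inf_right _ hH₀M
  obtain ⟨-, h2, -, -, -, h6⟩ := Cfsg.Agent.S0617.result (p := 2) V H₀ hV hH₀V hH₀f hS1 hS3 hH₀1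
  obtain ⟨e0⟩ := nonempty_sl2_two_mulEquiv_perm
  -- squares of elements of `A` centralize `[V, H₀]`
  have hsq : ∀ a ∈ A, (⨆ E : {E : Subgroup G // ∃ A : Subgroup G, A ≤ H₀ ∧ Cfsg.IsBestOffenderOn 2 V A ∧
      ⁅V, A⁆ ≠ ⊥ ∧ (∀ B : Subgroup G, B ≤ A → Cfsg.IsBestOffenderOn 2 V B → ⁅V, B⁆ ≠ ⊥ → B = A) ∧
      E = ⁅((Cfsg.pPrimeCore 2 ↥H₀).map H₀.subtype), A⁆ ⊔ A}, ⁅V, (E : Subgroup G)⁆) ≤
      Subgroup.centralizer ({a ^ 2} : Set G) := by
    intro a ha
    apply iSup_le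
    intro E
    obtain ⟨hnE, ⟨φ⟩, hcardW⟩ := h2 E
    have hEH₀ : (E : Subgroup G) ≤ H₀ := by
      obtain ⟨E, A', hA'H, -, -, -, rfl⟩ := E
      exact sup_le ((Subgroup.commutator_mono (Subgroup.map_subtype_le _) hA'H).trans
        (Subgroup.commutator_le_self H₀)) hA'H
    have haE : a ∈ Subgroup.normalizer (((E : Subgroup G) : Subgroup G) : Set G) :=
      le_normalizer_of_odd_index (φ.trans e0) hEH₀ hnE hH₀M hMH₀ hAM hodd hAc hA2 ha
    have haW : a ∈ Subgroup.normalizer ((⁅V, (E : Subgroup G)⁆ : Subgroup G) : Set G) := by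
      apply mem_normalizer_of_cj_eq_self
      have h1 : cj a ⁅V, (E : Subgroup G)⁆ = ⁅cj a V, cj a (E : Subgroup G)⁆ :=
        Subgroup.map_commutator _ _ _
      rw [h1, cj_eq_self_of_mem_normalizer (hAV ha), cj_eq_self_of_mem_normalizer haE]
    have hWV : ⁅V, (E : Subgroup G)⁆ ≤ V := Cfsg.Agent.Helper49.SubIrr.comm_le (hEH₀.trans hH₀V)
    obtain ⟨k, hk⟩ := hA2 ⟨a, ha⟩
    have hk' : a ^ (2 ^ k) = 1 := by
      have := congrArg Subtype.val hk
      simpa using this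
    have h4 : Nat.card ↥(⁅V, (E : Subgroup G)⁆) = 4 := by rw [hcardW]; norm_num
    have := sq_mem_centralizer_of_card_four h4 (fun w hw => hV.2 w (hWV hw)) haW hk'
    intro w hw
    rw [Subgroup.mem_centralizer_singleton_iff]
    exact (Subgroup.mem_centralizer_iff.mp this w hw)
  -- Timmesfeld replacement with `U = C_V(H₀)`
  set V₀ := V ⊓ Subgroup.centralizer (H₀ : Set G) with hV₀
  have hAA : ⁅A, A⁆ = ⊥ := by
    rw [Subgroup.commutator_eq_bot_iff_le_centralizer]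
    intro x hx
    rw [Subgroup.mem_centralizer_iff]
    intro y hy
    exact hAc y hy x hx
  have hab : ⁅A, A⁆ ≤ Subgroup.centralizer (V : Set G) := by rw [hAA]; exact bot_le
  have hBO : ∀ B' : Subgroup G, B' ≤ A → Cfsg.Agent.Helper51.mu V B' ≤ Cfsg.Agent.Helper51.mu V A := by
    intro B' hB'
    show Nat.card B' * Nat.card ↥(V ⊓ Subgroup.centralizer (B' : Set G)) ≤
      Nat.card A * Nat.card ↥(V ⊓ Subgroup.centralizer (A : Set G))
    rw [hμA]
    exact hweak B' hB'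
  obtain ⟨t1, t2⟩ := Cfsg.Agent.Helper51.timmesfeld_replacement V A hV.1 hAV hab hBO V₀ inf_le_left
  set BU := A ⊓ Subgroup.centralizer ((⁅V₀, A⁆ : Subgroup G) : Set G) with hBU
  have hV₀A_le : ⁅V₀, A⁆ ≤ V :=
    (Subgroup.commutator_mono inf_le_left le_rfl).trans (Cfsg.Agent.Helper49.SubIrr.comm_le hAV)
  -- `BU` is a best offender
  have hBUBO : Cfsg.IsBestOffenderOn 2 V BU := by
    refine ⟨?_, ?_, ?_⟩
    · intro B' hB'
      have h1 : Nat.card BU * Nat.card ↥(V ⊓ Subgroup.centralizer (BU : Set G)) = Nat.card V := by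
        rw [← hμA]; exact t1
      rw [h1]
      exact hweak B' (hB'.trans inf_le_left)
    · exact (Subgroup.commutator_mono inf_le_left inf_le_left).trans hab
    · intro b hb
      have hbA : b ∈ A := (Subgroup.mem_inf.mp hb).1
      have hbC : b ∈ Subgroup.centralizer ((⁅V₀, A⁆ : Subgroup G) : Set G) := (Subgroup.mem_inf.mp hb).2
      have h1 : b ^ 2 ∈ Subgroup.centralizer (V₀ : Set G) :=
        Cfsg.Agent.Helper49.FF.pow_p_mem_centralizer (p := 2) (fun w hw => hV.2 w (hV₀A_le hw)) hbC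
          (fun v hv => Cfsg.Agent.Helper49.SubIrr.commElt_mem hv hbA)
      have h3 : V ≤ Subgroup.centralizer ({b ^ 2} : Set G) := by
        rw [← h6]
        apply sup_le
        · intro v hv
          rw [Subgroup.mem_centralizer_singleton_iff]
          exact Subgroup.mem_centralizer_iff.mp h1 v hv
        · exact hsq b hbA
      rw [Subgroup.mem_centralizer_iff]
      intro v hv
      have := h3 hv
      rw [Subgroup.mem_centralizer_singleton_iff] at this
      exact this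
  -- hence `BU ≤ H₀` centralizes `V₀`
  have hBUH₀ : BU ≤ H₀ := hle_H₀ BU (inf_le_left.trans hAM) hBUBO
  have hV₀le : V₀ ≤ ⁅V₀, A⁆ ⊔ (V ⊓ Subgroup.centralizer (A : Set G)) := by
    rw [← t2]
    intro v hv
    refine Subgroup.mem_inf.mpr ⟨(Subgroup.mem_inf.mp hv).1, ?_⟩
    have h1 : H₀ ≤ Subgroup.centralizer ({v} : Set G) := by
      intro h hh
      rw [Subgroup.mem_centralizer_singleton_iff]
      exact (Subgroup.mem_centralizer_iff.mp (Subgroup.mem_inf.mp hv).2 h hh)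
    rw [Subgroup.mem_centralizer_iff]
    intro b hb
    have := h1 (hBUH₀ hb)
    rw [Subgroup.mem_centralizer_singleton_iff] at this
    exact this
  -- `A` normalizes `V₀`
  have hAV₀ : A ≤ Subgroup.normalizer (V₀ : Set G) := by
    intro a ha
    apply mem_normalizer_of_cj_eq_self
    rw [hV₀, cj_inf, cj_centralizer, cj_eq_self_of_mem_normalizer (hAV ha),
      cj_eq_self_of_mem_normalizer (hMH₀ (hAM ha))]
  have hV₀A_le' : ⁅V₀, A⁆ ≤ V₀ := commutator_le_of_le_normalizer hAV₀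
  have hV₀le' : V₀ ≤ ⁅V₀, A⁆ ⊔ Cfsg.Agent.Helper51.cD V₀ A := by
    intro v hv
    have hcomm' : ∀ c ∈ ⁅V₀, A⁆, ∀ r ∈ V ⊓ Subgroup.centralizer (A : Set G), c * r = r * c :=
      fun c hc r hr => hVcomm c (hV₀A_le hc) r (Subgroup.mem_inf.mp hr).1
    obtain ⟨c, hc, r, hr, rfl⟩ := exists_mul_of_mem_sup_of_commute hcomm' (hV₀le hv)
    refine Subgroup.mul_mem_sup hc (Subgroup.mem_inf.mpr ⟨?_, (Subgroup.mem_inf.mp hr).2⟩)
    have : r = c⁻¹ * (c * r) := by group
    rw [this]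
    exact V₀.mul_mem (V₀.inv_mem (hV₀A_le' hc)) hv
  have hV₀c : IsMulCommutative V₀ :=
    ⟨⟨fun x y => Subtype.ext (hVcomm x (Subgroup.mem_inf.mp x.2).1 y (Subgroup.mem_inf.mp y.2).1)⟩⟩
  have hV₀p : IsPGroup 2 V₀ := by
    intro v
    exact ⟨1, Subtype.ext (by simpa using hV.2 v (Subgroup.mem_inf.mp v.2).1)⟩
  have hnil := Cfsg.Agent.Helper51.exists_iterComm_eq_bot_of_isPGroup hV₀p hA2 hAV₀
  have hcomm0 : ⁅V₀, A⁆ = ⊥ := Cfsg.Agent.Helper51.commutator_eq_bot_of_le_sup' hV₀c hAV₀ hnil hV₀le'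
  have hBUA : BU = A := by
    apply le_antisymm inf_le_left
    intro a ha
    refine Subgroup.mem_inf.mpr ⟨ha, ?_⟩
    rw [hcomm0, Subgroup.mem_centralizer_iff]
    intro h hh
    rw [SetLike.mem_coe, Subgroup.mem_bot] at hh
    rw [hh, one_mul, mul_one]
  rw [← hBUA]
  exact hBUBO

end Cfsg.Agent.Helper11
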