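import Cfsg.Agent.S0617
import Cfsg.Agent.S0250

/-!
# Groups generated by best offenders at the prime 2 are direct powers of `S₃` (helper11)
-/

set_option autoImplicit false

namespace Cfsg.Agent.Helper11

open scoped commutatorElement

/-- An independent finite family of subgroups, each normalized by the join, is an internal direct product. -/
theorem nonempty_mulEquiv_pi_of_iSupIndep {G : Type*} [Group G] {ι : Type*} [Fintype ι]
    (E : ι → Subgroup G) (hind : iSupIndep E)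
    (hnorm : ∀ i, (⨆ j, E j) ≤ Subgroup.normalizer ((E i : Subgroup G) : Set G)) :
    Nonempty ((∀ i, ↥(E i)) ≃* ↥(⨆ i, E i)) := by
  have hcomm : Pairwise fun i j : ι => ∀ x y : G, x ∈ E i → y ∈ E j → Commute x y := by
    intro i j hij x y hx hy
    have hdisj : E i ⊓ E j = ⊥ := disjoint_iff.mp (hind.pairwiseDisjoint hij)
    have hxn : x ∈ Subgroup.normalizer ((E j : Subgroup G) : Set G) := hnorm j (le_iSup E i hx)
    have hyn : y ∈ Subgroup.normalizer ((E i : Subgroup G) : Set G) := hnorm i (le_iSup E j hy)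
    have h1 : x * y * x⁻¹ * y⁻¹ ∈ E j :=
      (E j).mul_mem ((Subgroup.mem_normalizer_iff.mp hxn y).mp hy) ((E j).inv_mem hy)
    have h2 : x * y * x⁻¹ * y⁻¹ ∈ E i := by
      have : x * y * x⁻¹ * y⁻¹ = x * (y * x⁻¹ * y⁻¹) := by group
      rw [this]
      exact (E i).mul_mem hx ((Subgroup.mem_normalizer_iff.mp hyn x⁻¹).mp ((E i).inv_mem hx))
    have h3 : x * y * x⁻¹ * y⁻¹ ∈ E i ⊓ E j := Subgroup.mem_inf.mpr ⟨h2, h1⟩
    rw [hdisj, Subgroup.mem_bot] at h3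
    show x * y = y * x
    calc x * y = (x * y * x⁻¹ * y⁻¹) * y * x := by group
      _ = y * x := by rw [h3, one_mul]
  have hinj := Subgroup.injective_noncommPiCoprod_of_iSupIndep (hcomm := hcomm) hind
  have hrange : (Subgroup.noncommPiCoprod hcomm).range = ⨆ i, E i := Subgroup.noncommPiCoprod_range
  exact ⟨(MonoidHom.ofInjective hinj).trans (MulEquiv.subgroupCongr hrange)⟩

/-- `SL(2, 2) ≅ S₃`. -/
theorem nonempty_sl2_two_mulEquiv_perm :
    Nonempty (Matrix.SpecialLinearGroup (Fin 2) (ZMod 2) ≃* Equiv.Perm (Fin 3)) :=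
  Cfsg.Agent.S0250.result (F := ZMod 2) (ZMod.card 2)

/-- **A faithful group generated by best offenders at the prime `2`, with self-centralizing odd core, is a
direct power of `S₃`.** -/
theorem ff_iso_pi_perm {G : Type*} [Group G] [Finite G] (V H : Subgroup G)
    (hV : Cfsg.IsElementaryAbelian 2 V) (hHV : H ≤ Subgroup.normalizer (V : Set G))
    (hf : H ⊓ Subgroup.centralizer (V : Set G) = ⊥)
    (hS1 : Subgroup.centralizer (Cfsg.pPrimeCore 2 ↥H : Set ↥H) ≤ Cfsg.pPrimeCore 2 ↥H)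
    (hS3 : H = ⨆ A : {A : Subgroup G // A ≤ H ∧ Cfsg.IsBestOffenderOn 2 V A}, (A : Subgroup G))
    (hH1 : H ≠ ⊥) :
    ∃ n : ℕ, 1 ≤ n ∧ Nonempty (↥H ≃* (Fin n → Equiv.Perm (Fin 3))) := by
  classical
  haveI : Fact (Nat.Prime 2) := ⟨Nat.prime_two⟩
  obtain ⟨-, h2, h3, h4, -, -⟩ := Cfsg.Agent.S0617.result (p := 2) V H hV hHV hf hS1 hS3 hH1
  set ι := {E : Subgroup G // ∃ A : Subgroup G, A ≤ H ∧ Cfsg.IsBestOffenderOn 2 V A ∧ ⁅V, A⁆ ≠ ⊥ ∧
    (∀ B : Subgroup G, B ≤ A → Cfsg.IsBestOffenderOn 2 V B → ⁅V, B⁆ ≠ ⊥ → B = A) ∧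
    E = ⁅((Cfsg.pPrimeCore 2 ↥H).map H.subtype), A⁆ ⊔ A} with hι
  haveI : Fintype ι := Fintype.ofFinite _
  have hnorm : ∀ i : ι, (⨆ j : ι, (j : Subgroup G)) ≤
      Subgroup.normalizer (((i : Subgroup G) : Subgroup G) : Set G) := by
    intro i
    rw [h4]
    exact (h2 i).1
  obtain ⟨e1⟩ := nonempty_mulEquiv_pi_of_iSupIndep (fun i : ι => (i : Subgroup G)) h3 hnorm
  obtain ⟨e0⟩ := nonempty_sl2_two_mulEquiv_perm
  have e2 : ∀ i : ι, ↥(i : Subgroup G) ≃* Equiv.Perm (Fin 3) := fun i =>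
    (Classical.choice (h2 i).2.1).trans e0
  have e3 : (∀ i : ι, ↥(i : Subgroup G)) ≃* (ι → Equiv.Perm (Fin 3)) := MulEquiv.piCongrRight e2
  have e4 : (ι → Equiv.Perm (Fin 3)) ≃* (Fin (Fintype.card ι) → Equiv.Perm (Fin 3)) :=
    MulEquiv.arrowCongr (Fintype.equivFin ι) (MulEquiv.refl _)
  have e5 : ↥(⨆ j : ι, (j : Subgroup G)) ≃* ↥H := MulEquiv.subgroupCongr h4
  refine ⟨Fintype.card ι, ?_, ⟨e5.symm.trans (e1.symm.trans (e3.trans e4))⟩⟩
  by_contra hcard
  have h0 : Fintype.card ι = 0 := by omega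
  haveI : IsEmpty ι := Fintype.card_eq_zero_iff.mp h0
  apply hH1
  rw [← h4, iSup_of_empty]

end Cfsg.Agent.Helper11
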