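import Cfsg.Agent.Helper11.FFAbel5
import Cfsg.Agent.Helper51.WCUtil
import Cfsg.Agent.Helper21.Fitting

/-!
# Thompson factorization in solvable groups with `F(X) = O_2(X)`, part 1: the module `Ω₁(⟨Z(T)^X⟩)` (helper11)
-/

set_option autoImplicit false

namespace Cfsg.Agent.Helper11

open scoped commutatorElement

section general
variable {X : Type*} [Group X]

/-- the normal core of `C(Z)` is the centralizer of the normal closure of `Z`. -/
theorem normalCore_centralizer_eq (Z : Subgroup X) :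
    (Subgroup.centralizer (Z : Set X)).normalCore =
      Subgroup.centralizer ((Subgroup.normalClosure (Z : Set X) : Subgroup X) : Set X) := by
  apply le_antisymm
  · intro a ha
    have ha' : ∀ b : X, b * a * b⁻¹ ∈ Subgroup.centralizer (Z : Set X) := ha
    have hle : Subgroup.normalClosure (Z : Set X) ≤ Subgroup.centralizer ({a} : Set X) := by
      unfold Subgroup.normalClosure
      rw [Subgroup.closure_le]
      intro x hx
      obtain ⟨z, hz, hconj⟩ := Group.mem_conjugatesOfSet_iff.mp hx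
      obtain ⟨c, hc⟩ := isConj_iff.mp hconj
      rw [SetLike.mem_coe, Subgroup.mem_centralizer_singleton_iff, ← hc]
      have h1 := Subgroup.mem_centralizer_iff.mp (ha' c⁻¹) z hz
      rw [inv_inv] at h1
      -- `z * (c⁻¹ a c) = (c⁻¹ a c) * z`
      calc c * z * c⁻¹ * a = c * (z * (c⁻¹ * a * c)) * c⁻¹ := by group
        _ = c * ((c⁻¹ * a * c) * z) * c⁻¹ := by rw [h1]
        _ = a * (c * z * c⁻¹) := by group
    rw [Subgroup.mem_centralizer_iff]
    intro h hh
    have := hle hh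
    rw [Subgroup.mem_centralizer_singleton_iff] at this
    exact this
  · haveI : (Subgroup.normalClosure (Z : Set X)).Normal := Subgroup.normalClosure_normal
    haveI : (Subgroup.centralizer ((Subgroup.normalClosure (Z : Set X) : Subgroup X) : Set X)).Normal :=
      Subgroup.normal_centralizer
    rw [Subgroup.normal_le_normalCore]
    exact Subgroup.centralizer_le Subgroup.le_normalClosure

/-- `Ω₁` (for the prime `2`) of an abelian subgroup. -/
def omegaTwo (V : Subgroup X) (hV : ∀ x ∈ V, ∀ y ∈ V, x * y = y * x) : Subgroup X where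
  carrier := {v | v ∈ V ∧ v ^ 2 = 1}
  one_mem' := ⟨V.one_mem, one_pow 2⟩
  mul_mem' := by
    rintro a b ⟨ha, ha2⟩ ⟨hb, hb2⟩
    refine ⟨V.mul_mem ha hb, ?_⟩
    have hc : Commute a b := hV a ha b hb
    rw [hc.mul_pow, ha2, hb2, one_mul]
  inv_mem' := by
    rintro a ⟨ha, ha2⟩
    exact ⟨V.inv_mem ha, by rw [inv_pow, ha2, inv_one]⟩

theorem mem_omegaTwo {V : Subgroup X} {hV : ∀ x ∈ V, ∀ y ∈ V, x * y = y * x} {v : X} :
    v ∈ omegaTwo V hV ↔ v ∈ V ∧ v ^ 2 = 1 := Iff.rfl

theorem omegaTwo_le (V : Subgroup X) (hV : ∀ x ∈ V, ∀ y ∈ V, x * y = y * x) : omegaTwo V hV ≤ V :=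
  fun _ h => h.1

theorem omegaTwo_normal (V : Subgroup X) (hV : ∀ x ∈ V, ∀ y ∈ V, x * y = y * x) [hn : V.Normal] :
    (omegaTwo V hV).Normal := by
  constructor
  rintro v ⟨hv, hv2⟩ g
  refine ⟨hn.conj_mem v hv g, ?_⟩
  rw [conj_pow, hv2, mul_one, mul_inv_cancel]

theorem omegaTwo_isElementaryAbelian (V : Subgroup X) (hV : ∀ x ∈ V, ∀ y ∈ V, x * y = y * x) :
    Cfsg.IsElementaryAbelian 2 (omegaTwo V hV) :=
  ⟨⟨⟨fun a b => Subtype.ext (hV a a.2.1 b b.2.1)⟩⟩, fun a ha => ha.2⟩

end general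

section oddact
variable {X : Type*} [Group X] [Finite X]

/-- an element of odd order centralizing `Ω₁(V)` centralizes the abelian `2`-group `V` it normalizes. -/
theorem conj_eq_of_odd_of_centralizes_omegaTwo {V : Subgroup X} (hV : ∀ x ∈ V, ∀ y ∈ V, x * y = y * x)
    {c : X} (hcV : c ∈ Subgroup.normalizer (V : Set X)) (hodd : Odd (orderOf c))
    (hcU : c ∈ Subgroup.centralizer ((omegaTwo V hV : Subgroup X) : Set X)) :
    ∀ (k : ℕ) (v : X), v ∈ V → v ^ (2 ^ k) = 1 → c * v * c⁻¹ = v := by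
  intro k
  induction k with
  | zero =>
    intro v _ hv
    rw [pow_zero, pow_one] at hv
    rw [hv]; group
  | succ k ih =>
    intro v hv hvk
    have hcv : c * v * c⁻¹ ∈ V := (Subgroup.mem_normalizer_iff.mp hcV v).mp hv
    set w := v⁻¹ * (c * v * c⁻¹) with hw
    have hwV : w ∈ V := V.mul_mem (V.inv_mem hv) hcv
    have hv2 : (v ^ 2) ^ (2 ^ k) = 1 := by rw [← pow_mul, ← pow_succ']; exact hvk
    have h1 : c * v ^ 2 * c⁻¹ = v ^ 2 := ih (v ^ 2) (V.pow_mem hv 2) hv2
    have hw2 : w ^ 2 = 1 := by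
      have hc : Commute v⁻¹ (c * v * c⁻¹) := hV _ (V.inv_mem hv) _ hcv
      rw [hw, hc.mul_pow, conj_pow, h1, inv_pow, inv_mul_cancel]
    have hwU : w ∈ omegaTwo V hV := ⟨hwV, hw2⟩
    have h2 := Cfsg.Agent.Helper49.FF.pow_conj_eq hcU hwU (orderOf c)
    rw [pow_orderOf_eq_one, one_mul, inv_one, mul_one] at h2
    have h3 : w ^ orderOf c = 1 := by
      have : v * w ^ orderOf c = v * 1 := by rw [mul_one]; exact h2.symm
      exact mul_left_cancel this
    have h4 : orderOf w ∣ Nat.gcd 2 (orderOf c) :=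
      Nat.dvd_gcd (orderOf_dvd_of_pow_eq_one hw2) (orderOf_dvd_of_pow_eq_one h3)
    have h5 : Nat.gcd 2 (orderOf c) = 1 := by
      rw [Nat.coprime_comm.mp]
      · exact Nat.Coprime.symm (Nat.coprime_two_left.mpr hodd)
    rw [h5, Nat.dvd_one, orderOf_eq_one_iff] at h4
    have : c * v * c⁻¹ = v * w := by rw [hw]; group
    rw [this, h4, mul_one]

end oddact

end Cfsg.Agent.Helper11
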