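import Cfsg.Agent.Helper11.FFSolv1

/-!
# Thompson factorization in solvable groups with `F(X) = O_2(X)`, part 2: the kernel of the action (helper11)
-/

set_option autoImplicit false

namespace Cfsg.Agent.Helper11

open scoped commutatorElement

variable {X : Type*} [Group X] [Finite X]

set_option maxHeartbeats 400000 in
/-- **Lemma K**: a normal subgroup `D ≥ C_X(V)`, `V = ⟨Z^X⟩` with `Z` central in the Sylow `2`-subgroup `T`, such
that `D / C_X(V)` is a `2`-group, centralizes `V`. -/
theorem le_centralizer_normalClosure_of_two_quotient (T : Sylow 2 X) (Z : Subgroup X)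
    (hZT : Z ≤ Subgroup.centralizer ((T : Subgroup X) : Set X)) (D : Subgroup X) [hDn : D.Normal]
    (hCD : Subgroup.centralizer ((Subgroup.normalClosure (Z : Set X) : Subgroup X) : Set X) ≤ D)
    (hD2 : ∀ d ∈ D, ∃ k : ℕ, d ^ (2 ^ k) ∈
      Subgroup.centralizer ((Subgroup.normalClosure (Z : Set X) : Subgroup X) : Set X)) :
    D ≤ Subgroup.centralizer ((Subgroup.normalClosure (Z : Set X) : Subgroup X) : Set X) := by
  haveI : Fact (Nat.Prime 2) := ⟨Nat.prime_two⟩
  set V := Subgroup.normalClosure (Z : Set X) with hV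
  haveI hVn : V.Normal := Subgroup.normalClosure_normal
  set CV := Subgroup.centralizer (V : Set X) with hCV
  haveI hCVn : CV.Normal := Subgroup.normal_centralizer
  -- `D ∩ T` has odd index in `D`
  have hTodd : ((T : Subgroup X).relIndex ⊤).Coprime 2 := by
    rw [Subgroup.relIndex_top_right]
    exact ((Nat.Prime.coprime_iff_not_dvd Nat.prime_two).mpr T.not_dvd_index).symm
  have hPodd : ((D ⊓ (T : Subgroup X)).relIndex D).Coprime 2 := by
    apply relIndex_inf_coprime (M := ⊤) le_top le_top _ hTodd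
    rw [Subgroup.normalizer_eq_top]
    exact le_top
  set E := CV ⊔ (D ⊓ (T : Subgroup X)) with hE
  have hED : E ≤ D := sup_le hCD inf_le_left
  -- `|D : C_V|` is a power of `2`
  have h2pow : ∃ j : ℕ, CV.relIndex D = 2 ^ j := by
    haveI : (CV.subgroupOf D).Normal := Subgroup.Normal.subgroupOf hCVn D
    have hp : IsPGroup 2 (↥D ⧸ CV.subgroupOf D) := by
      intro q
      obtain ⟨d, rfl⟩ := QuotientGroup.mk_surjective q
      obtain ⟨k, hk⟩ := hD2 d d.2
      refine ⟨k, ?_⟩
      rw [← QuotientGroup.mk_pow, QuotientGroup.eq_one_iff, Subgroup.mem_subgroupOf]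
      simpa using hk
    obtain ⟨j, hj⟩ := IsPGroup.iff_card.mp hp
    refine ⟨j, ?_⟩
    rw [Subgroup.relIndex, Subgroup.index_eq_card]
    exact hj
  obtain ⟨j, hj⟩ := h2pow
  have h1 : E.relIndex D ∣ 2 ^ j := hj ▸ Subgroup.relIndex_dvd_of_le_left D (le_sup_left : CV ≤ E)
  have h2 : E.relIndex D ∣ (D ⊓ (T : Subgroup X)).relIndex D :=
    Subgroup.relIndex_dvd_of_le_left D (le_sup_right : D ⊓ (T : Subgroup X) ≤ E)
  have h3 : E.relIndex D = 1 := by
    have hc : (E.relIndex D).Coprime (2 ^ j) :=
      Nat.Coprime.pow_right j (Nat.Coprime.coprime_dvd_left h2 hPodd)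
    exact Nat.Coprime.eq_one_of_dvd hc h1
  have hDE : D ≤ E := Subgroup.relIndex_eq_one.mp h3
  -- `E` centralizes `Z`
  have hEZ : E ≤ Subgroup.centralizer (Z : Set X) := by
    apply sup_le
    · exact Subgroup.centralizer_le Subgroup.le_normalClosure
    · exact inf_le_right.trans (Subgroup.le_centralizer_iff.mp hZT)
  have hDZ : D ≤ Subgroup.centralizer (Z : Set X) := hDE.trans hEZ
  rw [hCV, hV, ← normalCore_centralizer_eq, Subgroup.normal_le_normalCore]
  exact hDZ

end Cfsg.Agent.Helper11
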