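import Cfsg.Agent.Helper11.FFSolv2

/-!
# Thompson factorization in solvable groups with `F(X) = O_2(X)`, part 3: `C(Ω₁(V)) = C(V)` and `O_2(X/C) = 1` (helper11)
-/

set_option autoImplicit false

namespace Cfsg.Agent.Helper11

open scoped commutatorElement

variable {X : Type*} [Group X] [Finite X]

set_option maxHeartbeats 400000 in
/-- `V = ⟨Z(T)^X⟩` is an abelian subgroup of `O_2(X)` when `X` is solvable with `F(X) = O_2(X)`. -/
theorem normalClosure_center_sylow_facts [Group.IsSolvable X]
    (hF : Cfsg.fittingSubgroup X = Cfsg.pCore 2 X) (T : Sylow 2 X) :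
    (∀ x ∈ Subgroup.normalClosure (((T : Subgroup X) ⊓ Subgroup.centralizer ((T : Subgroup X) : Set X) :
        Subgroup X) : Set X), ∀ y ∈ Subgroup.normalClosure (((T : Subgroup X) ⊓
        Subgroup.centralizer ((T : Subgroup X) : Set X) : Subgroup X) : Set X), x * y = y * x) ∧
    Subgroup.normalClosure (((T : Subgroup X) ⊓ Subgroup.centralizer ((T : Subgroup X) : Set X) :
        Subgroup X) : Set X) ≤ Cfsg.pCore 2 X := by
  have hCQ : Subgroup.centralizer (Cfsg.pCore 2 X : Set X) ≤ Cfsg.pCore 2 X := by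
    rw [← hF]
    haveI : (Cfsg.fittingSubgroup X).Characteristic := Cfsg.Agent.Lib.fittingSubgroup_characteristic
    haveI : (Cfsg.fittingSubgroup X).Normal := Subgroup.normal_of_characteristic _
    exact Cfsg.Agent.Helper21.le_fittingSubgroup_of_isSolvable_of_le_centralizer _
      (Subgroup.centralizer (Cfsg.fittingSubgroup X : Set X)) le_rfl Subgroup.normal_centralizer
      inferInstance le_rfl
  set Q := Cfsg.pCore 2 X with hQ
  set Z := (T : Subgroup X) ⊓ Subgroup.centralizer ((T : Subgroup X) : Set X) with hZ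
  haveI hQc : Q.Characteristic := Cfsg.Agent.Lib.pCore_characteristic 2
  haveI hQn : Q.Normal := Subgroup.normal_of_characteristic Q
  have hQT : Q ≤ (T : Subgroup X) := Cfsg.Agent.Lib.pCore_le_sylow T
  have hZCQ : Z ≤ Subgroup.centralizer (Q : Set X) := inf_le_right.trans (Subgroup.centralizer_le hQT)
  have hZQ : Z ≤ Q := hZCQ.trans hCQ
  haveI : (Subgroup.centralizer (Q : Set X)).Normal := Subgroup.normal_centralizer
  haveI : (Q ⊓ Subgroup.centralizer (Q : Set X)).Normal := Subgroup.normal_inf_normal _ _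
  have hVle : Subgroup.normalClosure (Z : Set X) ≤ Q ⊓ Subgroup.centralizer (Q : Set X) :=
    Subgroup.normalClosure_le_normal (le_inf hZQ hZCQ)
  refine ⟨?_, hVle.trans inf_le_left⟩
  intro x hx y hy
  have h1 := (Subgroup.mem_inf.mp (hVle hx)).2
  have h2 := (Subgroup.mem_inf.mp (hVle hy)).1
  exact (Subgroup.mem_centralizer_iff.mp h1 y h2).symm

set_option maxHeartbeats 400000 in
/-- `C_X(Ω₁(V)) = C_X(V)` for `V = ⟨Z^X⟩` an abelian `2`-group, `Z` central in the Sylow `2`-subgroup `T`. -/
theorem centralizer_omegaTwo_eq (T : Sylow 2 X) (Z : Subgroup X)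
    (hZT : Z ≤ Subgroup.centralizer ((T : Subgroup X) : Set X))
    (hVc : ∀ x ∈ Subgroup.normalClosure (Z : Set X), ∀ y ∈ Subgroup.normalClosure (Z : Set X), x * y = y * x)
    (hV2 : IsPGroup 2 (Subgroup.normalClosure (Z : Set X))) :
    Subgroup.centralizer ((omegaTwo (Subgroup.normalClosure (Z : Set X)) hVc : Subgroup X) : Set X) =
      Subgroup.centralizer ((Subgroup.normalClosure (Z : Set X) : Subgroup X) : Set X) := by
  set V := Subgroup.normalClosure (Z : Set X) with hV
  haveI hVn : V.Normal := Subgroup.normalClosure_normal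
  haveI hUn : (omegaTwo V hVc).Normal := omegaTwo_normal V hVc
  haveI : (Subgroup.centralizer ((omegaTwo V hVc : Subgroup X) : Set X)).Normal := Subgroup.normal_centralizer
  apply le_antisymm
  · apply le_centralizer_normalClosure_of_two_quotient T Z hZT
    · exact Subgroup.centralizer_le (omegaTwo_le V hVc)
    · intro d hd
      have hn : orderOf d ≠ 0 := (orderOf_pos d).ne'
      obtain ⟨k, m, hm, hkm⟩ := Nat.exists_eq_two_pow_mul_odd hn
      refine ⟨k, ?_⟩
      set c := d ^ (2 ^ k) with hc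
      have hcU : c ∈ Subgroup.centralizer ((omegaTwo V hVc : Subgroup X) : Set X) :=
        Subgroup.pow_mem _ hd _
      have hco : orderOf c = m := by
        rw [hc, orderOf_pow' d (pow_ne_zero k two_ne_zero), hkm]
        have : Nat.gcd (2 ^ k * m) (2 ^ k) = 2 ^ k := Nat.gcd_eq_right (Dvd.intro _ rfl)
        rw [this]
        exact Nat.mul_div_cancel_left m (pow_pos two_pos k)
      have hcV : c ∈ Subgroup.normalizer (V : Set X) := by
        rw [Subgroup.normalizer_eq_top]; exact Subgroup.mem_top c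
      apply Cfsg.Agent.Helper49.SubIrr.mem_centralizer_of_conj_eq
      intro v hv
      obtain ⟨j, hj⟩ := hV2 ⟨v, hv⟩
      have hj' : v ^ (2 ^ j) = 1 := by
        have := congrArg Subtype.val hj
        simpa using this
      exact conj_eq_of_odd_of_centralizes_omegaTwo hVc hcV (hco ▸ hm) hcU j v hv hj'
  · exact Subgroup.centralizer_le (omegaTwo_le V hVc)

set_option maxHeartbeats 400000 in
/-- **Claim 3**: `O_2(X / C_X(U)) = 1` whenever `C_X(U) = C_X(V)`, `V = ⟨Z^X⟩`, `Z` central in a Sylow `2`-subgroup. -/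
theorem pCore_quotient_centralizer_eq_bot (T : Sylow 2 X) (Z : Subgroup X)
    (hZT : Z ≤ Subgroup.centralizer ((T : Subgroup X) : Set X))
    (U : Subgroup X) [hUn : U.Normal]
    (hU : Subgroup.centralizer ((U : Subgroup X) : Set X) =
      Subgroup.centralizer ((Subgroup.normalClosure (Z : Set X) : Subgroup X) : Set X)) :
    Cfsg.pCore 2 (X ⧸ Subgroup.centralizer ((U : Subgroup X) : Set X)) = ⊥ := by
  set CU := Subgroup.centralizer ((U : Subgroup X) : Set X) with hCU
  have hPc : (Cfsg.pCore 2 (X ⧸ CU)).Characteristic := Cfsg.Agent.Lib.pCore_characteristic 2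
  haveI hPn : (Cfsg.pCore 2 (X ⧸ CU)).Normal := Subgroup.normal_of_characteristic _
  set D := (Cfsg.pCore 2 (X ⧸ CU)).comap (QuotientGroup.mk' CU) with hD
  haveI hDn : D.Normal := Subgroup.Normal.comap hPn _
  have hCD : CU ≤ D := by
    intro c hc
    rw [hD, Subgroup.mem_comap]
    have : (QuotientGroup.mk' CU) c = 1 := (QuotientGroup.eq_one_iff c).mpr hc
    rw [this]
    exact Subgroup.one_mem _
  have hD2 : ∀ d ∈ D, ∃ k : ℕ, d ^ (2 ^ k) ∈ CU := by
    intro d hd
    rw [hD, Subgroup.mem_comap] at hd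
    obtain ⟨k, hk⟩ := (Cfsg.Agent.Lib.isPGroup_pCore 2 (G := X ⧸ CU)) ⟨_, hd⟩
    refine ⟨k, ?_⟩
    have hk' : ((QuotientGroup.mk' CU) d) ^ (2 ^ k) = 1 := by
      have := congrArg Subtype.val hk
      simpa using this
    rw [← map_pow] at hk'
    exact (QuotientGroup.eq_one_iff _).mp hk'
  have hDle : D ≤ CU := by
    rw [hU] at hCD hD2 ⊢
    exact le_centralizer_normalClosure_of_two_quotient T Z hZT D hCD hD2
  rw [eq_bot_iff]
  intro q hq
  obtain ⟨d, rfl⟩ := QuotientGroup.mk_surjective q
  have hd : d ∈ D := by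
    rw [hD, Subgroup.mem_comap]
    exact hq
  rw [Subgroup.mem_bot]
  exact (QuotientGroup.eq_one_iff d).mpr (hDle hd)

end Cfsg.Agent.Helper11
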