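import Cfsg.Agent.Helper11.FFSolv3
import Cfsg.Agent.Helper1.FFTransfer
import Cfsg.Agent.Helper70.PSolvable
import Cfsg.Agent.Helper10.Card

/-!
# Thompson factorization in solvable groups with `F(X) = O_2(X)`, part 4: images of the largest abelian subgroups
are best offenders (helper11)
-/

set_option autoImplicit false

namespace Cfsg.Agent.Helper11

open scoped commutatorElement
open Cfsg.Agent.Helper51.WC (AA JJ)
open Cfsg.Agent.Helper1.Hol (pi VV HolG)

universe u

variable {X : Type u} [Group X] [Finite X]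

set_option maxHeartbeats 400000 in
/-- **Thompson's inequality**: for an abelian normal `2`-subgroup `U` and `A'` abelian of largest order in a Sylow
`2`-subgroup, `|U| |C_{A'}(U)| ≤ |A'| |C_U(A')|`. -/
theorem thompson_offender_ineq (U : Subgroup X) [hUn : U.Normal]
    (hUc : IsMulCommutative U) (hU2 : IsPGroup 2 U) (T' : Sylow 2 X) {A' : Subgroup X}
    (hA' : A' ∈ AA (T' : Subgroup X)) :
    Nat.card U * Nat.card ↥(A' ⊓ Subgroup.centralizer (U : Set X)) ≤
      Nat.card A' * Nat.card ↥(U ⊓ Subgroup.centralizer (A' : Set X)) := by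
  haveI : Fact (Nat.Prime 2) := ⟨Nat.prime_two⟩
  set CA := A' ⊓ Subgroup.centralizer (U : Set X) with hCA
  have hA'c : IsMulCommutative A' := hA'.2.1
  have hCAc : IsMulCommutative CA := Cfsg.Agent.Helper51.WC.isMulCommutative_of_le hA'c inf_le_left
  have hUCA : U ≤ Subgroup.centralizer (CA : Set X) := by
    rw [Subgroup.le_centralizer_iff]
    exact inf_le_right
  have hBc : IsMulCommutative ↥(U ⊔ CA) := Cfsg.Agent.Helper51.WC.isMulCommutative_sup hUc hCAc hUCA
  have hA'2 : IsPGroup 2 A' := T'.isPGroup'.to_le hA'.1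
  have hCA2 : IsPGroup 2 CA := hA'2.to_le inf_le_left
  have hB2 : IsPGroup 2 ↥(U ⊔ CA) := IsPGroup.to_sup_of_normal_left hU2 hCA2
  have hBA : Nat.card ↥(U ⊔ CA) ≤ Nat.card A' :=
    Cfsg.Agent.Helper51.WC.card_le_of_mem_AA T' hA' _ hB2 hBc
  have hprod : Nat.card ↥(CA ⊔ U) * Nat.card ↥(CA ⊓ U) = Nat.card CA * Nat.card U := by
    apply Cfsg.Agent.Helper10.card_sup_mul_card_inf
    rw [Subgroup.normalizer_eq_top]
    exact le_top
  have hinf : Nat.card ↥(CA ⊓ U) ≤ Nat.card ↥(U ⊓ Subgroup.centralizer (A' : Set X)) := by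
    apply Subgroup.card_le_of_le
    intro x hx
    obtain ⟨hx1, hx2⟩ := Subgroup.mem_inf.mp hx
    refine Subgroup.mem_inf.mpr ⟨hx2, ?_⟩
    have : A' ≤ Subgroup.centralizer (A' : Set X) := Subgroup.le_centralizer_iff_isMulCommutative.mpr hA'c
    exact this (Subgroup.mem_inf.mp hx1).1
  calc Nat.card U * Nat.card CA = Nat.card ↥(CA ⊔ U) * Nat.card ↥(CA ⊓ U) := by rw [hprod, mul_comm]
    _ = Nat.card ↥(U ⊔ CA) * Nat.card ↥(CA ⊓ U) := by rw [sup_comm]
    _ ≤ Nat.card A' * Nat.card ↥(U ⊓ Subgroup.centralizer (A' : Set X)) := Nat.mul_le_mul hBA hinf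

set_option maxHeartbeats 400000 in
/-- In a solvable group `X` with a normal elementary abelian `2`-subgroup `U` such that `O_2(X/C_X(U)) = 1`, the
image in the holomorph of `U` of an abelian subgroup of largest order of a Sylow `2`-subgroup is a best offender. -/
theorem map_pi_isBestOffender [hsolv : Group.IsSolvable X] (U : Subgroup X) [hUn : U.Normal]
    (hU : Cfsg.IsElementaryAbelian 2 U)
    (hO : Cfsg.pCore 2 (X ⧸ Subgroup.centralizer (U : Set X)) = ⊥) (T' : Sylow 2 X) {A' : Subgroup X}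
    (hA' : A' ∈ AA (T' : Subgroup X)) :
    Cfsg.IsBestOffenderOn 2 (VV U) (A'.map (pi U)) := by
  haveI : Fact (Nat.Prime 2) := ⟨Nat.prime_two⟩
  have hsep : Cfsg.IsPSolvable 2 X := Cfsg.Agent.Helper70.isPSolvable_of_isSolvable 2
  have hS := Cfsg.Agent.Helper1.Hol.ffSetting_range U hsep hU hO
  have hU2 : IsPGroup 2 U := Cfsg.Agent.Lib.isElementaryAbelian_isPGroup hU
  have hA'2 : IsPGroup 2 A' := T'.isPGroup'.to_le hA'.1
  have hA'c : IsMulCommutative A' := hA'.2.1
  have hrsolv : Group.IsSolvable ↥(pi U).range :=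
    solvable_of_surjective (pi U).rangeRestrict_surjective
  apply abelian_offender_isBestOffender (Cfsg.Agent.Helper1.Hol.VV_elemAb U hU) hS hrsolv
  · rintro _ ⟨a, -, rfl⟩
    exact ⟨a, rfl⟩
  · rintro _ ⟨a, ha, rfl⟩ _ ⟨b, hb, rfl⟩
    rw [← map_mul, ← map_mul]
    congr 1
    have := hA'c.is_comm.comm ⟨a, ha⟩ ⟨b, hb⟩
    exact congrArg Subtype.val this
  · exact hA'2.map _
  · rw [Cfsg.Agent.Helper1.Hol.card_VV, Cfsg.Agent.Helper1.Hol.card_VV_inf_centralizer_map]
    have h1 := thompson_offender_ineq U hU.1 hU2 T' hA'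
    have h2 := Cfsg.Agent.Helper1.Hol.card_map_pi_mul U A'
    rw [← h2] at h1
    have hpos : 0 < Nat.card ↥(A' ⊓ Subgroup.centralizer (U : Set X)) := Nat.card_pos
    have h3 : Nat.card U * Nat.card ↥(A' ⊓ Subgroup.centralizer (U : Set X)) ≤
        (Nat.card ↥(A'.map (pi U)) * Nat.card ↥(U ⊓ Subgroup.centralizer (A' : Set X))) *
          Nat.card ↥(A' ⊓ Subgroup.centralizer (U : Set X)) := by
      calc _ ≤ _ := h1
        _ = _ := by ring
    exact Nat.le_of_mul_le_mul_right h3 hpos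

end Cfsg.Agent.Helper11
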