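import Cfsg.Agent.Helper11.FFSolv4

/-!
# Thompson factorization in solvable groups with `F(X) = O_2(X)`, part 5: Frattini argument for `⟨J(T)^X⟩`
(helper11)
-/

set_option autoImplicit false

namespace Cfsg.Agent.Helper11

open scoped commutatorElement
open Cfsg.Agent.Helper51.WC (AA JJ)
open Cfsg.Agent.Helper49.FF (cj mem_cj conj_mem_cj cj_mul cj_one cj_eq_self_of_mem_normalizer cj_mono card_cj
  comm_cj cj_centralizer cj_inf mem_normalizer_of_cj_eq_self)

universe u

variable {X : Type u} [Group X]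

/-- the normal closure of a subgroup lies in the join of its conjugates -/
theorem normalClosure_le_iSup_cj (J : Subgroup X) :
    Subgroup.normalClosure (J : Set X) ≤ ⨆ g : X, cj g J := by
  haveI hn : (⨆ g : X, cj g J).Normal := by
    constructor
    intro n hn h
    have hle : cj h (⨆ g : X, cj g J) ≤ ⨆ g : X, cj g J := by
      show (⨆ g : X, cj g J).map (MulAut.conj h).toMonoidHom ≤ _
      rw [Subgroup.map_iSup]
      apply iSup_le
      intro g
      have : (cj g J).map (MulAut.conj h).toMonoidHom = cj (h * g) J := (cj_mul h g J).symm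
      rw [this]
      exact le_iSup (fun g => cj g J) (h * g)
    exact hle (conj_mem_cj hn)
  apply Subgroup.normalClosure_le_normal
  intro x hx
  apply (le_iSup (fun g => cj g J) 1)
  show x ∈ cj 1 J
  rw [cj_one]
  exact hx

variable [Finite X]

set_option maxHeartbeats 400000 in
/-- **Frattini argument for the Thompson subgroup**: `X = ⟨J(T)^X⟩ N_X(J(T))`. -/
theorem normalClosure_JJ_sup_normalizer_eq_top {p : ℕ} [Fact p.Prime] (T : Sylow p X) :
    Subgroup.normalClosure (JJ (T : Subgroup X) : Set X) ⊔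
      Subgroup.normalizer (JJ (T : Subgroup X) : Set X) = ⊤ := by
  set J := JJ (T : Subgroup X) with hJ
  set Y := Subgroup.normalClosure (J : Set X) with hY
  haveI : Y.Normal := Subgroup.normalClosure_normal
  have hJY : J ≤ Y := Subgroup.le_normalClosure
  have hJ2 : IsPGroup p J := T.isPGroup'.to_le (Cfsg.Agent.Helper51.WC.JJ_le _)
  have hJ2' : IsPGroup p (J.subgroupOf Y) := hJ2.comap_subtype
  obtain ⟨P, hP⟩ := hJ2'.exists_le_sylow
  have hfr := Sylow.normalizer_sup_eq_top P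
  set P' := (P : Subgroup Y).map Y.subtype with hP'
  have hJP' : J ≤ P' := by
    intro x hx
    exact ⟨⟨x, hJY hx⟩, hP (Subgroup.mem_subgroupOf.mpr hx), rfl⟩
  have hP'2 : IsPGroup p P' := P.isPGroup'.map _
  obtain ⟨h, hh⟩ := Cfsg.Agent.Helper51.WC.exists_cj_le_sylow T P' hP'2
  have hP'T : P' ≤ cj h⁻¹ (T : Subgroup X) := by
    intro x hx
    rw [mem_cj, inv_inv]
    exact hh (conj_mem_cj hx)
  have hT''2 : IsPGroup p (cj h⁻¹ (T : Subgroup X)) := T.isPGroup'.map _
  have hAA : ∀ A ∈ AA (T : Subgroup X), A ∈ AA (cj h⁻¹ (T : Subgroup X)) := by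
    intro A hA
    exact ⟨(Cfsg.Agent.Helper51.WC.le_JJ hA).trans (hJP'.trans hP'T), hA.2.1, fun B hB hBc =>
      Cfsg.Agent.Helper51.WC.card_le_of_mem_AA T hA B (hT''2.to_le hB) hBc⟩
  have hJJ : J ≤ JJ (cj h⁻¹ (T : Subgroup X)) := by
    rw [hJ]
    exact sSup_le (fun A hA => Cfsg.Agent.Helper51.WC.le_JJ (hAA A hA))
  have hJJeq : JJ (cj h⁻¹ (T : Subgroup X)) = cj h⁻¹ J := Cfsg.Agent.Helper51.WC.JJ_cj h⁻¹ _
  have hcard : Nat.card ↥(JJ (cj h⁻¹ (T : Subgroup X))) = Nat.card J := by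
    rw [hJJeq, card_cj]
  have heq : J = JJ (cj h⁻¹ (T : Subgroup X)) := Subgroup.eq_of_le_of_card_ge hJJ (le_of_eq hcard)
  have hJP : JJ P' = JJ (cj h⁻¹ (T : Subgroup X)) := by
    apply Cfsg.Agent.Helper1.Jg_eq_of_le Cfsg.Agent.Lib.ZJ.intrinsic_comm _ hP'T
    show JJ (cj h⁻¹ (T : Subgroup X)) ≤ P'
    rw [← heq]
    exact hJP'
  have hN : Subgroup.normalizer (P' : Set X) ≤ Subgroup.normalizer (J : Set X) := by
    have h1 := Cfsg.Agent.Helper51.WC.normalizer_le_normalizer_JJ P'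
    rw [hJP, ← heq] at h1
    exact h1
  rw [eq_top_iff, ← hfr]
  exact sup_le (le_sup_of_le_right hN) le_sup_left

end Cfsg.Agent.Helper11
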