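import Cfsg.Agent.Helper11.FFSolv5
import Cfsg.Agent.Helper11.FFS3

/-!
# Thompson factorization in solvable groups with `F(X) = O_2(X)`, part 6: `⟨J(T)^X⟩` modulo the kernel is a power
of `S₃` (helper11)
-/

set_option autoImplicit false

namespace Cfsg.Agent.Helper11

open scoped commutatorElement
open Cfsg.Agent.Helper51.WC (AA JJ)
open Cfsg.Agent.Helper1.Hol (pi VV HolG)
open Cfsg.Agent.Helper49.FF (cj mem_cj conj_mem_cj cj_mul cj_one cj_eq_self_of_mem_normalizer cj_mono card_cj
  comm_cj cj_centralizer cj_inf mem_normalizer_of_cj_eq_self)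

universe u

/-- conjugation commutes with taking images -/
theorem cj_map_hom {G H : Type*} [Group G] [Group H] (f : G →* H) (g : G) (A : Subgroup G) :
    cj (f g) (A.map f) = (cj g A).map f := by
  show (A.map f).map _ = (A.map _).map f
  rw [Subgroup.map_map, Subgroup.map_map]
  congr 1
  ext x
  simp [map_mul, map_inv]

variable {X : Type u} [Group X] [Finite X]

set_option maxHeartbeats 400000 in
/-- **The image of `⟨J(T)^X⟩` in `X/C_X(U)` is trivial or a power of `S₃`.** -/
theorem normalClosure_JJ_quotient_iso [hsolv : Group.IsSolvable X] (U : Subgroup X) [hUn : U.Normal]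
    (hU : Cfsg.IsElementaryAbelian 2 U)
    (hO : Cfsg.pCore 2 (X ⧸ Subgroup.centralizer (U : Set X)) = ⊥) (T : Sylow 2 X) :
    Subgroup.normalClosure (JJ (T : Subgroup X) : Set X) ≤ Subgroup.centralizer (U : Set X) ∨
    ∃ n : ℕ, 1 ≤ n ∧ Nonempty (↥(Subgroup.normalClosure (JJ (T : Subgroup X) : Set X)) ⧸
      (Subgroup.centralizer (U : Set X)).subgroupOf (Subgroup.normalClosure (JJ (T : Subgroup X) : Set X))
        ≃* (Fin n → Equiv.Perm (Fin 3))) := by
  haveI : Fact (Nat.Prime 2) := ⟨Nat.prime_two⟩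
  set J := JJ (T : Subgroup X) with hJ
  set Y := Subgroup.normalClosure (J : Set X) with hY
  haveI hYn : Y.Normal := Subgroup.normalClosure_normal
  have hJY : J ≤ Y := Subgroup.le_normalClosure
  have hsep : Cfsg.IsPSolvable 2 X := Cfsg.Agent.Helper70.isPSolvable_of_isSolvable 2
  have hS := Cfsg.Agent.Helper1.Hol.ffSetting_range U hsep hU hO
  set H := Y.map (pi U) with hH
  have hHr : H ≤ (pi U).range := by
    rintro _ ⟨a, -, rfl⟩
    exact ⟨a, rfl⟩
  have hcjY : ∀ g : X, cj g Y = Y := fun g =>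
    cj_eq_self_of_mem_normalizer (by rw [Subgroup.normalizer_eq_top]; exact Subgroup.mem_top g)
  have hrH : (pi U).range ≤ Subgroup.normalizer (H : Set (HolG U)) := by
    rintro _ ⟨g, rfl⟩
    apply mem_normalizer_of_cj_eq_self
    rw [hH, cj_map_hom, hcjY]
  have hrsolv : Group.IsSolvable ↥(pi U).range :=
    Group.isSolvable_of_surjective (pi U).rangeRestrict_surjective
  have hsolvH : Group.IsSolvable ↥H :=
    solvable_of_solvable_injective (Subgroup.inclusion_injective hHr)
  have hS1 := S1_of_ffSetting hS hHr hrH hsolvH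
  have hHV : H ≤ Subgroup.normalizer (VV U : Set (HolG U)) :=
    Cfsg.Agent.Helper1.Hol.map_le_normalizer U Y
  have hf : H ⊓ Subgroup.centralizer (VV U : Set (HolG U)) = ⊥ := by
    rw [eq_bot_iff, ← Cfsg.Agent.Helper1.Hol.range_inf_centralizer U]
    exact inf_le_inf_right _ hHr
  have hS3 : H = ⨆ A : {A : Subgroup (HolG U) // A ≤ H ∧ Cfsg.IsBestOffenderOn 2 (VV U) A},
      (A : Subgroup (HolG U)) := by
    apply le_antisymm _ (iSup_le fun A => A.2.1)
    rw [hH, Subgroup.map_le_iff_le_comap]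
    refine (normalClosure_le_iSup_cj J).trans (iSup_le fun g => ?_)
    have hT' : ((g • T : Sylow 2 X) : Subgroup X) = cj g (T : Subgroup X) := by
      rw [Sylow.coe_subgroup_smul, Cfsg.Agent.Helper71.smul_eq_cj]
    have h1 : cj g J = JJ ((g • T : Sylow 2 X) : Subgroup X) := by
      rw [hT', hJ]
      exact (Cfsg.Agent.Helper51.WC.JJ_cj g _).symm
    rw [h1]
    apply sSup_le
    intro A' hA'
    rw [← Subgroup.map_le_iff_le_comap]
    have hA'Y : A' ≤ Y := by
      refine (Cfsg.Agent.Helper51.WC.le_JJ hA').trans ?_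
      rw [← h1, ← hcjY g]
      exact cj_mono g hJY
    exact le_iSup (fun A : {A : Subgroup (HolG U) // A ≤ H ∧ Cfsg.IsBestOffenderOn 2 (VV U) A} =>
      (A : Subgroup (HolG U))) ⟨A'.map (pi U), Subgroup.map_mono hA'Y,
        map_pi_isBestOffender U hU hO (g • T) hA'⟩
  by_cases hH1 : H = ⊥
  · left
    rw [← Cfsg.Agent.Helper1.Hol.ker_pi]
    intro y hy
    rw [MonoidHom.mem_ker]
    have : pi U y ∈ H := ⟨y, hy, rfl⟩
    rw [hH1] at this
    exact Subgroup.mem_bot.mp this
  · right
    obtain ⟨n, hn, ⟨e⟩⟩ := ff_iso_pi_perm (VV U) H (Cfsg.Agent.Helper1.Hol.VV_elemAb U hU) hHV hf hS1 hS3 hH1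
    refine ⟨n, hn, ⟨?_⟩⟩
    have hker : (Subgroup.centralizer (U : Set X)).subgroupOf Y = ((pi U).comp Y.subtype).ker := by
      rw [← Cfsg.Agent.Helper1.Hol.ker_pi]
      rfl
    have hrange : ((pi U).comp Y.subtype).range = H := by
      rw [MonoidHom.range_comp, Subgroup.range_subtype]
    exact ((QuotientGroup.quotientMulEquivOfEq hker).trans
      (QuotientGroup.quotientKerEquivRange ((pi U).comp Y.subtype))).trans
      ((MulEquiv.subgroupCongr hrange).trans e)

end Cfsg.Agent.Helper11
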