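import Cfsg.Agent.Helper38.FP.Defs

/-!
# S2276 piece (PM) for helper38: a permutation mapping one disjoint family of finsets onto another.
-/

set_option autoImplicit false

namespace Cfsg.Agent.Helper11.FP

open Equiv Cfsg.Agent.Helper38.FP

variable {α : Type} [Fintype α] [DecidableEq α] {p : ℕ}

open Classical in
/-- colour of a point: the index `j < k` with `a ∈ D j`, or `k` if there is none. -/
noncomputable def pmCol (k : ℕ) (D : ℕ → Finset α) (a : α) : ℕ :=
  if h : ∃ j, j < k ∧ a ∈ D j then Nat.find h else k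

theorem pmCol_le (k : ℕ) (D : ℕ → Finset α) (a : α) : pmCol k D a ≤ k := by
  classical
  unfold pmCol
  split_ifs with h
  · exact (Nat.find_spec h).1.le
  · exact le_rfl

theorem pmCol_eq_iff (k : ℕ) (D : ℕ → Finset α)
    (hD : ∀ i < k, ∀ j < k, i ≠ j → Disjoint (D i) (D j)) (a : α) (j : ℕ) (hj : j < k) :
    pmCol k D a = j ↔ a ∈ D j := by
  classical
  unfold pmCol
  constructor
  · intro h
    split_ifs at h with hex
    · have := Nat.find_spec hex
      rw [h] at this
      exact this.2
    · omega
  · intro ha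
    have hex : ∃ j, j < k ∧ a ∈ D j := ⟨j, hj, ha⟩
    rw [dif_pos hex]
    have hs := Nat.find_spec hex
    by_contra hne
    have := hD _ hs.1 j hj hne
    exact (Finset.disjoint_left.mp this hs.2) ha

theorem pmCol_card_filter (k : ℕ) (D : ℕ → Finset α)
    (hD : ∀ i < k, ∀ j < k, i ≠ j → Disjoint (D i) (D j)) (j : ℕ) (hj : j < k) :
    (Finset.univ.filter (fun a => pmCol k D a = j)).card = (D j).card := by
  congr 1
  ext a
  simp [pmCol_eq_iff k D hD a j hj]

theorem pmCol_card_last (k : ℕ) (D : ℕ → Finset α)
    (hD : ∀ i < k, ∀ j < k, i ≠ j → Disjoint (D i) (D j)) :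
    (Finset.univ.filter (fun a => pmCol k D a = k)).card
      = Fintype.card α - ∑ j ∈ Finset.range k, (D j).card := by
  have h := Finset.card_eq_sum_card_fiberwise (f := pmCol k D) (s := (Finset.univ : Finset α))
    (t := Finset.range (k + 1))
    (fun a _ => Finset.mem_range.mpr (Nat.lt_succ_of_le (pmCol_le k D a)))
  rw [Finset.sum_range_succ, Finset.card_univ] at h
  have h2 : ∑ j ∈ Finset.range k, (Finset.univ.filter (fun a => pmCol k D a = j)).card
      = ∑ j ∈ Finset.range k, (D j).card :=
    Finset.sum_congr rfl (fun j hj => pmCol_card_filter k D hD j (Finset.mem_range.mp hj))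
  rw [h2] at h
  omega

/-- (PM) a permutation mapping `D j` onto `E j`. -/
theorem exists_perm_mapping (k : ℕ) (D E : ℕ → Finset α)
    (hD : ∀ i < k, ∀ j < k, i ≠ j → Disjoint (D i) (D j))
    (hE : ∀ i < k, ∀ j < k, i ≠ j → Disjoint (E i) (E j))
    (hcard : ∀ j < k, (D j).card = (E j).card) :
    ∃ g : Perm α, ∀ j < k, ∀ a, g a ∈ E j ↔ a ∈ D j := by
  classical
  have hfib : ∀ c : ℕ, Fintype.card {a : α // pmCol k D a = c}
      = Fintype.card {b : α // pmCol k E b = c} := by
    intro c
    rw [Fintype.card_subtype, Fintype.card_subtype]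
    rcases lt_trichotomy c k with hc | hc | hc
    · rw [pmCol_card_filter k D hD c hc, pmCol_card_filter k E hE c hc, hcard c hc]
    · subst hc
      rw [pmCol_card_last c D hD, pmCol_card_last c E hE]
      congr 1
      exact Finset.sum_congr rfl (fun j hj => hcard j (Finset.mem_range.mp hj))
    · have h1 : Finset.univ.filter (fun a => pmCol k D a = c) = ∅ := by
        rw [Finset.filter_eq_empty_iff]
        intro a _ h
        have := pmCol_le k D a
        omega
      have h2 : Finset.univ.filter (fun a => pmCol k E a = c) = ∅ := by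
        rw [Finset.filter_eq_empty_iff]
        intro a _ h
        have := pmCol_le k E a
        omega
      rw [h1, h2]
  let e : ∀ c : ℕ, {a : α // pmCol k D a = c} ≃ {b : α // pmCol k E b = c} :=
    fun c => Fintype.equivOfCardEq (hfib c)
  refine ⟨Equiv.ofFiberEquiv e, ?_⟩
  intro j hj a
  have hmap : pmCol k E (Equiv.ofFiberEquiv e a) = pmCol k D a := Equiv.ofFiberEquiv_map e a
  rw [← pmCol_eq_iff k E hE _ j hj, hmap, pmCol_eq_iff k D hD a j hj]

end Cfsg.Agent.Helper11.FP
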