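import Cfsg.Agent.Helper38.FP.Defs

/-!
# S2276 piece (SY) for helper38: Sylow + sign trick.
-/

set_option autoImplicit false

namespace Cfsg.Agent.Helper11.FP

open Equiv Cfsg.Agent.Helper38.FP

variable {p : ℕ}

/-- an element of a Sylow `p`-subgroup is a `p`-element -/
theorem sy_isPEl_of_mem {G : Type*} [Group G] [Fact p.Prime] (P : Sylow p G) {x : G}
    (hx : x ∈ P) : IsPEl p x := by
  obtain ⟨k, hk⟩ := P.isPGroup' ⟨x, hx⟩
  have h1 : x ^ p ^ k = 1 := by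
    have := congrArg Subtype.val hk
    simpa using this
  obtain ⟨j, _, hj⟩ := (Nat.dvd_prime_pow Fact.out).mp (orderOf_dvd_of_pow_eq_one h1)
  exact ⟨j, hj⟩

theorem sy_mem_smul_iff {G : Type*} [Group G] (P : Sylow p G) (g y : G) :
    y ∈ g • P ↔ g⁻¹ * y * g ∈ P := by
  change y ∈ ((g • P : Sylow p G) : Subgroup G) ↔ g⁻¹ * y * g ∈ (P : Subgroup G)
  rw [Sylow.coe_subgroup_smul, Subgroup.mem_pointwise_smul_iff_inv_smul_mem]
  simp [MulAut.smul_def, mul_assoc]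

/-- every `p`-element is conjugate into a given Sylow `p`-subgroup -/
theorem sy_exists_conj_mem {G : Type*} [Group G] [Finite G] [Fact p.Prime] (P : Sylow p G) {x : G}
    (hx : IsPEl p x) : ∃ g : G, g * x * g⁻¹ ∈ P := by
  obtain ⟨k, hk⟩ := hx
  have hpg : IsPGroup p (Subgroup.zpowers x) := by
    apply IsPGroup.of_card (n := k)
    rw [Nat.card_zpowers, hk]
  obtain ⟨Q, hQ⟩ := hpg.exists_le_sylow
  obtain ⟨g, hg⟩ := MulAction.exists_smul_eq G Q P
  refine ⟨g, ?_⟩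
  have hxQ : x ∈ Q := hQ (Subgroup.mem_zpowers x)
  have : g * x * g⁻¹ ∈ g • Q := by
    rw [sy_mem_smul_iff]
    have : g⁻¹ * (g * x * g⁻¹) * g = x := by group
    rw [this]; exact hxQ
  rwa [hg] at this

theorem sy_sq_ne_one {G : Type*} [Group G] [Fact p.Prime] (hp2 : p ≠ 2) {t : G} (ht : IsPEl p t)
    (ht1 : t ≠ 1) : t⁻¹ * t⁻¹ ≠ 1 := by
  intro h
  apply ht1
  obtain ⟨k, hk⟩ := ht
  have h2 : t ^ 2 = 1 := by
    have : (t⁻¹ * t⁻¹)⁻¹ = t ^ 2 := by rw [sq, mul_inv_rev, inv_inv]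
    rw [← this, h, inv_one]
  have hd : p ^ k ∣ 2 := hk ▸ orderOf_dvd_of_pow_eq_one h2
  have hp : p.Prime := Fact.out
  rcases Nat.eq_zero_or_pos k with h0 | hpos
  · rw [h0, pow_zero] at hk
    exact orderOf_eq_one_iff.mp hk
  · exfalso
    have hp_dvd : p ∣ 2 := dvd_trans (dvd_pow_self p (by omega)) hd
    have := (Nat.prime_dvd_prime_iff_eq hp Nat.prime_two).mp hp_dvd
    exact hp2 this

/-- the induction behind (SY): all inside one Sylow subgroup. -/
theorem sy_aux {β : Type} [Fintype β] [DecidableEq β] [Fact p.Prime] (hp2 : p ≠ 2)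
    (P : Sylow p (Perm β)) (z : Perm β) (hz1 : z ≠ 1) (hzP : z ∈ P) (m : ℕ) :
    ∀ v : ℕ → Perm β, (∀ j < m, IsPEl p (v j)) →
      ∃ y : ℕ → Perm β, z * prodDesc (fun j => y j * v j * (y j)⁻¹) m ∈ P ∧
        z * prodDesc (fun j => y j * v j * (y j)⁻¹) m ≠ 1 := by
  induction m with
  | zero =>
    intro v _
    refine ⟨fun _ => 1, ?_, ?_⟩
    · rw [prodDesc_zero, mul_one]; exact hzP
    · rw [prodDesc_zero, mul_one]; exact hz1
  | succ m ih =>
    intro v hv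
    obtain ⟨y', hy'P, hy'1⟩ := ih (fun j => v (j + 1)) (fun j hj => hv (j + 1) (by omega))
    obtain ⟨y0, hy0⟩ := sy_exists_conj_mem P (hv 0 (by omega))
    set X' := z * prodDesc (fun j => y' j * v (j + 1) * (y' j)⁻¹) m with hX'
    set t := y0 * v 0 * y0⁻¹ with ht
    by_cases hXt : X' * t = 1
    · -- use a conjugator of `v 0` onto `t⁻¹`
      have htX : t = X'⁻¹ := eq_inv_of_mul_eq_one_right hXt
      have ht1 : t ≠ 1 := by
        intro h
        rw [h, mul_one] at hXt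
        exact hy'1 hXt
      have htp : IsPEl p t := sy_isPEl_of_mem P hy0
      -- `v 0` and `(v 0)⁻¹` are conjugate
      have hconj : IsConj (v 0) (v 0)⁻¹ := by
        rw [Perm.isConj_iff_cycleType_eq, Perm.cycleType_inv]
      obtain ⟨s, hs⟩ := isConj_iff.mp hconj
      -- `s * v 0 * s⁻¹ = (v 0)⁻¹`
      have ht_inv : (y0 * s) * v 0 * (y0 * s)⁻¹ = t⁻¹ := by
        have : (y0 * s) * v 0 * (y0 * s)⁻¹ = y0 * (s * v 0 * s⁻¹) * y0⁻¹ := by group
        rw [this, hs, ht]; group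
      refine ⟨fun j => Nat.casesOn j (y0 * s) y', ?_, ?_⟩
      · rw [prodDesc_succ', ← mul_assoc]
        show X' * ((y0 * s) * v 0 * (y0 * s)⁻¹) ∈ P
        rw [ht_inv]
        exact P.mul_mem hy'P (P.inv_mem hy0)
      · rw [prodDesc_succ', ← mul_assoc]
        show X' * ((y0 * s) * v 0 * (y0 * s)⁻¹) ≠ 1
        rw [ht_inv]
        have hX'eq : X' = t⁻¹ := by rw [htX, inv_inv]
        rw [hX'eq]
        exact sy_sq_ne_one hp2 htp ht1
    · refine ⟨fun j => Nat.casesOn j y0 y', ?_, ?_⟩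
      · rw [prodDesc_succ', ← mul_assoc]
        show X' * t ∈ P
        exact P.mul_mem hy'P hy0
      · rw [prodDesc_succ', ← mul_assoc]
        exact hXt

/-- (SY) Sylow + sign trick. -/
theorem exists_conj_prod {β : Type} [Fintype β] [DecidableEq β] [Fact p.Prime] (hp2 : p ≠ 2)
    (z : Perm β) (hz1 : z ≠ 1) (hz : IsPEl p z) (v : ℕ → Perm β) (m : ℕ)
    (hv : ∀ j < m, IsPEl p (v j)) :
    ∃ y : ℕ → Perm β, IsPEl p (z * prodDesc (fun j => y j * v j * (y j)⁻¹) m) ∧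
      z * prodDesc (fun j => y j * v j * (y j)⁻¹) m ≠ 1 := by
  obtain ⟨k, hk⟩ := hz
  have hpg : IsPGroup p (Subgroup.zpowers z) := by
    apply IsPGroup.of_card (n := k)
    rw [Nat.card_zpowers, hk]
  obtain ⟨P, hP⟩ := hpg.exists_le_sylow
  have hzP : z ∈ P := hP (Subgroup.mem_zpowers z)
  obtain ⟨y, hyP, hy1⟩ := sy_aux hp2 P z hz1 hzP m v hv
  exact ⟨y, sy_isPEl_of_mem P hyP, hy1⟩

end Cfsg.Agent.Helper11.FP
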