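import Cfsg.Agent.Helper61.HallDefs
import Cfsg.Agent.Helper68.HallT1

/-!
# Piece (T7) of M. Hall's theorem (S4221, helper61): structure of `C(u)` in the odd case

`odd_cen_structure` (with the extra hypothesis `6 ≤ card Ω`, needed: false for `S5` on 5 points)
and `cen_stab4_fixes`.
-/

set_option autoImplicit false

namespace Cfsg.Agent.Helper11.HallT7

open MulAction Cfsg.Agent.Helper61.Hall

variable {G : Type*} [Group G] {Ω : Type*} [MulAction G Ω]

/-- Orbit-stabilizer for a subgroup, with the stabilizer taken inside `G`. -/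
theorem card_subgroup_eq (L : Subgroup G) (a : Ω) :
    Nat.card L = Nat.card (orbit L a) * Nat.card (L ⊓ stabilizer G a : Subgroup G) := by
  have h1 : Nat.card (orbit L a × stabilizer L a) = Nat.card L :=
    Nat.card_congr (orbitProdStabilizerEquivGroup L a)
  rw [Nat.card_prod] at h1
  have h2 : stabilizer L a = (L ⊓ stabilizer G a).subgroupOf L := by
    ext g
    simp [Subgroup.mem_subgroupOf, mem_stabilizer_iff, Subgroup.smul_def]
  have h3 : Nat.card (stabilizer L a) = Nat.card (L ⊓ stabilizer G a : Subgroup G) := by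
    rw [h2]
    exact Nat.card_congr (Subgroup.subgroupOfEquivOfLe inf_le_left).toEquiv
  rw [← h1, h3]

theorem mem_orbit_subgroup {L : Subgroup G} {a b : Ω} :
    b ∈ orbit L a ↔ ∃ g ∈ L, g • a = b := by
  constructor
  · rintro ⟨g, rfl⟩
    exact ⟨g.1, g.2, rfl⟩
  · rintro ⟨g, hg, rfl⟩
    exact ⟨⟨g, hg⟩, rfl⟩

theorem smul_eq_of_inv_smul {g : G} {a b : Ω} (h : g • a = b) : g⁻¹ • b = a := by
  rw [← h, inv_smul_smul]

/-- Elements of `C(u)` permute the fixed points of `u`. -/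
theorem fix_of_comm {u g : G} (hg : g * u = u * g) {q : Ω} (hq : u • q = q) :
    u • (g • q) = g • q := by
  rw [← mul_smul, ← hg, mul_smul, hq]

theorem fix_of_comm' {u g : G} (hg : g * u = u * g) {q : Ω} (hq : u • (g • q) = g • q) :
    u • q = q := by
  have h1 : g • (u • q) = g • q := by rw [← mul_smul, hg, mul_smul, hq]
  exact smul_left_cancel g h1

theorem odd_cen_structure [Fintype Ω] [Finite G] [FaithfulSMul G Ω]
    (h4 : IsMultiplyPretransitive G Ω 4)
    (hodd : OddStab4 G Ω) {k : ℕ} (hk : CenConst G Ω k) (hn : 6 ≤ Fintype.card Ω)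
    {u : G} {d1 d2 e1 e2 x : Ω}
    (hd12 : d1 ≠ d2) (hd1e1 : d1 ≠ e1) (hd1e2 : d1 ≠ e2) (hd1x : d1 ≠ x) (hd2e1 : d2 ≠ e1)
    (hd2e2 : d2 ≠ e2) (hd2x : d2 ≠ x) (he12 : e1 ≠ e2) (he1x : e1 ≠ x) (he2x : e2 ≠ x)
    (hu : u * u = 1) (ud1 : u • d1 = d2) (_ud2 : u • d2 = d1)
    (hfix : ∀ q, u • q = q ↔ q = e1 ∨ q = e2 ∨ q = x) :
    (stab4 G d1 d2 e1 e2 ⊓ Subgroup.centralizer {u} ≤ stabilizer G x) ∧
    Nat.card (Subgroup.centralizer {u} ⊓ stabilizer G d1 : Subgroup G) =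
      (Fintype.card Ω - 5) * k ∧
    Nat.card (Subgroup.centralizer {u} ⊓ stabilizer G d1 : Subgroup G) ≤
      6 * Nat.card (stab4 G d1 d2 e1 e2 ⊓ Subgroup.centralizer {u} : Subgroup G) ∧
    (∀ q : Ω, q ≠ d1 → q ≠ d2 → q ≠ e1 → q ≠ e2 → q ≠ x →
      (stab4 G d1 d2 e1 e2 ⊓ Subgroup.centralizer {u} ≤ stabilizer G q) →
      stab4 G d1 d2 e1 e2 ⊓ Subgroup.centralizer {u} = ⊥) := by
  classical
  -- basic facts
  have fe1 : u • e1 = e1 := (hfix e1).2 (Or.inl rfl)
  have fe2 : u • e2 = e2 := (hfix e2).2 (Or.inr (Or.inl rfl))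
  have fx : u • x = x := (hfix x).2 (Or.inr (Or.inr rfl))
  set A : Subgroup G := stab4 G d1 d2 e1 e2 ⊓ Subgroup.centralizer {u} with hA
  set L : Subgroup G := Subgroup.centralizer {u} ⊓ stabilizer G d1 with hL
  have memL : ∀ {g : G}, g ∈ L ↔ g * u = u * g ∧ g • d1 = d1 := by
    intro g
    rw [hL, Subgroup.mem_inf, mem_cen, mem_stabilizer_iff]
  have memA : ∀ {g : G}, g ∈ A ↔
      (g • d1 = d1 ∧ g • d2 = d2 ∧ g • e1 = e1 ∧ g • e2 = e2) ∧ g * u = u * g := by
    intro g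
    rw [hA, Subgroup.mem_inf, mem_cen, mem_stab4]
  -- (1) A fixes x
  have hAx : ∀ g ∈ A, g • x = x := by
    intro g hg
    obtain ⟨⟨-, -, g3, g4⟩, gc⟩ := memA.1 hg
    rcases (hfix (g • x)).1 (fix_of_comm gc fx) with h | h | h
    · exact absurd (smul_left_cancel g (h.trans g3.symm)) (Ne.symm he1x)
    · exact absurd (smul_left_cancel g (h.trans g4.symm)) (Ne.symm he2x)
    · exact h
  -- L fixes d2
  have hLd2 : ∀ g ∈ L, g • d2 = d2 := by
    intro g hg
    obtain ⟨gc, g1⟩ := memL.1 hg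
    rw [← ud1, ← mul_smul, gc, mul_smul, g1]
  have hAL : A ≤ L := by
    intro g hg
    obtain ⟨⟨g1, -, -, -⟩, gc⟩ := memA.1 hg
    exact memL.2 ⟨gc, g1⟩
  -- the set Y'
  have hY : ∀ q : Ω, q ≠ d1 → q ≠ d2 → q ≠ e1 → q ≠ e2 → q ≠ x →
      ∀ q' : Ω, q' ∈ orbit L q ↔ (q' ≠ d1 ∧ q' ≠ d2 ∧ q' ≠ e1 ∧ q' ≠ e2 ∧ q' ≠ x) := by
    intro q q1 q2 q3 q4 q5 q'
    have uq : u • q ≠ q := fun h => by
      rcases (hfix q).1 h with h | h | h
      exacts [q3 h, q4 h, q5 h]
    rw [mem_orbit_subgroup]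
    constructor
    · rintro ⟨g, hg, rfl⟩
      obtain ⟨gc, g1⟩ := memL.1 hg
      have g2 := hLd2 g hg
      have hnf : ¬ u • (g • q) = g • q := fun h => uq (fix_of_comm' gc h)
      refine ⟨fun h => q1 (smul_left_cancel g (h.trans g1.symm)),
        fun h => q2 (smul_left_cancel g (h.trans g2.symm)), ?_, ?_, ?_⟩
      · intro h; exact hnf ((hfix _).2 (Or.inl h))
      · intro h; exact hnf ((hfix _).2 (Or.inr (Or.inl h)))
      · intro h; exact hnf ((hfix _).2 (Or.inr (Or.inr h)))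
    · rintro ⟨p1, p2, p3, p4, p5⟩
      have uq' : u • q' ≠ q' := fun h => by
        rcases (hfix q').1 h with h | h | h
        exacts [p3 h, p4 h, p5 h]
      have ud1' : u • d1 ≠ d1 := by rw [ud1]; exact Ne.symm hd12
      obtain ⟨g, hgu, hg1, hgq⟩ := Cfsg.Agent.Helper68.HallT.exists_conj h4 hodd hu hu (a := d1) (c := q) (a' := d1)
        (c' := q') ud1' uq q1 (by rw [ud1]; exact q2) ud1' uq' p1 (by rw [ud1]; exact p2)
      refine ⟨g, memL.2 ⟨?_, hg1⟩, hgq⟩
      calc g * u = g * u * g⁻¹ * g := by group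
        _ = u * g := by rw [hgu]
  -- stabilizer in L of a point of Y'
  have hstab : ∀ q : Ω, q ≠ d1 → q ≠ d2 → q ≠ e1 → q ≠ e2 → q ≠ x →
      Nat.card (L ⊓ stabilizer G q : Subgroup G) = k := by
    intro q q1 q2 q3 q4 q5
    have uq : u • q ≠ q := fun h => by
      rcases (hfix q).1 h with h | h | h
      exacts [q3 h, q4 h, q5 h]
    have ud1' : u • d1 ≠ d1 := by rw [ud1]; exact Ne.symm hd12
    have := hk u d1 q hu ud1' uq q1 (by rw [ud1]; exact q2)
    have hEq : (L ⊓ stabilizer G q : Subgroup G) =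
        Subgroup.centralizer {u} ⊓ stab4 G d1 (u • d1) q (u • q) := by
      ext g
      rw [Subgroup.mem_inf, memL, mem_stabilizer_iff, Subgroup.mem_inf, mem_cen, mem_stab4]
      constructor
      · rintro ⟨⟨gc, g1⟩, gq⟩
        refine ⟨gc, g1, ?_, gq, ?_⟩
        · rw [← mul_smul, gc, mul_smul, g1]
        · rw [← mul_smul, gc, mul_smul, gq]
      · rintro ⟨gc, g1, -, gq, -⟩
        exact ⟨⟨gc, g1⟩, gq⟩
    rw [hEq]
    exact this
  have h5 : ({d1, d2, e1, e2, x} : Finset Ω).card = 5 := by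
    rw [Finset.card_insert_of_notMem, Finset.card_insert_of_notMem,
      Finset.card_insert_of_notMem, Finset.card_insert_of_notMem, Finset.card_singleton]
    · simpa using he2x
    · simp [he12, he1x]
    · simp [hd2e1, hd2e2, hd2x]
    · simp [hd12, hd1e1, hd1e2, hd1x]
  have horb : ∀ q : Ω, q ≠ d1 → q ≠ d2 → q ≠ e1 → q ≠ e2 → q ≠ x →
      Nat.card (orbit L q) = Fintype.card Ω - 5 := by
    intro q q1 q2 q3 q4 q5
    have hset : orbit L q = ((({d1, d2, e1, e2, x} : Finset Ω)ᶜ : Finset Ω) : Set Ω) := by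
      ext q'
      rw [hY q q1 q2 q3 q4 q5 q']
      simp only [Finset.coe_compl, Finset.coe_insert, Finset.coe_singleton, Set.mem_compl_iff,
        Set.mem_insert_iff, Set.mem_singleton_iff, not_or, ne_eq]
    rw [hset, Nat.card_coe_set_eq, Set.ncard_coe_finset, Finset.card_compl, h5]
  -- existence of a point of Y'
  have hex : ∃ q : Ω, q ≠ d1 ∧ q ≠ d2 ∧ q ≠ e1 ∧ q ≠ e2 ∧ q ≠ x := by
    have hlt : ({d1, d2, e1, e2, x} : Finset Ω).card < Fintype.card Ω := by rw [h5]; omega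
    obtain ⟨q, hq⟩ : ∃ q, q ∉ ({d1, d2, e1, e2, x} : Finset Ω) := by
      by_contra hcon
      have hcon' : ∀ q, q ∈ ({d1, d2, e1, e2, x} : Finset Ω) := fun q => by
        by_contra hq
        exact hcon ⟨q, hq⟩
      have : ({d1, d2, e1, e2, x} : Finset Ω) = Finset.univ := Finset.eq_univ_iff_forall.2 hcon'
      rw [this, Finset.card_univ] at hlt
      exact lt_irrefl _ hlt
    refine ⟨q, ?_⟩
    simpa using hq
  refine ⟨fun g hg => mem_stabilizer_iff.2 (hAx g hg), ?_, ?_, ?_⟩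
  · obtain ⟨q, q1, q2, q3, q4, q5⟩ := hex
    rw [card_subgroup_eq L q, horb q q1 q2 q3 q4 q5, hstab q q1 q2 q3 q4 q5]
  · -- |L| ≤ 6 |A|
    set L1 : Subgroup G := L ⊓ stabilizer G e1 with hL1
    have hA' : L1 ⊓ stabilizer G e2 = A := by
      ext g
      rw [Subgroup.mem_inf, hL1, Subgroup.mem_inf, memL, memA, mem_stabilizer_iff,
        mem_stabilizer_iff]
      constructor
      · rintro ⟨⟨⟨gc, g1⟩, g3⟩, g4⟩
        exact ⟨⟨g1, hLd2 g (memL.2 ⟨gc, g1⟩), g3, g4⟩, gc⟩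
      · rintro ⟨⟨g1, -, g3, g4⟩, gc⟩
        exact ⟨⟨⟨gc, g1⟩, g3⟩, g4⟩
    have ho1 : Nat.card (orbit L e1) ≤ 3 := by
      have hsub : orbit L e1 ⊆ (({e1, e2, x} : Finset Ω) : Set Ω) := by
        intro q hq
        rw [mem_orbit_subgroup] at hq
        obtain ⟨g, hg, rfl⟩ := hq
        obtain ⟨gc, -⟩ := memL.1 hg
        have := (hfix _).1 (fix_of_comm gc fe1)
        simpa using this
      calc Nat.card (orbit L e1) = (orbit L e1).ncard := Nat.card_coe_set_eq _
        _ ≤ ((({e1, e2, x} : Finset Ω)) : Set Ω).ncard :=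
            Set.ncard_le_ncard hsub (Finset.finite_toSet _)
        _ = ({e1, e2, x} : Finset Ω).card := Set.ncard_coe_finset _
        _ ≤ 3 := Finset.card_le_three
    have ho2 : Nat.card (orbit L1 e2) ≤ 2 := by
      have hsub : orbit L1 e2 ⊆ (({e2, x} : Finset Ω) : Set Ω) := by
        intro q hq
        rw [mem_orbit_subgroup] at hq
        obtain ⟨g, hg, rfl⟩ := hq
        rw [hL1, Subgroup.mem_inf, mem_stabilizer_iff] at hg
        obtain ⟨hgL, g3⟩ := hg
        obtain ⟨gc, -⟩ := memL.1 hgL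
        rcases (hfix _).1 (fix_of_comm gc fe2) with h | h | h
        · exact absurd (smul_left_cancel g (h.trans g3.symm)) (Ne.symm he12)
        · simp [h]
        · simp [h]
      calc Nat.card (orbit L1 e2) = (orbit L1 e2).ncard := Nat.card_coe_set_eq _
        _ ≤ ((({e2, x} : Finset Ω)) : Set Ω).ncard :=
            Set.ncard_le_ncard hsub (Finset.finite_toSet _)
        _ = ({e2, x} : Finset Ω).card := Set.ncard_coe_finset _
        _ ≤ 2 := Finset.card_le_two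
    have e1' := card_subgroup_eq L e1
    have e2' := card_subgroup_eq L1 e2
    rw [hA'] at e2'
    rw [← hL1] at e1'
    rw [e1', e2']
    calc Nat.card (orbit L e1) * (Nat.card (orbit L1 e2) * Nat.card A)
        ≤ 3 * (2 * Nat.card A) := Nat.mul_le_mul ho1 (Nat.mul_le_mul_right _ ho2)
      _ = 6 * Nat.card A := by ring
  · -- (4)
    intro q q1 q2 q3 q4 q5 hAq
    -- A is normalized by L
    have hnorm : ∀ l ∈ L, ∀ a ∈ A, l⁻¹ * a * l ∈ A := by
      intro l hl a ha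
      obtain ⟨lc, l1⟩ := memL.1 hl
      have l2 := hLd2 l hl
      obtain ⟨⟨a1, a2, a3, a4⟩, ac⟩ := memA.1 ha
      have afix : ∀ p : Ω, u • p = p → a • p = p := by
        intro p hp
        rcases (hfix p).1 hp with h | h | h
        · rw [h]; exact a3
        · rw [h]; exact a4
        · rw [h]; exact hAx a ha
      refine memA.2 ⟨⟨?_, ?_, ?_, ?_⟩, ?_⟩
      · rw [mul_smul, mul_smul, l1, a1]; exact smul_eq_of_inv_smul l1
      · rw [mul_smul, mul_smul, l2, a2]; exact smul_eq_of_inv_smul l2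
      · rw [mul_smul, mul_smul, afix _ (fix_of_comm lc fe1), inv_smul_smul]
      · rw [mul_smul, mul_smul, afix _ (fix_of_comm lc fe2), inv_smul_smul]
      · have lc' : l⁻¹ * u = u * l⁻¹ := by
          calc l⁻¹ * u = l⁻¹ * (u * l) * l⁻¹ := by group
            _ = l⁻¹ * (l * u) * l⁻¹ := by rw [lc]
            _ = u * l⁻¹ := by group
        calc l⁻¹ * a * l * u = l⁻¹ * a * (l * u) := by group
          _ = l⁻¹ * a * (u * l) := by rw [lc]
          _ = l⁻¹ * (a * u) * l := by group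
          _ = l⁻¹ * (u * a) * l := by rw [ac]
          _ = (l⁻¹ * u) * a * l := by group
          _ = (u * l⁻¹) * a * l := by rw [lc']
          _ = u * (l⁻¹ * a * l) := by group
    rw [eq_bot_iff]
    intro a ha
    rw [Subgroup.mem_bot]
    apply FaithfulSMul.eq_of_smul_eq_smul (α := Ω)
    intro p
    rw [one_smul]
    obtain ⟨⟨a1, a2, a3, a4⟩, ac⟩ := memA.1 ha
    by_cases hp : p ≠ d1 ∧ p ≠ d2 ∧ p ≠ e1 ∧ p ≠ e2 ∧ p ≠ x
    · obtain ⟨l, hl, rfl⟩ := mem_orbit_subgroup.1 ((hY q q1 q2 q3 q4 q5 p).2 hp)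
      have := mem_stabilizer_iff.1 (hAq (hnorm l hl a ha))
      rw [mul_smul, mul_smul] at this
      have h2 := congrArg (fun z => l • z) this
      simpa using h2
    · have : p = d1 ∨ p = d2 ∨ p = e1 ∨ p = e2 ∨ p = x := by
        by_contra hcon
        apply hp
        refine ⟨fun h => hcon (Or.inl h), fun h => hcon (Or.inr (Or.inl h)),
          fun h => hcon (Or.inr (Or.inr (Or.inl h))),
          fun h => hcon (Or.inr (Or.inr (Or.inr (Or.inl h)))),
          fun h => hcon (Or.inr (Or.inr (Or.inr (Or.inr h))))⟩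
      rcases this with h | h | h | h | h
      · rw [h]; exact a1
      · rw [h]; exact a2
      · rw [h]; exact a3
      · rw [h]; exact a4
      · rw [h]; exact hAx a ha

theorem cen_stab4_fixes (h4 : IsMultiplyPretransitive G Ω 4) (hodd : OddStab4 G Ω)
    {t : G} {p1 p3 : Ω} (ht : t * t = 1) (tp1 : t • p1 ≠ p1) (tp3 : t • p3 ≠ p3)
    (h31 : p3 ≠ p1) (h3t1 : p3 ≠ t • p1)
    (hT : ∀ g ∈ (Subgroup.centralizer {t} ⊓ stab4 G p1 (t • p1) p3 (t • p3) : Subgroup G),
      ∀ q : Ω, t • q = q → g • q = q)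
    {u : G} {a c : Ω} (hu : u * u = 1) (ua : u • a ≠ a) (uc : u • c ≠ c) (hca : c ≠ a)
    (hcua : c ≠ u • a) :
    ∀ g ∈ (Subgroup.centralizer {u} ⊓ stab4 G a (u • a) c (u • c) : Subgroup G),
      ∀ q : Ω, u • q = q → g • q = q := by
  obtain ⟨g0, hg0, g0a, g0c⟩ := Cfsg.Agent.Helper68.HallT.exists_conj h4 hodd ht hu tp1 tp3 h31 h3t1 ua uc hca hcua
  intro g hg q hq
  rw [Subgroup.mem_inf, mem_cen, mem_stab4] at hg
  obtain ⟨gc, g1, g2, g3, g4⟩ := hg
  -- u * g0 = g0 * t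
  have hug : u * g0 = g0 * t := by
    rw [← hg0]; group
  have htg : t * g0⁻¹ = g0⁻¹ * u := by
    rw [← hg0]; group
  have g0ta : g0 • (t • p1) = u • a := by
    rw [← mul_smul, ← hug, mul_smul, g0a]
  have g0tc : g0 • (t • p3) = u • c := by
    rw [← mul_smul, ← hug, mul_smul, g0c]
  have hmem : g0⁻¹ * g * g0 ∈
      (Subgroup.centralizer {t} ⊓ stab4 G p1 (t • p1) p3 (t • p3) : Subgroup G) := by
    rw [Subgroup.mem_inf, mem_cen, mem_stab4]
    refine ⟨?_, ?_, ?_, ?_, ?_⟩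
    · calc g0⁻¹ * g * g0 * t = g0⁻¹ * g * (g0 * t) := by group
        _ = g0⁻¹ * g * (u * g0) := by rw [hug]
        _ = g0⁻¹ * (g * u) * g0 := by group
        _ = g0⁻¹ * (u * g) * g0 := by rw [gc]
        _ = (g0⁻¹ * u) * g * g0 := by group
        _ = (t * g0⁻¹) * g * g0 := by rw [htg]
        _ = t * (g0⁻¹ * g * g0) := by group
    · rw [mul_smul, mul_smul, g0a, g1]; exact smul_eq_of_inv_smul g0a
    · rw [mul_smul, mul_smul, g0ta, g2]; exact smul_eq_of_inv_smul g0ta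
    · rw [mul_smul, mul_smul, g0c, g3]; exact smul_eq_of_inv_smul g0c
    · rw [mul_smul, mul_smul, g0tc, g4]; exact smul_eq_of_inv_smul g0tc
  have hfixq : t • (g0⁻¹ • q) = g0⁻¹ • q := by
    rw [← mul_smul, htg, mul_smul, hq]
  have := hT _ hmem _ hfixq
  rw [mul_smul, mul_smul, smul_inv_smul] at this
  exact smul_left_cancel g0⁻¹ this

end Cfsg.Agent.Helper11.HallT7
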