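import Cfsg.Agent.Helper11.Uniserial3
import Cfsg.Agent.Helper11.CountPrime
import Cfsg.Agent.Helper65.MaxClass2
import Cfsg.Agent.Helper70.Regular

set_option autoImplicit false

namespace Cfsg.Agent.Helper11

open scoped commutatorElement

section maxclass
universe u
variable {G : Type u} [Group G]

theorem lcs_eq_iter (i : ℕ) :
    (⊤ : Subgroup G).lowerCentralSeries i = Cfsg.iterCommutator (⊤ : Subgroup G) ⊤ i := by
  induction i with
  | zero => rfl
  | succ i ih => rw [Subgroup.lowerCentralSeries_succ, iterCommutator_succ, ih]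

/-- Lower bound for the orders of the lower central series in a group of maximal class. -/
theorem maxClass_card_lcs_ge [Finite G] {p : ℕ} [hp : Fact p.Prime] (n : ℕ) (hG : Nat.card G = p ^ n)
    (hcl : Group.nilpotencyClass G = n - 1) (hn : 3 ≤ n) (i : ℕ) (hi : i ≤ n - 1) :
    p ^ (n - 1 - i) ≤ Nat.card ((⊤ : Subgroup G).lowerCentralSeries i) := by
  have hpG : IsPGroup p G := IsPGroup.of_card hG
  haveI : Group.IsNilpotent G := hpG.isNilpotent
  have hT : IsPGroup p (⊤ : Subgroup G) := hpG.to_subgroup _
  have hTN : (⊤ : Subgroup G) ≤ Subgroup.normalizer ((⊤ : Subgroup G) : Set G) := Subgroup.le_normalizer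
  by_cases hin : i = n - 1
  · rw [hin, Nat.sub_self, pow_zero]
    exact Nat.card_pos
  · have hne : (⊤ : Subgroup G).lowerCentralSeries (n - 2) ≠ ⊥ := by
      intro h
      rw [Subgroup.lowerCentralSeries_eq_bot_iff_nilpotencyClass_le] at h
      omega
    have hi' : i + (n - 2 - i) = n - 2 := by omega
    rw [lcs_eq_iter] at hne ⊢
    have h1 := iter_card_ge hT hT hTN (n - 2 - i) i (by rw [hi']; exact hne)
    rw [hi'] at h1
    have hK : IsPGroup p (Cfsg.iterCommutator (⊤ : Subgroup G) ⊤ (n - 2)) := hpG.to_subgroup _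
    obtain ⟨a, ha⟩ := IsPGroup.iff_card.mp hK
    have ha0 : a ≠ 0 := by
      intro h0
      rw [h0, pow_zero] at ha
      exact hne (Subgroup.card_eq_one.mp ha)
    have h2 : p ≤ Nat.card (Cfsg.iterCommutator (⊤ : Subgroup G) ⊤ (n - 2)) := by
      rw [ha]
      calc p = p ^ 1 := (pow_one p).symm
        _ ≤ p ^ a := Nat.pow_le_pow_right hp.out.pos (by omega)
    have h3 : n - 1 - i = (n - 2 - i) + 1 := by omega
    calc p ^ (n - 1 - i) = p * p ^ (n - 2 - i) := by rw [h3, pow_succ]; ring
      _ ≤ Nat.card (Cfsg.iterCommutator (⊤ : Subgroup G) ⊤ (n - 2)) * p ^ (n - 2 - i) :=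
        Nat.mul_le_mul_right _ h2
      _ ≤ _ := h1

/-- In a group of maximal class, a normal subgroup of index `p^r`, `r ≥ 2`, is `γ_r(G)`. -/
theorem maxClass_normal_eq_lcs [Finite G] {p : ℕ} [hp : Fact p.Prime] (n : ℕ) (hG : Nat.card G = p ^ n)
    (hcl : Group.nilpotencyClass G = n - 1) (hn : 3 ≤ n) (N : Subgroup G) [hN : N.Normal] (r : ℕ)
    (hr : 2 ≤ r) (hidx : N.index = p ^ r) : N = (⊤ : Subgroup G).lowerCentralSeries (r - 1) := by
  have hpG : IsPGroup p G := IsPGroup.of_card hG
  haveI : Group.IsNilpotent G := hpG.isNilpotent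
  -- r ≤ n and |N| = p^(n-r)
  have hmul : Nat.card N * N.index = Nat.card G := Subgroup.card_mul_index N
  have hrn : r ≤ n := by
    have h1 : p ^ r ∣ p ^ n := by rw [← hidx, ← hG]; exact Subgroup.index_dvd_card N
    exact (Nat.pow_dvd_pow_iff_le_right hp.out.one_lt).mp h1
  have hcardN : Nat.card N = p ^ (n - r) := by
    rw [hidx, hG] at hmul
    have h2 : p ^ n = p ^ (n - r) * p ^ r := by rw [← pow_add]; congr 1; omega
    rw [h2] at hmul
    exact Nat.eq_of_mul_eq_mul_right (Nat.pow_pos hp.out.pos) hmul
  -- γ_r ≤ N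
  have hQ : Nat.card (G ⧸ N) = p ^ r := by rw [← hidx]; rfl
  have hclQ := Cfsg.Agent.Helper65.nilpotencyClass_le_of_card p r (G ⧸ N) hQ hr
  haveI : Group.IsNilpotent (G ⧸ N) := (IsPGroup.of_card hQ).isNilpotent
  have hbot : (⊤ : Subgroup (G ⧸ N)).lowerCentralSeries (r - 1) = ⊥ :=
    Subgroup.lowerCentralSeries_eq_bot_iff_nilpotencyClass_le.mpr hclQ
  have hmap : ((⊤ : Subgroup G).lowerCentralSeries (r - 1)).map (QuotientGroup.mk' N) = ⊥ := by
    rw [Subgroup.map_lowerCentralSeries,
      Subgroup.map_top_of_surjective _ (QuotientGroup.mk'_surjective N), hbot]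
  have hle : (⊤ : Subgroup G).lowerCentralSeries (r - 1) ≤ N := by
    rw [← QuotientGroup.ker_mk' N]
    exact (Subgroup.map_eq_bot_iff _).mp hmap
  symm
  apply Subgroup.eq_of_le_of_card_ge hle
  rw [hcardN]
  have := maxClass_card_lcs_ge n hG hcl hn (r - 1) (by omega)
  have e : n - 1 - (r - 1) = n - r := by omega
  rw [e] at this
  exact this

end maxclass

end Cfsg.Agent.Helper11

namespace Cfsg.Agent.Helper11

open scoped commutatorElement

section maxclass2
universe u
variable {G : Type u} [Group G]

theorem comm_of_isCyclic {Q : Type*} [Group Q] [IsCyclic Q] (a b : Q) : a * b = b * a := by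
  obtain ⟨g, hg⟩ := exists_zpow_surjective Q
  obtain ⟨i, rfl⟩ := hg a
  obtain ⟨j, rfl⟩ := hg b
  simp only
  rw [← zpow_add, ← zpow_add, add_comm]

/-- In a group of maximal class of order `≥ p³`, no `⟨x⟩ G'` is the whole group. -/
theorem maxClass_zpowers_sup_commutator_ne_top [Finite G] {p : ℕ} [hp : Fact p.Prime] (n : ℕ)
    (hG : Nat.card G = p ^ n) (hcl : Group.nilpotencyClass G = n - 1) (hn : 3 ≤ n) (x : G) :
    Subgroup.zpowers x ⊔ commutator G ≠ ⊤ := by
  intro htop
  have hpG : IsPGroup p G := IsPGroup.of_card hG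
  have hz := Cfsg.Agent.Helper70.zpowers_eq_top_of_sup_commutator hpG x htop
  -- G is commutative, so the commutator is trivial
  have hcomm : ∀ a b : G, a * b = b * a := by
    intro a b
    have ha : a ∈ Subgroup.zpowers x := by rw [hz]; exact Subgroup.mem_top a
    have hb : b ∈ Subgroup.zpowers x := by rw [hz]; exact Subgroup.mem_top b
    obtain ⟨i, rfl⟩ := ha
    obtain ⟨j, rfl⟩ := hb
    simp only
    rw [← zpow_add, ← zpow_add, add_comm]
  have hbot : commutator G = ⊥ := by
    rw [commutator_def, eq_bot_iff, Subgroup.commutator_le]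
    intro a _ b _
    rw [Subgroup.mem_bot, commutatorElement_eq_one_iff_mul_comm]
    exact hcomm a b
  have h1 := maxClass_card_lcs_ge n hG hcl hn 1 (by omega)
  rw [Subgroup.top_lowerCentralSeries_one, hbot, Subgroup.card_bot] at h1
  have h2 : 1 < p ^ (n - 1 - 1) := Nat.one_lt_pow (by omega) hp.out.one_lt
  omega

/-- In a group of maximal class of order `≥ p³`, `G / G'` has order `p²` and is not cyclic. -/
theorem maxClass_quotient_commutator [Finite G] {p : ℕ} [hp : Fact p.Prime] (n : ℕ)
    (hG : Nat.card G = p ^ n) (hcl : Group.nilpotencyClass G = n - 1) (hn : 3 ≤ n) :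
    Nat.card (G ⧸ commutator G) = p ^ 2 ∧ ¬ IsCyclic (G ⧸ commutator G) := by
  have hpG : IsPGroup p G := IsPGroup.of_card hG
  have hnc : ¬ IsCyclic (G ⧸ commutator G) := by
    intro hcyc
    obtain ⟨g, hg⟩ := exists_zpow_surjective (G ⧸ commutator G)
    obtain ⟨x, rfl⟩ := QuotientGroup.mk_surjective g
    apply maxClass_zpowers_sup_commutator_ne_top n hG hcl hn x
    rw [eq_top_iff]
    intro y _
    obtain ⟨k, hk⟩ := hg (QuotientGroup.mk y)
    simp only at hk
    rw [← QuotientGroup.mk_zpow, QuotientGroup.eq] at hk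
    have : y = x ^ k * ((x ^ k)⁻¹ * y) := by group
    rw [this]
    exact Subgroup.mul_mem_sup (Subgroup.zpow_mem_zpowers x k) hk
  refine ⟨?_, hnc⟩
  -- the order is a power of p, at most p², and not 1 or p
  have hidx : Nat.card (G ⧸ commutator G) = (commutator G).index := rfl
  have hmul : Nat.card (commutator G) * (commutator G).index = Nat.card G :=
    Subgroup.card_mul_index _
  have h1 := maxClass_card_lcs_ge n hG hcl hn 1 (by omega)
  rw [Subgroup.top_lowerCentralSeries_one] at h1
  have hdvd : (commutator G).index ∣ p ^ n := by rw [← hG]; exact Subgroup.index_dvd_card _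
  obtain ⟨b, hbn, hb⟩ := (Nat.dvd_prime_pow hp.out).mp hdvd
  rw [hidx, hb]
  have hb2 : b ≤ 2 := by
    by_contra hlt
    push Not at hlt
    rw [hb, hG] at hmul
    have h3 : p ^ (n - 1 - 1) * p ^ b ≤ p ^ n := by
      rw [← hmul]; exact Nat.mul_le_mul_right _ h1
    rw [← pow_add] at h3
    have := (Nat.pow_le_pow_iff_right hp.out.one_lt).mp h3
    omega
  interval_cases b
  · exfalso
    apply hnc
    rw [pow_zero] at hb
    rw [hidx.symm] at hb
    haveI : Subsingleton (G ⧸ commutator G) := (Nat.card_eq_one_iff_unique.mp hb).1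
    exact isCyclic_of_subsingleton
  · exfalso
    apply hnc
    rw [pow_one, ← hidx] at hb
    exact isCyclic_of_prime_card hb
  · rfl

/-- In a group of maximal class of order at least `p³` there are exactly `p + 1` normal subgroups of index `p`. -/
theorem maxClass_card_normal_index_p [Finite G] {p : ℕ} [hp : Fact p.Prime] (n : ℕ)
    (hG : Nat.card G = p ^ n) (hcl : Group.nilpotencyClass G = n - 1) (hn : 3 ≤ n) :
    Nat.card {N : Subgroup G // N.Normal ∧ N.index = p} = p + 1 := by
  obtain ⟨hQ, hnc⟩ := maxClass_quotient_commutator n hG hcl hn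
  rw [← card_subgroups_prime_of_sq hQ hnc]
  have hsurj : Function.Surjective (QuotientGroup.mk' (commutator G)) := QuotientGroup.mk'_surjective _
  have hker : (QuotientGroup.mk' (commutator G)).ker = commutator G := QuotientGroup.ker_mk' _
  -- the quotient is commutative
  have hQcomm : ∀ a b : G ⧸ commutator G, a * b = b * a := by
    intro a b
    obtain ⟨a, rfl⟩ := QuotientGroup.mk_surjective a
    obtain ⟨b, rfl⟩ := QuotientGroup.mk_surjective b
    rw [← QuotientGroup.mk_mul, ← QuotientGroup.mk_mul, QuotientGroup.eq]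
    have : (a * b)⁻¹ * (b * a) = ⁅b⁻¹, a⁻¹⁆ := by rw [commutatorElement_def]; group
    rw [this, commutator_def]
    exact Subgroup.commutator_mem_commutator (Subgroup.mem_top _) (Subgroup.mem_top _)
  -- normal subgroups of index p contain the commutator subgroup
  have hle : ∀ N : Subgroup G, N.Normal → N.index = p → commutator G ≤ N := by
    intro N hN hidx
    haveI := hN
    apply Subgroup.Normal.quotient_commutative_iff_commutator_le.mp
    have hc : Nat.card (G ⧸ N) = p := hidx
    haveI : IsCyclic (G ⧸ N) := isCyclic_of_prime_card hc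
    exact ⟨⟨fun a b => comm_of_isCyclic a b⟩⟩
  have hcardidx : ∀ M : Subgroup (G ⧸ commutator G), Nat.card M = p ↔ M.index = p := by
    intro M
    have hmul : Nat.card M * M.index = p ^ 2 := by rw [Subgroup.card_mul_index, hQ]
    have hp0 : 0 < p := hp.out.pos
    constructor
    · intro h
      rw [h, pow_two] at hmul
      exact Nat.eq_of_mul_eq_mul_left hp0 hmul
    · intro h
      rw [h, pow_two] at hmul
      exact Nat.eq_of_mul_eq_mul_right hp0 hmul
  apply Nat.card_congr
  exact
    { toFun := fun N => ⟨N.1.map (QuotientGroup.mk' (commutator G)), by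
          rw [hcardidx, Subgroup.index_map_eq _ hsurj (by rw [hker]; exact hle N.1 N.2.1 N.2.2)]
          exact N.2.2⟩
      invFun := fun M => ⟨M.1.comap (QuotientGroup.mk' (commutator G)), by
          constructor
          · have hMn : M.1.Normal := by
              constructor
              intro m hm g
              rw [hQcomm g m, mul_inv_cancel_right]
              exact hm
            exact Subgroup.Normal.comap hMn _
          · rw [Subgroup.index_comap_of_surjective _ hsurj]
            exact (hcardidx M.1).mp M.2⟩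
      left_inv := fun N => by
        apply Subtype.ext
        simp only
        rw [Subgroup.comap_map_eq, hker, sup_eq_left]
        exact hle N.1 N.2.1 N.2.2
      right_inv := fun M => by
        apply Subtype.ext
        simp only
        exact Subgroup.map_comap_eq_self_of_surjective hsurj _ }

end maxclass2

end Cfsg.Agent.Helper11
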