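import Cfsg.Agent.Helper85.SimpleCrit
set_option autoImplicit false

/-!
Piece (O7-G1) of board post #6842 (helper43, S2647): for a nontrivial Sylow `p`-subgroup `S` on which `N_G(S)` acts by
inner automorphisms and without proper nontrivial strongly closed subgroups, `Aut_F(S) = Inn(S)`, no proper nontrivial
subgroup is strongly closed in `F_S(G)`, and `F_S(G)` is simple.
-/

namespace Cfsg.Agent.Helper11.O7

open Cfsg Cfsg.FusionSystem Cfsg.Agent.Helper85

variable {G : Type*} [Group G]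

theorem final_of_selfNorm [Finite G] (p : ℕ) [Fact p.Prime] (S : Sylow p G)
    (hS1 : (S : Subgroup G) ≠ ⊥) (hN : SelfNorm (S : Subgroup G))
    (hT : NoStrClosed (S : Subgroup G)) :
    (groupFusionSystem (S : Subgroup G)).autGroup (S : Subgroup G) = Inn ↥(S : Subgroup G) ∧
    (∀ T : Subgroup G, (groupFusionSystem (S : Subgroup G)).StronglyClosed T →
      T = ⊥ ∨ T = (S : Subgroup G)) ∧
    (groupFusionSystem (S : Subgroup G)).IsSimple p := by
  have hSS : (S : Subgroup G) ≤ S := le_rfl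
  -- maps with source `S` are conjugations by elements of `S`
  have key : ∀ g : G, (∀ x : (S : Subgroup G), g * (x : G) * g⁻¹ ∈ (S : Subgroup G)) →
      ∃ s ∈ (S : Subgroup G), ∀ x ∈ (S : Subgroup G), g * x * g⁻¹ = s * x * s⁻¹ := by
    intro g hg
    apply hN
    have hle : cj g (S : Subgroup G) ≤ S := by
      rintro _ ⟨x, hx, rfl⟩
      exact hg ⟨x, hx⟩
    have heq : cj g (S : Subgroup G) = S :=
      Subgroup.eq_of_le_of_card_ge hle (by rw [card_cj])
    rw [Subgroup.mem_normalizer_iff]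
    intro h
    constructor
    · intro hh
      exact hg ⟨h, hh⟩
    · intro hh
      have : g * h * g⁻¹ ∈ cj g (S : Subgroup G) := by rw [heq]; exact hh
      rw [mem_cj] at this
      have e : g⁻¹ * (g * h * g⁻¹) * g = h := by group
      rw [e] at this
      exact this
  have hAut : ∀ α : MulAut (S : Subgroup G), α ∈ (groupFusionSystem (S : Subgroup G)).autGroup S →
      ∃ s : (S : Subgroup G), α = MulAut.conj s := by
    intro α hα
    rw [Cfsg.Agent.Helper87.mem_autGroup_iff _ hSS] at hα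
    obtain ⟨-, hαS, g, hg⟩ := hα
    obtain ⟨s, hs, hsx⟩ := key g (fun x => by rw [← hg x]; exact hαS x)
    refine ⟨⟨s, hs⟩, ?_⟩
    ext x
    have h1 : ((α x : (S : Subgroup G)) : G) = g * (x : G) * g⁻¹ := hg x
    rw [h1, hsx _ x.2]
    rfl
  have hInn : Inn (S : Subgroup G) ≤ (groupFusionSystem (S : Subgroup G)).autGroup S := by
    rintro _ ⟨s, rfl⟩
    rw [Cfsg.Agent.Helper87.mem_autGroup_iff _ hSS]
    exact (groupFusionSystem (S : Subgroup G)).conj_mem hSS s.2
  have hle : (groupFusionSystem (S : Subgroup G)).autGroup S ≤ Inn (S : Subgroup G) := by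
    intro α hα
    obtain ⟨s, rfl⟩ := hAut α hα
    exact ⟨s, rfl⟩
  refine ⟨le_antisymm hle hInn, ?_, isSimple_of_selfNorm p S hS1 hN hT⟩
  intro T hT'
  obtain ⟨hTS, hcl⟩ := hT'
  refine hT T hTS ?_
  intro t ht g hg
  have hR : Subgroup.zpowers t ≤ T := (Subgroup.zpowers_le).2 ht
  have hmem : conjHom (Subgroup.zpowers t) g ∈ (groupFusionSystem (S : Subgroup G)).Hom (Subgroup.zpowers t) := by
    refine ⟨hR.trans hTS, ?_, g, fun x => rfl⟩
    rintro ⟨x, k, rfl⟩
    show g * t ^ k * g⁻¹ ∈ (S : Subgroup G)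
    have : g * t ^ k * g⁻¹ = (g * t * g⁻¹) ^ k := by
      rw [conj_zpow]
    rw [this]
    exact Subgroup.zpow_mem _ hg k
  exact hcl _ hR _ hmem ⟨t, Subgroup.mem_zpowers t⟩

end Cfsg.Agent.Helper11.O7
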