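import Cfsg.Agent.Helper11.OffenderHyp
import Cfsg.Agent.Lib.Cores

/-!
# No over-offenders on a faithful module when `C_H(O_{p'}(H)) ≤ O_{p'}(H)` (helper11)
-/

set_option autoImplicit false

namespace Cfsg.Agent.Helper11

/-- `B` a `p`-group acting on the `p`-group `V`, `a` and `x` commute with `B` and normalize `V`, the commutator
`k = a x a⁻¹ x⁻¹` is a `p'`-element not centralizing `V`: then `a` does not centralize `C_V(B)`. -/
theorem exists_fixed_not_centralized {p : ℕ} [Fact p.Prime] {G : Type*} [Group G] [Finite G]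
    (V B : Subgroup G) (hV : IsPGroup p V) (hB : IsPGroup p B)
    (hBV : B ≤ Subgroup.normalizer (V : Set G)) {a x : G}
    (haV : a ∈ Subgroup.normalizer (V : Set G)) (hxV : x ∈ Subgroup.normalizer (V : Set G))
    (haB : ∀ b ∈ B, b * a = a * b) (hxB : ∀ b ∈ B, b * x = x * b)
    (hcop : (orderOf (a * x * a⁻¹ * x⁻¹)).Coprime p)
    (hk : ∃ v ∈ V, (a * x * a⁻¹ * x⁻¹) * v ≠ v * (a * x * a⁻¹ * x⁻¹)) :
    ∃ v ∈ V, (∀ b ∈ B, b * v = v * b) ∧ a * v ≠ v * a := by
  by_contra hcon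
  simp only [not_exists, not_and, not_not] at hcon
  obtain ⟨v, hv, hkv⟩ := hk
  apply hkv
  have hkN : a * x * a⁻¹ * x⁻¹ ∈ Subgroup.normalizer (V : Set G) :=
    Subgroup.mul_mem _ (Subgroup.mul_mem _ (Subgroup.mul_mem _ haV hxV) (Subgroup.inv_mem _ haV))
      (Subgroup.inv_mem _ hxV)
  refine Cfsg.Agent.Helper24.thompson_PxQ hV hB hBV hkN hcop ?_ ?_ v hv
  · intro b hb
    have h1 := haB b hb
    have h2 := hxB b hb
    have h1' : b * a⁻¹ = a⁻¹ * b := by
      calc b * a⁻¹ = a⁻¹ * (a * b) * a⁻¹ := by group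
        _ = a⁻¹ * (b * a) * a⁻¹ := by rw [h1]
        _ = a⁻¹ * b := by group
    have h2' : b * x⁻¹ = x⁻¹ * b := by
      calc b * x⁻¹ = x⁻¹ * (x * b) * x⁻¹ := by group
        _ = x⁻¹ * (b * x) * x⁻¹ := by rw [h2]
        _ = x⁻¹ * b := by group
    calc a * x * a⁻¹ * x⁻¹ * b = a * x * a⁻¹ * (x⁻¹ * b) := by group
      _ = a * x * (a⁻¹ * b) * x⁻¹ := by rw [← h2']; group
      _ = a * (x * b) * a⁻¹ * x⁻¹ := by rw [← h1']; group
      _ = (a * b) * x * a⁻¹ * x⁻¹ := by rw [← h2]; group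
      _ = b * (a * x * a⁻¹ * x⁻¹) := by rw [← h1]; group
  · intro u hu hub
    have hub' : ∀ b ∈ B, b * u = u * b := fun b hb => (hub b hb)
    have h1 : a * u = u * a := hcon u hu hub'
    have hu' : x⁻¹ * u * x ∈ V := by
      have := (Subgroup.mem_normalizer_iff.mp (Subgroup.inv_mem _ hxV) u).mp hu
      simpa using this
    have hu'B : ∀ b ∈ B, b * (x⁻¹ * u * x) = (x⁻¹ * u * x) * b := by
      intro b hb
      have h2 := hxB b hb
      have h3 := hub' b hb
      have h2' : b * x⁻¹ = x⁻¹ * b := by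
        calc b * x⁻¹ = x⁻¹ * (x * b) * x⁻¹ := by group
          _ = x⁻¹ * (b * x) * x⁻¹ := by rw [h2]
          _ = x⁻¹ * b := by group
      calc b * (x⁻¹ * u * x) = (b * x⁻¹) * u * x := by group
        _ = x⁻¹ * (b * u) * x := by rw [h2']; group
        _ = x⁻¹ * u * (b * x) := by rw [h3]; group
        _ = x⁻¹ * u * x * b := by rw [h2]; group
    have h2 : a * (x⁻¹ * u * x) = (x⁻¹ * u * x) * a := hcon _ hu' hu'B
    have h2' : a⁻¹ * (x⁻¹ * u * x) = (x⁻¹ * u * x) * a⁻¹ := by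
      calc a⁻¹ * (x⁻¹ * u * x) = a⁻¹ * ((x⁻¹ * u * x) * a) * a⁻¹ := by group
        _ = a⁻¹ * (a * (x⁻¹ * u * x)) * a⁻¹ := by rw [h2]
        _ = (x⁻¹ * u * x) * a⁻¹ := by group
    calc a * x * a⁻¹ * x⁻¹ * u = a * x * (a⁻¹ * (x⁻¹ * u * x)) * x⁻¹ := by group
      _ = a * x * ((x⁻¹ * u * x) * a⁻¹) * x⁻¹ := by rw [h2']
      _ = (a * u) * x * a⁻¹ * x⁻¹ := by group
      _ = (u * a) * x * a⁻¹ * x⁻¹ := by rw [h1]
      _ = u * (a * x * a⁻¹ * x⁻¹) := by group

/-- strict containment of subgroups of a `p`-group costs a factor `p`. -/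
theorem mul_card_le_of_lt {p : ℕ} [Fact p.Prime] {G : Type*} [Group G] [Finite G]
    {X Y : Subgroup G} (hY : IsPGroup p Y) (hXY : X < Y) : p * Nat.card X ≤ Nat.card Y := by
  have hp : p.Prime := Fact.out
  obtain ⟨n, hn⟩ := hY.exists_card_eq
  have hdvd : Nat.card X ∣ Nat.card Y := Subgroup.card_dvd_of_le hXY.le
  rw [hn] at hdvd
  obtain ⟨m, hmn, hm⟩ := (Nat.dvd_prime_pow hp).mp hdvd
  have hne : m ≠ n := by
    intro h
    have : Nat.card Y ≤ Nat.card X := by rw [hn, hm, h]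
    exact absurd (Subgroup.eq_of_le_of_card_ge hXY.le this) hXY.ne
  have hlt : m + 1 ≤ n := by omega
  rw [hn, hm, ← pow_succ']
  exact Nat.pow_le_pow_right hp.pos hlt

/-- `|B⟨a⟩| ≤ |B| p` when `a ^ p = 1`. -/
theorem card_le_card_mul_of_gen {p : ℕ} [Fact p.Prime] {G : Type*} [Group G] [Finite G]
    {A B : Subgroup G} (hBA : B ≤ A) {a : G} (haA : a ∈ A) (hap : a ^ p = 1)
    (hgen : ∀ g ∈ A, ∃ b ∈ B, ∃ i : ℕ, g = b * a ^ i) : Nat.card A ≤ Nat.card B * p := by
  have hp : p.Prime := Fact.out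
  haveI : NeZero p := ⟨hp.ne_zero⟩
  let f : B × Fin p → A := fun bi =>
    ⟨(bi.1 : G) * a ^ (bi.2 : ℕ), A.mul_mem (hBA bi.1.2) (A.pow_mem haA _)⟩
  have hf : Function.Surjective f := by
    rintro ⟨g, hg⟩
    obtain ⟨b, hb, i, hi⟩ := hgen g hg
    refine ⟨(⟨b, hb⟩, ⟨i % p, Nat.mod_lt _ hp.pos⟩), ?_⟩
    apply Subtype.ext
    show b * a ^ (i % p) = g
    rw [hi, pow_eq_pow_mod i hap]
  have := Nat.card_le_card_of_surjective f hf
  rwa [Nat.card_prod, Nat.card_fin] at this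

/-- the ambient setting: a faithful `p`-group module `V` for `H`, and a `p'`-subgroup `Q` of `H` normalized by `H`
containing its centralizer in `H`. -/
structure FFSetting {G : Type*} [Group G] (p : ℕ) (V H Q : Subgroup G) : Prop where
  pV : IsPGroup p V
  norm : H ≤ Subgroup.normalizer (V : Set G)
  faithful : H ⊓ Subgroup.centralizer (V : Set G) = ⊥
  QH : Q ≤ H
  pQ : ¬ p ∣ Nat.card Q
  normQ : H ≤ Subgroup.normalizer (Q : Set G)
  selfC : ∀ h ∈ H, (∀ x ∈ Q, h * x = x * h) → h ∈ Q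

/-- One step: a nontrivial elementary abelian `A ≤ H` has a "hyperplane" `B` with at least the same measure. -/
theorem offender_step {p : ℕ} [Fact p.Prime] {G : Type*} [Group G] [Finite G] {V H Q : Subgroup G}
    (hS : FFSetting p V H Q) (A : Subgroup G) (hAH : A ≤ H)
    (hcomm : ∀ x ∈ A, ∀ y ∈ A, x * y = y * x) (hexp : ∀ a ∈ A, a ^ p = 1) (hA1 : A ≠ ⊥) :
    ∃ B : Subgroup G, B ≤ A ∧ ∃ a ∈ A, a ∉ B ∧ (∀ g ∈ A, ∃ b ∈ B, ∃ i : ℕ, g = b * a ^ i) ∧
      Nat.card A * Nat.card ↥(V ⊓ Subgroup.centralizer (A : Set G)) ≤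
        Nat.card B * Nat.card ↥(V ⊓ Subgroup.centralizer (B : Set G)) := by
  have hp : p.Prime := Fact.out
  have hcopQ : (Nat.card Q).Coprime p := ((Nat.Prime.coprime_iff_not_dvd hp).mpr hS.pQ).symm
  -- `A` does not centralize `Q`
  have hnc : ∃ a ∈ A, ∃ x ∈ Q, a * x ≠ x * a := by
    by_contra hcon
    simp only [not_exists, not_and, not_not] at hcon
    apply hA1
    rw [Subgroup.eq_bot_iff_forall]
    intro a ha
    have haQ : a ∈ Q := hS.selfC a (hAH ha) (hcon a ha)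
    have h1 : orderOf a ∣ p := orderOf_dvd_of_pow_eq_one (hexp a ha)
    have h2 : orderOf a ∣ Nat.card Q := Subgroup.orderOf_dvd_natCard Q haQ
    have h3 : orderOf a ∣ 1 := by
      have := Nat.dvd_gcd h2 h1
      rwa [hcopQ] at this
    exact orderOf_eq_one_iff.mp (Nat.dvd_one.mp h3)
  obtain ⟨B, hBA, a, haA, hgen, x, hxQ, hBx, hax⟩ :=
    exists_hyperplane_not_centralizing A Q hcomm hexp (hAH.trans hS.normQ) hS.pQ hnc
  have haB : a ∉ B := fun h => hax (hBx a h)
  refine ⟨B, hBA, a, haA, haB, hgen, ?_⟩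
  -- the commutator
  have hkQ : a * x * a⁻¹ * x⁻¹ ∈ Q :=
    Q.mul_mem ((Subgroup.mem_normalizer_iff.mp (hS.normQ (hAH haA)) x).mp hxQ) (Q.inv_mem hxQ)
  have hkH : a * x * a⁻¹ * x⁻¹ ∈ H := hS.QH hkQ
  have hk1 : a * x * a⁻¹ * x⁻¹ ≠ 1 := by
    intro h
    apply hax
    calc a * x = (a * x * a⁻¹ * x⁻¹) * x * a := by group
      _ = x * a := by rw [h, one_mul]
  have hkV : ∃ v ∈ V, (a * x * a⁻¹ * x⁻¹) * v ≠ v * (a * x * a⁻¹ * x⁻¹) := by
    by_contra hcon
    simp only [not_exists, not_and, not_not] at hcon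
    apply hk1
    have : a * x * a⁻¹ * x⁻¹ ∈ H ⊓ Subgroup.centralizer (V : Set G) := by
      refine Subgroup.mem_inf.mpr ⟨hkH, ?_⟩
      rw [Subgroup.mem_centralizer_iff]
      intro v hv
      exact (hcon v hv).symm
    rw [hS.faithful] at this
    exact Subgroup.mem_bot.mp this
  have hcop : (orderOf (a * x * a⁻¹ * x⁻¹)).Coprime p :=
    Nat.Coprime.coprime_dvd_left (Subgroup.orderOf_dvd_natCard Q hkQ) hcopQ
  have hBp : IsPGroup p B := by
    intro b
    exact ⟨1, Subtype.ext (by simpa using hexp b (hBA b.2))⟩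
  obtain ⟨v, hvV, hvB, hva⟩ := exists_fixed_not_centralized V B hS.pV hBp
    ((hBA.trans hAH).trans hS.norm) (hS.norm (hAH haA)) (hS.norm (hS.QH hxQ))
    (fun b hb => hcomm b (hBA hb) a haA) hBx hcop hkV
  -- strict containment of fixed points
  have hlt : V ⊓ Subgroup.centralizer (A : Set G) < V ⊓ Subgroup.centralizer (B : Set G) := by
    refine lt_of_le_of_ne (inf_le_inf_left _ (Subgroup.centralizer_le hBA)) ?_
    intro heq
    have hv : v ∈ V ⊓ Subgroup.centralizer (B : Set G) := by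
      refine Subgroup.mem_inf.mpr ⟨hvV, ?_⟩
      rw [Subgroup.mem_centralizer_iff]
      intro b hb
      exact hvB b hb
    rw [← heq] at hv
    have := (Subgroup.mem_inf.mp hv).2
    rw [Subgroup.mem_centralizer_iff] at this
    exact hva (this a haA)
  have hCBp : IsPGroup p ↥(V ⊓ Subgroup.centralizer (B : Set G)) :=
    hS.pV.to_le inf_le_left
  have h1 := mul_card_le_of_lt hCBp hlt
  have h2 := card_le_card_mul_of_gen hBA haA (hexp a haA) hgen
  calc Nat.card A * Nat.card ↥(V ⊓ Subgroup.centralizer (A : Set G))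
      ≤ (Nat.card B * p) * Nat.card ↥(V ⊓ Subgroup.centralizer (A : Set G)) :=
        Nat.mul_le_mul_right _ h2
    _ = Nat.card B * (p * Nat.card ↥(V ⊓ Subgroup.centralizer (A : Set G))) := by ring
    _ ≤ Nat.card B * Nat.card ↥(V ⊓ Subgroup.centralizer (B : Set G)) :=
        Nat.mul_le_mul_left _ h1

/-- **No over-offenders**: `|A| |C_V(A)| ≤ |V|` for every elementary abelian `p`-subgroup `A` of `H`. -/
theorem card_mul_card_fixed_le {p : ℕ} [Fact p.Prime] {G : Type*} [Group G] [Finite G] {V H Q : Subgroup G}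
    (hS : FFSetting p V H Q) : ∀ (n : ℕ) (A : Subgroup G), Nat.card A = n → A ≤ H →
    (∀ x ∈ A, ∀ y ∈ A, x * y = y * x) → (∀ a ∈ A, a ^ p = 1) →
    Nat.card A * Nat.card ↥(V ⊓ Subgroup.centralizer (A : Set G)) ≤ Nat.card V := by
  intro n
  induction n using Nat.strong_induction_on with
  | _ n ih =>
    intro A hn hAH hcomm hexp
    by_cases hA1 : A = ⊥
    · subst hA1
      rw [Subgroup.card_bot, one_mul]
      exact Subgroup.card_le_of_le inf_le_left
    · obtain ⟨B, hBA, a, haA, haB, -, hle⟩ := offender_step hS A hAH hcomm hexp hA1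
      have hlt : Nat.card B < n := by
        rw [← hn]
        by_contra hge
        have hge := not_lt.mp hge
        have := Subgroup.eq_of_le_of_card_ge hBA hge
        exact haB (this ▸ haA)
      exact hle.trans (ih _ hlt B rfl (hBA.trans hAH) (fun x hx y hy => hcomm x (hBA hx) y (hBA hy))
        (fun b hb => hexp b (hBA hb)))

end Cfsg.Agent.Helper11
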