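import Mathlib.GroupTheory.Sylow
import Mathlib.GroupTheory.PGroup
import Mathlib.Algebra.Group.Subgroup.Order
import Mathlib.Order.ModularLattice
import Mathlib.Data.Set.Finite.Lemmas
import Cfsg.Agent.Helper48.CoprimeGen
import Cfsg.Agent.Helper24.Coprime

/-!
# Hyperplane lemma for elementary abelian groups acting on `p'`-groups (helper11)
-/

set_option autoImplicit false

namespace Cfsg.Agent.Helper11

/-- In a commutative group of exponent `p`: if `a₁ ∉ B` and `a₂ ∉ B ⊔ ⟨a₁⟩` then `⟨a₁⟩ ⊔ ⟨a₂⟩` is disjoint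
from `B` and has order at least `p ^ 2`. -/
theorem comm_rank_two_avoid {p : ℕ} [Fact p.Prime] {C : Type*} [CommGroup C] [Finite C]
    (hexp : ∀ c : C, c ^ p = 1) (B : Subgroup C) (a₁ a₂ : C) (h1 : a₁ ∉ B)
    (h2 : a₂ ∉ B ⊔ Subgroup.zpowers a₁) :
    Disjoint B (Subgroup.zpowers a₁ ⊔ Subgroup.zpowers a₂) ∧
      p ^ 2 ≤ Nat.card ↥(Subgroup.zpowers a₁ ⊔ Subgroup.zpowers a₂) := by
  have hp : p.Prime := Fact.out
  -- a subgroup `zpowers a` with `a ∉ X` is disjoint from `X`
  have key : ∀ (X : Subgroup C) (a : C), a ∉ X → Disjoint X (Subgroup.zpowers a) := by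
    intro X a ha
    rw [Subgroup.disjoint_def]
    intro x hxX hxa
    by_contra hx1
    apply ha
    -- x = a ^ k, x ≠ 1, so a ∈ zpowers x
    have hox : orderOf x = p := by
      have : orderOf x ∣ p := orderOf_dvd_of_pow_eq_one (hexp x)
      rcases (Nat.dvd_prime hp).mp this with h | h
      · exact absurd (orderOf_eq_one_iff.mp h) hx1
      · exact h
    have hoa : orderOf a = p := by
      have : orderOf a ∣ p := orderOf_dvd_of_pow_eq_one (hexp a)
      rcases (Nat.dvd_prime hp).mp this with h | h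
      · have : a = 1 := orderOf_eq_one_iff.mp h
        rw [this] at hxa
        simp at hxa
        exact absurd hxa hx1
      · exact h
    have hle : Subgroup.zpowers x ≤ Subgroup.zpowers a := by
      rw [Subgroup.zpowers_le]; exact hxa
    have hcard : Nat.card (Subgroup.zpowers a) ≤ Nat.card (Subgroup.zpowers x) := by
      rw [Nat.card_zpowers, Nat.card_zpowers, hox, hoa]
    have := Subgroup.eq_of_le_of_card_ge hle hcard
    have ha' : a ∈ Subgroup.zpowers x := by rw [this]; exact Subgroup.mem_zpowers a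
    exact (Subgroup.zpowers_le.mpr hxX) ha'
  have d1 : Disjoint B (Subgroup.zpowers a₁) := key B a₁ h1
  have d2 : Disjoint (B ⊔ Subgroup.zpowers a₁) (Subgroup.zpowers a₂) := key _ a₂ h2
  refine ⟨d1.disjoint_sup_right_of_disjoint_sup_left d2, ?_⟩
  -- cardinality
  have hlt : Subgroup.zpowers a₁ < Subgroup.zpowers a₁ ⊔ Subgroup.zpowers a₂ := by
    refine lt_of_le_of_ne le_sup_left ?_
    intro h
    apply h2
    have : a₂ ∈ Subgroup.zpowers a₁ := by
      rw [h]; exact (le_sup_right : Subgroup.zpowers a₂ ≤ _) (Subgroup.mem_zpowers a₂)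
    exact (le_sup_right : Subgroup.zpowers a₁ ≤ B ⊔ Subgroup.zpowers a₁) this
  have hoa : orderOf a₁ = p := by
    have : orderOf a₁ ∣ p := orderOf_dvd_of_pow_eq_one (hexp a₁)
    rcases (Nat.dvd_prime hp).mp this with h | h
    · have : a₁ = 1 := orderOf_eq_one_iff.mp h
      exact absurd (this ▸ B.one_mem) h1
    · exact h
  have hpg : IsPGroup p ↥(Subgroup.zpowers a₁ ⊔ Subgroup.zpowers a₂) := by
    intro g
    exact ⟨1, Subtype.ext (by simpa using hexp g)⟩
  obtain ⟨n, hn⟩ := hpg.exists_card_eq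
  have hcardlt : Nat.card (Subgroup.zpowers a₁) < Nat.card ↥(Subgroup.zpowers a₁ ⊔ Subgroup.zpowers a₂) := by
    by_contra hge
    have hge := not_lt.mp hge
    exact absurd (Subgroup.eq_of_le_of_card_ge hlt.le hge) hlt.ne
  rw [Nat.card_zpowers, hoa, hn] at hcardlt
  rw [hn]
  have : 1 < n := by
    by_contra h
    have h := not_lt.mp h
    have : p ^ n ≤ p ^ 1 := Nat.pow_le_pow_right hp.pos h
    simp at this
    omega
  exact Nat.pow_le_pow_right hp.pos this


/-- **Hyperplane lemma.** An abelian group `A` of exponent `p` normalizing a `p'`-subgroup `Q` which it does not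
centralize has a subgroup `B` with `A = B⟨a⟩` such that `a` does not centralize `C_Q(B)`. -/
theorem exists_hyperplane_not_centralizing {p : ℕ} [Fact p.Prime] {G : Type*} [Group G] [Finite G]
    (A Q : Subgroup G) (hcomm : ∀ x ∈ A, ∀ y ∈ A, x * y = y * x) (hexp : ∀ a ∈ A, a ^ p = 1)
    (hAQ : A ≤ Subgroup.normalizer (Q : Set G)) (hpQ : ¬ p ∣ Nat.card Q)
    (hnc : ∃ a ∈ A, ∃ x ∈ Q, a * x ≠ x * a) :
    ∃ B : Subgroup G, B ≤ A ∧ ∃ a ∈ A, (∀ g ∈ A, ∃ b ∈ B, ∃ i : ℕ, g = b * a ^ i) ∧
      ∃ x ∈ Q, (∀ b ∈ B, b * x = x * b) ∧ a * x ≠ x * a := by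
  classical
  let _ : CommGroup A :=
    { (inferInstance : Group A) with mul_comm := fun a b => Subtype.ext (hcomm a a.2 b b.2) }
  have hexp' : ∀ c : A, c ^ p = 1 := fun c => Subtype.ext (by simpa using hexp c c.2)
  let S : Set (Subgroup A) :=
    {B | ∃ a : A, ∃ x ∈ Q, (∀ b ∈ B, (b : G) * x = x * b) ∧ (a : G) * x ≠ x * a}
  have hSne : S.Nonempty := by
    obtain ⟨a, ha, x, hx, hax⟩ := hnc
    refine ⟨⊥, ⟨a, ha⟩, x, hx, ?_, hax⟩
    intro b hb
    rw [Subgroup.mem_bot] at hb
    subst hb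
    simp
  obtain ⟨B, hBS, hBmax⟩ := Set.exists_max_image S (fun B : Subgroup A => Nat.card B) (Set.toFinite S) hSne
  obtain ⟨a₁, x₁, hx₁Q, hBx₁, ha₁x₁⟩ := hBS
  have ha₁B : a₁ ∉ B := fun h => ha₁x₁ (hBx₁ a₁ h)
  -- main claim
  have hgen : ∀ g : A, ∃ b ∈ B, ∃ i : ℕ, g = b * a₁ ^ i := by
    by_contra hcon
    simp only [not_forall, not_exists, not_and] at hcon
    obtain ⟨a₂, ha₂⟩ := hcon
    have ha₂' : a₂ ∉ B ⊔ Subgroup.zpowers a₁ := by
      intro hmem
      rw [Subgroup.mem_sup] at hmem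
      obtain ⟨b, hb, z, hz, hbz⟩ := hmem
      rw [← mem_powers_iff_mem_zpowers, Submonoid.mem_powers_iff] at hz
      obtain ⟨i, rfl⟩ := hz
      exact ha₂ b hb i hbz.symm
    obtain ⟨hdisj, hcard⟩ := comm_rank_two_avoid hexp' B a₁ a₂ ha₁B ha₂'
    set A₁ : Subgroup A := Subgroup.zpowers a₁ ⊔ Subgroup.zpowers a₂ with hA₁
    set BG : Subgroup G := B.map A.subtype with hBG
    set Q₁ : Subgroup G := Q ⊓ Subgroup.centralizer (BG : Set G) with hQ₁
    set A₁G : Subgroup G := A₁.map A.subtype with hA₁G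
    have hA₁GA : A₁G ≤ A := by
      rintro _ ⟨y, -, rfl⟩; exact y.2
    -- elements of `A` normalize `Q₁`
    have hAQ₁ : A ≤ Subgroup.normalizer (Q₁ : Set G) := by
      intro g hg
      have hgN := hAQ hg
      have hconj : ∀ h : G, h ∈ Q₁ → ∀ g ∈ A, g * h * g⁻¹ ∈ Q₁ := by
        intro h hh g hg
        have hh := Subgroup.mem_inf.mp hh
        refine Subgroup.mem_inf.mpr ⟨(Subgroup.mem_normalizer_iff.mp (hAQ hg) h).mp hh.1, ?_⟩
        rw [Subgroup.mem_centralizer_iff]
        rintro _ ⟨b, hb, rfl⟩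
        have hbh : (b : G) * h = h * b := (Subgroup.mem_centralizer_iff.mp hh.2 _ ⟨b, hb, rfl⟩)
        have hbg : (b : G) * g = g * b := hcomm _ b.2 _ hg
        have hbg' : (b : G) * g⁻¹ = g⁻¹ * b := hcomm _ b.2 _ (A.inv_mem hg)
        show (A.subtype b) * (g * h * g⁻¹) = g * h * g⁻¹ * (A.subtype b)
        simp only [Subgroup.coe_subtype]
        calc (b : G) * (g * h * g⁻¹) = ((b : G) * g) * h * g⁻¹ := by group
          _ = g * ((b : G) * h) * g⁻¹ := by rw [hbg]; group
          _ = g * h * ((b : G) * g⁻¹) := by rw [hbh]; group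
          _ = g * h * g⁻¹ * b := by rw [hbg']; group
      rw [Subgroup.mem_normalizer_iff]
      intro h
      constructor
      · intro hh; exact hconj h hh g hg
      · intro hh
        have := hconj _ hh g⁻¹ (A.inv_mem hg)
        simpa [mul_assoc] using this
    have hpQ₁ : ¬ p ∣ Nat.card Q₁ := fun h => hpQ (h.trans (Subgroup.card_dvd_of_le inf_le_left))
    have hle := Cfsg.Agent.Helper48.le_cgen_of_le_card (p := p) Q₁ A₁G hpQ₁ (hA₁GA.trans hAQ₁)
      (fun x hx y hy => hcomm x (hA₁GA hx) y (hA₁GA hy)) (fun a ha => hexp a (hA₁GA ha))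
      (by rw [hA₁G, Subgroup.card_map_of_injective A.subtype_injective]; exact hcard)
    -- every generator is centralized by `a₁`
    have hcgen : Cfsg.Agent.Helper48.cgen Q₁ A₁G ≤ Subgroup.centralizer {(a₁ : G)} := by
      unfold Cfsg.Agent.Helper48.cgen
      apply iSup_le
      rintro ⟨a, ha, ha1⟩
      obtain ⟨a', ha'A₁, rfl⟩ := ha
      intro x hx
      have hx := Subgroup.mem_inf.mp hx
      have hx1 := Subgroup.mem_inf.mp hx.1
      by_contra hxa
      have hxa' : (a₁ : G) * x ≠ x * a₁ := by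
        intro h
        apply hxa
        rw [Subgroup.mem_centralizer_singleton_iff]
        exact h.symm
      -- `B ⊔ zpowers a'` is in `S`
      have hmemS : B ⊔ Subgroup.zpowers a' ∈ S := by
        refine ⟨a₁, x, hx1.1, ?_, hxa'⟩
        have hsub : B ⊔ Subgroup.zpowers a' ≤ (Subgroup.centralizer {x}).comap A.subtype := by
          apply sup_le
          · intro b hb
            rw [Subgroup.mem_comap, Subgroup.mem_centralizer_singleton_iff]
            exact (Subgroup.mem_centralizer_iff.mp hx1.2 _ ⟨b, hb, rfl⟩)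
          · rw [Subgroup.zpowers_le, Subgroup.mem_comap, Subgroup.mem_centralizer_singleton_iff]
            have := hx.2
            rw [Subgroup.mem_centralizer_singleton_iff] at this
            exact this.symm
        intro b hb
        have := hsub hb
        rw [Subgroup.mem_comap, Subgroup.mem_centralizer_singleton_iff] at this
        exact this
      have hcardle := hBmax _ hmemS
      have heq : B = B ⊔ Subgroup.zpowers a' := Subgroup.eq_of_le_of_card_ge le_sup_left hcardle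
      have ha'B : a' ∈ B := by
        rw [heq]; exact (le_sup_right : Subgroup.zpowers a' ≤ _) (Subgroup.mem_zpowers a')
      have := (Subgroup.disjoint_def.mp hdisj) ha'B ha'A₁
      apply ha1
      rw [this]; rfl
    have hx₁ : x₁ ∈ Q₁ := by
      refine Subgroup.mem_inf.mpr ⟨hx₁Q, ?_⟩
      rw [Subgroup.mem_centralizer_iff]
      rintro _ ⟨b, hb, rfl⟩
      exact hBx₁ b hb
    have := hcgen (hle hx₁)
    rw [Subgroup.mem_centralizer_singleton_iff] at this
    exact ha₁x₁ this.symm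
  refine ⟨B.map A.subtype, ?_, (a₁ : G), a₁.2, ?_, x₁, hx₁Q, ?_, ha₁x₁⟩
  · rintro _ ⟨y, -, rfl⟩; exact y.2
  · intro g hg
    obtain ⟨b, hb, i, hi⟩ := hgen ⟨g, hg⟩
    refine ⟨b, ⟨b, hb, rfl⟩, i, ?_⟩
    have := congrArg (fun y : A => (y : G)) hi
    simpa using this
  · rintro _ ⟨b, hb, rfl⟩
    exact hBx₁ b hb

end Cfsg.Agent.Helper11
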