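import Cfsg.Agent.Helper11.OffenderHyp

/-!
# Refined hyperplane lemma (helper11)
-/

set_option autoImplicit false

namespace Cfsg.Agent.Helper11

/-- **Hyperplane lemma, refined.** `A` abelian of exponent `p` normalizing the `p'`-subgroup `Q`, and `c ∈ A` not
centralizing `Q`: there is `B ≤ A` with `A = B⟨c⟩` such that `c` does not centralize `C_Q(B)`. -/
theorem exists_hyperplane_avoiding {p : ℕ} [Fact p.Prime] {G : Type*} [Group G] [Finite G]
    (A Q : Subgroup G) (hcomm : ∀ x ∈ A, ∀ y ∈ A, x * y = y * x) (hexp : ∀ a ∈ A, a ^ p = 1)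
    (hAQ : A ≤ Subgroup.normalizer (Q : Set G)) (hpQ : ¬ p ∣ Nat.card Q)
    (c : G) (hcA : c ∈ A) (hnc : ∃ x ∈ Q, c * x ≠ x * c) :
    ∃ B : Subgroup G, B ≤ A ∧ (∀ g ∈ A, ∃ b ∈ B, ∃ i : ℕ, g = b * c ^ i) ∧
      ∃ x ∈ Q, (∀ b ∈ B, b * x = x * b) ∧ c * x ≠ x * c := by
  classical
  let _ : CommGroup A :=
    { (inferInstance : Group A) with mul_comm := fun a b => Subtype.ext (hcomm a a.2 b b.2) }
  have hexp' : ∀ c : A, c ^ p = 1 := fun c => Subtype.ext (by simpa using hexp c c.2)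
  let a₁ : A := ⟨c, hcA⟩
  let S : Set (Subgroup A) :=
    {B | ∃ x ∈ Q, (∀ b ∈ B, (b : G) * x = x * b) ∧ c * x ≠ x * c}
  have hSne : S.Nonempty := by
    obtain ⟨x, hx, hax⟩ := hnc
    refine ⟨⊥, x, hx, ?_, hax⟩
    intro b hb
    rw [Subgroup.mem_bot] at hb
    subst hb
    simp
  obtain ⟨B, hBS, hBmax⟩ := Set.exists_max_image S (fun B : Subgroup A => Nat.card B) (Set.toFinite S) hSne
  obtain ⟨x₁, hx₁Q, hBx₁, ha₁x₁⟩ := hBS
  have ha₁B : a₁ ∉ B := fun h => ha₁x₁ (hBx₁ a₁ h)
  -- main claim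
  have hgen : ∀ g : A, ∃ b ∈ B, ∃ i : ℕ, g = b * a₁ ^ i := by
    by_contra hcon
    simp only [not_forall, not_exists, not_and] at hcon
    obtain ⟨a₂, ha₂⟩ := hcon
    have ha₂' : a₂ ∉ B ⊔ Subgroup.zpowers a₁ := by
      intro hmem
      rw [Subgroup.mem_sup] at hmem
      obtain ⟨b, hb, z, hz, hbz⟩ := hmem
      rw [← mem_powers_iff_mem_zpowers, Submonoid.mem_powers_iff] at hz
      obtain ⟨i, rfl⟩ := hz
      exact ha₂ b hb i hbz.symm
    obtain ⟨hdisj, hcard⟩ := comm_rank_two_avoid hexp' B a₁ a₂ ha₁B ha₂'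
    set A₁ : Subgroup A := Subgroup.zpowers a₁ ⊔ Subgroup.zpowers a₂ with hA₁
    set BG : Subgroup G := B.map A.subtype with hBG
    set Q₁ : Subgroup G := Q ⊓ Subgroup.centralizer (BG : Set G) with hQ₁
    set A₁G : Subgroup G := A₁.map A.subtype with hA₁G
    have hA₁GA : A₁G ≤ A := by
      rintro _ ⟨y, -, rfl⟩; exact y.2
    -- elements of `A` normalize `Q₁`
    have hAQ₁ : A ≤ Subgroup.normalizer (Q₁ : Set G) := by
      intro g hg
      have hgN := hAQ hg
      have hconj : ∀ h : G, h ∈ Q₁ → ∀ g ∈ A, g * h * g⁻¹ ∈ Q₁ := by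
        intro h hh g hg
        have hh := Subgroup.mem_inf.mp hh
        refine Subgroup.mem_inf.mpr ⟨(Subgroup.mem_normalizer_iff.mp (hAQ hg) h).mp hh.1, ?_⟩
        rw [Subgroup.mem_centralizer_iff]
        rintro _ ⟨b, hb, rfl⟩
        have hbh : (b : G) * h = h * b := (Subgroup.mem_centralizer_iff.mp hh.2 _ ⟨b, hb, rfl⟩)
        have hbg : (b : G) * g = g * b := hcomm _ b.2 _ hg
        have hbg' : (b : G) * g⁻¹ = g⁻¹ * b := hcomm _ b.2 _ (A.inv_mem hg)
        show (A.subtype b) * (g * h * g⁻¹) = g * h * g⁻¹ * (A.subtype b)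
        simp only [Subgroup.coe_subtype]
        calc (b : G) * (g * h * g⁻¹) = ((b : G) * g) * h * g⁻¹ := by group
          _ = g * ((b : G) * h) * g⁻¹ := by rw [hbg]; group
          _ = g * h * ((b : G) * g⁻¹) := by rw [hbh]; group
          _ = g * h * g⁻¹ * b := by rw [hbg']; group
      rw [Subgroup.mem_normalizer_iff]
      intro h
      constructor
      · intro hh; exact hconj h hh g hg
      · intro hh
        have := hconj _ hh g⁻¹ (A.inv_mem hg)
        simpa [mul_assoc] using this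
    have hpQ₁ : ¬ p ∣ Nat.card Q₁ := fun h => hpQ (h.trans (Subgroup.card_dvd_of_le inf_le_left))
    have hle := Cfsg.Agent.Helper48.le_cgen_of_le_card (p := p) Q₁ A₁G hpQ₁ (hA₁GA.trans hAQ₁)
      (fun x hx y hy => hcomm x (hA₁GA hx) y (hA₁GA hy)) (fun a ha => hexp a (hA₁GA ha))
      (by rw [hA₁G, Subgroup.card_map_of_injective A.subtype_injective]; exact hcard)
    -- every generator is centralized by `a₁`
    have hcgen : Cfsg.Agent.Helper48.cgen Q₁ A₁G ≤ Subgroup.centralizer {(a₁ : G)} := by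
      unfold Cfsg.Agent.Helper48.cgen
      apply iSup_le
      rintro ⟨a, ha, ha1⟩
      obtain ⟨a', ha'A₁, rfl⟩ := ha
      intro x hx
      have hx := Subgroup.mem_inf.mp hx
      have hx1 := Subgroup.mem_inf.mp hx.1
      by_contra hxa
      have hxa' : (a₁ : G) * x ≠ x * a₁ := by
        intro h
        apply hxa
        rw [Subgroup.mem_centralizer_singleton_iff]
        exact h.symm
      -- `B ⊔ zpowers a'` is in `S`
      have hmemS : B ⊔ Subgroup.zpowers a' ∈ S := by
        refine ⟨x, hx1.1, ?_, hxa'⟩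
        have hsub : B ⊔ Subgroup.zpowers a' ≤ (Subgroup.centralizer {x}).comap A.subtype := by
          apply sup_le
          · intro b hb
            rw [Subgroup.mem_comap, Subgroup.mem_centralizer_singleton_iff]
            exact (Subgroup.mem_centralizer_iff.mp hx1.2 _ ⟨b, hb, rfl⟩)
          · rw [Subgroup.zpowers_le, Subgroup.mem_comap, Subgroup.mem_centralizer_singleton_iff]
            have := hx.2
            rw [Subgroup.mem_centralizer_singleton_iff] at this
            exact this.symm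
        intro b hb
        have := hsub hb
        rw [Subgroup.mem_comap, Subgroup.mem_centralizer_singleton_iff] at this
        exact this
      have hcardle := hBmax _ hmemS
      have heq : B = B ⊔ Subgroup.zpowers a' := Subgroup.eq_of_le_of_card_ge le_sup_left hcardle
      have ha'B : a' ∈ B := by
        rw [heq]; exact (le_sup_right : Subgroup.zpowers a' ≤ _) (Subgroup.mem_zpowers a')
      have := (Subgroup.disjoint_def.mp hdisj) ha'B ha'A₁
      apply ha1
      rw [this]; rfl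
    have hx₁ : x₁ ∈ Q₁ := by
      refine Subgroup.mem_inf.mpr ⟨hx₁Q, ?_⟩
      rw [Subgroup.mem_centralizer_iff]
      rintro _ ⟨b, hb, rfl⟩
      exact hBx₁ b hb
    have := hcgen (hle hx₁)
    rw [Subgroup.mem_centralizer_singleton_iff] at this
    exact ha₁x₁ this.symm
  refine ⟨B.map A.subtype, ?_, ?_, x₁, hx₁Q, ?_, ha₁x₁⟩
  · rintro _ ⟨y, -, rfl⟩; exact y.2
  · intro g hg
    obtain ⟨b, hb, i, hi⟩ := hgen ⟨g, hg⟩
    refine ⟨b, ⟨b, hb, rfl⟩, i, ?_⟩
    have := congrArg (fun y : A => (y : G)) hi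
    simpa using this
  · rintro _ ⟨b, hb, rfl⟩
    exact hBx₁ b hb


end Cfsg.Agent.Helper11
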