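import Cfsg.Agent.Helper11.OffenderDecomp
import Cfsg.Agent.Helper11.SL2Recog

/-!
# Lemmas towards `⟨A, A^x⟩ ≃* SL(2, p)` (helper11)
-/

set_option autoImplicit false

namespace Cfsg.Agent.Helper11

open scoped commutatorElement

/-- an element of `p`-power order normalizing a group of order `p` centralizes it. -/
theorem conj_eq_of_card_eq_prime {G : Type*} [Group G] {p : ℕ} [hp : Fact p.Prime] (W : Subgroup G)
    (hW : Nat.card W = p) (a : G) (haN : a ∈ Subgroup.normalizer (W : Set G)) (hap : a ^ p = 1) :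
    ∀ w ∈ W, a * w * a⁻¹ = w := by
  intro w hw
  by_cases hw1 : w = 1
  · subst hw1; group
  haveI : Finite W := Nat.finite_of_card_ne_zero (by rw [hW]; exact hp.out.ne_zero)
  -- `W = zpowers w`
  have how : orderOf w = p := by
    have h1 : orderOf w ∣ p := hW ▸ Subgroup.orderOf_dvd_natCard W hw
    rcases (Nat.dvd_prime hp.out).mp h1 with h | h
    · exact absurd (orderOf_eq_one_iff.mp h) hw1
    · exact h
  have hWz : Subgroup.zpowers w = W := by
    apply Subgroup.eq_of_le_of_card_ge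
    · rw [Subgroup.zpowers_le]; exact hw
    · rw [Nat.card_zpowers, how, hW]
  have hconj : a * w * a⁻¹ ∈ W := (Subgroup.mem_normalizer_iff.mp haN w).mp hw
  rw [← hWz] at hconj
  haveI : Finite (Subgroup.zpowers w) := hWz ▸ ‹Finite W›
  have hfin : IsOfFinOrder w := by
    rw [← orderOf_pos_iff, how]; exact hp.out.pos
  rw [← hfin.mem_powers_iff_mem_zpowers, Submonoid.mem_powers_iff] at hconj
  obtain ⟨k, hk⟩ := hconj
  -- iterate
  have hiter : ∀ n : ℕ, a ^ n * w * (a ^ n)⁻¹ = w ^ (k ^ n) := by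
    intro n
    induction n with
    | zero => simp
    | succ n ih =>
      calc a ^ (n + 1) * w * (a ^ (n + 1))⁻¹ = a * (a ^ n * w * (a ^ n)⁻¹) * a⁻¹ := by
            rw [pow_succ']; group
        _ = a * w ^ (k ^ n) * a⁻¹ := by rw [ih]
        _ = (a * w * a⁻¹) ^ (k ^ n) := by rw [conj_pow]
        _ = (w ^ k) ^ (k ^ n) := by rw [hk]
        _ = w ^ (k ^ (n + 1)) := by rw [← pow_mul, pow_succ']
  have h1 := hiter p
  rw [hap] at h1
  simp only [one_mul, inv_one, mul_one] at h1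
  -- `k ^ p ≡ 1 mod p`
  have h2 : w ^ (k ^ p) = w ^ 1 := by rw [pow_one]; exact h1.symm
  rw [pow_eq_pow_iff_modEq, how] at h2
  have h3 : ((k ^ p : ℕ) : ZMod p) = ((1 : ℕ) : ZMod p) := (ZMod.natCast_eq_natCast_iff _ _ _).mpr h2
  rw [Nat.cast_pow, ZMod.pow_card, Nat.cast_one] at h3
  have h4 : k ≡ 1 [MOD p] := by
    rw [← ZMod.natCast_eq_natCast_iff]; simpa using h3
  have h5 : w ^ k = w ^ 1 := by
    rw [pow_eq_pow_iff_modEq, how]; exact h4
  rw [← hk, h5, pow_one]

/-- elements of the join of a subgroup `Q` and a subgroup `A` normalizing it are products. -/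
theorem exists_mul_of_mem_sup_of_le_normalizer {G : Type*} [Group G] {Q A : Subgroup G}
    (hAQ : A ≤ Subgroup.normalizer (Q : Set G)) {x : G} (hx : x ∈ Q ⊔ A) :
    ∃ q ∈ Q, ∃ a ∈ A, x = q * a := by
  let M : Subgroup G :=
    { carrier := {g | ∃ q ∈ Q, ∃ a ∈ A, g = q * a}
      one_mem' := ⟨1, Q.one_mem, 1, A.one_mem, by simp⟩
      mul_mem' := by
        rintro _ _ ⟨q, hq, a, ha, rfl⟩ ⟨q', hq', a', ha', rfl⟩
        refine ⟨q * (a * q' * a⁻¹), Q.mul_mem hq ((Subgroup.mem_normalizer_iff.mp (hAQ ha) q').mp hq'),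
          a * a', A.mul_mem ha ha', ?_⟩
        group
      inv_mem' := by
        rintro _ ⟨q, hq, a, ha, rfl⟩
        refine ⟨a⁻¹ * q⁻¹ * a⁻¹⁻¹,
          (Subgroup.mem_normalizer_iff.mp (hAQ (A.inv_mem ha)) q⁻¹).mp (Q.inv_mem hq),
          a⁻¹, A.inv_mem ha, ?_⟩
        group }
  have hle : Q ⊔ A ≤ M := by
    apply sup_le
    · intro q hq; exact ⟨q, hq, 1, A.one_mem, by simp⟩
    · intro a ha; exact ⟨1, Q.one_mem, a, ha, by simp⟩
  exact hle hx

/-- the "stability group" of `V ≥ U`: elements normalizing `V` and `U` and acting trivially on `V / U`. -/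
def stabSub {G : Type*} [Group G] (V U : Subgroup G) : Subgroup G where
  carrier := {g | g ∈ Subgroup.normalizer (V : Set G) ∧ g ∈ Subgroup.normalizer (U : Set G) ∧
    ∀ v ∈ V, ⁅v, g⁆ ∈ U}
  one_mem' := ⟨Subgroup.one_mem _, Subgroup.one_mem _, fun v _ => by
    rw [commutatorElement_def]; simp [U.one_mem]⟩
  mul_mem' := by
    rintro g h ⟨hgV, hgU, hg⟩ ⟨hhV, hhU, hh⟩
    refine ⟨Subgroup.mul_mem _ hgV hhV, Subgroup.mul_mem _ hgU hhU, fun v hv => ?_⟩
    have h1 : ⁅v, g * h⁆ = ⁅v, g⁆ * (g * ⁅v, h⁆ * g⁻¹) := by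
      simp only [commutatorElement_def]; group
    rw [h1]
    exact U.mul_mem (hg v hv) ((Subgroup.mem_normalizer_iff.mp hgU _).mp (hh v hv))
  inv_mem' := by
    rintro g ⟨hgV, hgU, hg⟩
    refine ⟨Subgroup.inv_mem _ hgV, Subgroup.inv_mem _ hgU, fun v hv => ?_⟩
    have h1 : ⁅v, g⁻¹⁆ = g⁻¹ * (⁅v, g⁆)⁻¹ * g⁻¹⁻¹ := by
      simp only [commutatorElement_def]; group
    rw [h1]
    exact (Subgroup.mem_normalizer_iff.mp (Subgroup.inv_mem _ hgU) _).mp (U.inv_mem (hg v hv))

theorem mem_stabSub_iff {G : Type*} [Group G] {V U : Subgroup G} {g : G} :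
    g ∈ stabSub V U ↔ g ∈ Subgroup.normalizer (V : Set G) ∧ g ∈ Subgroup.normalizer (U : Set G) ∧
      ∀ v ∈ V, ⁅v, g⁆ ∈ U := Iff.rfl

/-- `A ≤ N(V)` lies in the stability group of `V ≥ U` as soon as `[V, A] ≤ U ≤ V`. -/
theorem le_stabSub {G : Type*} [Group G] {V U A : Subgroup G} (hAV : A ≤ Subgroup.normalizer (V : Set G))
    (hUV : U ≤ V) (hVA : ⁅V, A⁆ ≤ U) : A ≤ stabSub V U := by
  intro a ha
  have hconj : ∀ a ∈ A, ∀ u ∈ U, a * u * a⁻¹ ∈ U := by
    intro a ha u hu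
    have h1 : ⁅u, a⁆ ∈ U := hVA (Subgroup.commutator_mem_commutator (hUV hu) ha)
    have h2 : a * u * a⁻¹ = (⁅u, a⁆)⁻¹ * u := by
      simp only [commutatorElement_def]; group
    rw [h2]
    exact U.mul_mem (U.inv_mem h1) hu
  refine ⟨hAV ha, ?_, fun v hv => hVA (Subgroup.commutator_mem_commutator hv ha)⟩
  rw [Subgroup.mem_normalizer_iff]
  intro u
  constructor
  · exact hconj a ha u
  · intro h
    have := hconj a⁻¹ (A.inv_mem ha) _ h
    simpa [mul_assoc] using this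

/-- `[V, A ⊔ B] = [V, A] ⊔ [V, B]` when `A`, `B` normalize `V`. -/
theorem commutator_sup_eq {G : Type*} [Group G] {V A B : Subgroup G}
    (hAV : A ≤ Subgroup.normalizer (V : Set G)) (hBV : B ≤ Subgroup.normalizer (V : Set G)) :
    ⁅V, A ⊔ B⁆ = ⁅V, A⁆ ⊔ ⁅V, B⁆ := by
  have hVA : ⁅V, A⁆ ≤ V := by
    rw [Subgroup.commutator_le]
    intro v hv a ha
    rw [commutatorElement_def]
    have := (Subgroup.mem_normalizer_iff.mp (hAV ha) v⁻¹).mp (V.inv_mem hv)
    have h2 : v * a * v⁻¹ * a⁻¹ = v * (a * v⁻¹ * a⁻¹) := by group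
    rw [h2]; exact V.mul_mem hv this
  have hVB : ⁅V, B⁆ ≤ V := by
    rw [Subgroup.commutator_le]
    intro v hv a ha
    rw [commutatorElement_def]
    have := (Subgroup.mem_normalizer_iff.mp (hBV ha) v⁻¹).mp (V.inv_mem hv)
    have h2 : v * a * v⁻¹ * a⁻¹ = v * (a * v⁻¹ * a⁻¹) := by group
    rw [h2]; exact V.mul_mem hv this
  apply le_antisymm
  · have hA : A ≤ stabSub V (⁅V, A⁆ ⊔ ⁅V, B⁆) := le_stabSub hAV (sup_le hVA hVB) le_sup_left
    have hB : B ≤ stabSub V (⁅V, A⁆ ⊔ ⁅V, B⁆) := le_stabSub hBV (sup_le hVA hVB) le_sup_right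
    rw [Subgroup.commutator_le]
    intro v hv d hd
    exact ((sup_le hA hB) hd).2.2 v hv
  · exact sup_le (Subgroup.commutator_mono le_rfl le_sup_left) (Subgroup.commutator_mono le_rfl le_sup_right)

/-- an element of the stability group of `V ≥ U` centralizing `U` has `p`-th power centralizing `V`
(when `U` has exponent `p`). -/
theorem pow_mem_centralizer_of_mem_stabSub {G : Type*} [Group G] {p : ℕ} {V U : Subgroup G} {g : G}
    (hg : g ∈ stabSub V U) (hU : ∀ u ∈ U, u ^ p = 1) (hgU : ∀ u ∈ U, g * u = u * g) :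
    g ^ p ∈ Subgroup.centralizer (V : Set G) := by
  rw [Subgroup.mem_centralizer_iff]
  intro v hv
  -- `g ^ n v g ^ -n = u ^ n v` where `u = g v g⁻¹ v⁻¹`
  set u := g * v * g⁻¹ * v⁻¹ with hu
  have huU : u ∈ U := by
    have h1 := hg.2.2 v hv
    have h2 : u = (⁅v, g⁆)⁻¹ := by
      simp only [hu, commutatorElement_def]; group
    rw [h2]; exact U.inv_mem h1
  have hgu : g * u = u * g := hgU u huU
  have hiter : ∀ n : ℕ, g ^ n * v = u ^ n * v * g ^ n := by
    intro n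
    induction n with
    | zero => simp
    | succ n ih =>
      have hgun : g * u ^ n = u ^ n * g := (Commute.pow_right (show Commute g u from hgu) n).eq
      calc g ^ (n + 1) * v = g * (g ^ n * v) := by rw [pow_succ']; group
        _ = g * (u ^ n * v * g ^ n) := by rw [ih]
        _ = (g * u ^ n) * v * g ^ n := by group
        _ = u ^ n * (g * v * g⁻¹ * v⁻¹) * v * g * g ^ n := by rw [hgun]; group
        _ = u ^ n * u * v * (g * g ^ n) := by rw [← hu]; group
        _ = u ^ (n + 1) * v * g ^ (n + 1) := by rw [← pow_succ, ← pow_succ']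
  have := hiter p
  rw [hU u huU, one_mul] at this
  exact this.symm

end Cfsg.Agent.Helper11
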