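import Mathlib
import Cfsg.Agent.Helper58.PADefs

/-!
# Piece (L2) for S4016 (helper58): the local structure of `M = N_G(P)` in a minimal counterexample
-/

set_option autoImplicit false

namespace Cfsg.Agent.Helper11.PAL2

open Cfsg.Agent.Helper58.PA

/-- In a finite cyclic group, subgroups of the same order are equal. -/
theorem subgroup_eq_of_card_eq {C : Type*} [Group C] [Finite C] [IsCyclic C] (H K : Subgroup C)
    (h : Nat.card H = Nat.card K) : H = K := by
  classical
  have := Fintype.ofFinite C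
  have hn : 0 < Nat.card H := Nat.card_pos
  have key : ∀ L : Subgroup C, Nat.card L = Nat.card H →
      (L : Set C) = ((Finset.univ.filter fun a : C => a ^ Nat.card H = 1 : Finset C) : Set C) := by
    intro L hL
    refine Set.eq_of_subset_of_ncard_le ?_ ?_ (Set.toFinite _)
    · intro a ha
      have h1 : (⟨a, ha⟩ : L) ^ Nat.card L = 1 := pow_card_eq_one'
      have h2 : a ^ Nat.card L = 1 := congrArg Subtype.val h1
      rw [hL] at h2
      simpa using h2
    · rw [Set.ncard_coe_finset]
      have h1 := IsCyclic.card_pow_eq_one_le (α := C) hn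
      have h2 : (L : Set C).ncard = Nat.card H := hL
      rw [h2]
      exact h1
  exact SetLike.coe_injective ((key H rfl).trans (key K h.symm).symm)

section aux

variable {G : Type*} [Group G]

theorem eq_of_card_eq_of_le_cyclic [Finite G] {P A B : Subgroup G} (hcyc : IsCyclic P)
    (hA : A ≤ P) (hB : B ≤ P) (h : Nat.card A = Nat.card B) : A = B := by
  have h1 : Nat.card (A.subgroupOf P) = Nat.card A :=
    Nat.card_congr (Subgroup.subgroupOfEquivOfLe hA).toEquiv
  have h2 : Nat.card (B.subgroupOf P) = Nat.card B :=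
    Nat.card_congr (Subgroup.subgroupOfEquivOfLe hB).toEquiv
  have := subgroup_eq_of_card_eq (A.subgroupOf P) (B.subgroupOf P) (by rw [h1, h2, h])
  rw [Subgroup.subgroupOf_inj] at this
  rwa [inf_of_le_left hA, inf_of_le_left hB] at this

/-- An element of `H` whose order is coprime to the index of the normal subgroup `N` of `H`
lies in `N`. -/
theorem mem_of_coprime_relIndex {H N : Subgroup G} (hNH : N ≤ H)
    (hnorm : H ≤ Subgroup.normalizer (N : Set G)) {x : G} (hx : x ∈ H)
    (hcop : (orderOf x).Coprime (N.relIndex H)) : x ∈ N := by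
  have : (N.subgroupOf H).Normal := (Subgroup.normal_subgroupOf_iff_le_normalizer hNH).2 hnorm
  have h1 : orderOf (QuotientGroup.mk' (N.subgroupOf H) ⟨x, hx⟩) ∣ orderOf x := by
    have := orderOf_map_dvd (QuotientGroup.mk' (N.subgroupOf H)) (⟨x, hx⟩ : H)
    rwa [Subgroup.orderOf_mk] at this
  have h2 : orderOf (QuotientGroup.mk' (N.subgroupOf H) ⟨x, hx⟩) ∣ N.relIndex H := by
    show orderOf _ ∣ Nat.card (H ⧸ N.subgroupOf H)
    exact orderOf_dvd_natCard _
  have h3 := Nat.dvd_gcd h1 h2
  rw [Nat.Coprime.gcd_eq_one hcop, Nat.dvd_one, orderOf_eq_one_iff] at h3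
  have h4 : (⟨x, hx⟩ : H) ∈ N.subgroupOf H := by
    rw [← QuotientGroup.eq_one_iff]
    exact h3
  exact h4

end aux

variable {p : ℕ} [Fact p.Prime] {G : Type*} [Group G] [Finite G]

set_option maxHeartbeats 800000 in
theorem loc_rest (c : Ctx p G) (P : Sylow p G) (K : Subgroup G) (h0 : Loc0 p P K) :
    (∀ P₁ : Subgroup G, P₁ ≤ (P : Subgroup G) → P₁ ≠ ⊥ →
      Subgroup.normalizer (P₁ : Set G) = Subgroup.normalizer ((P : Subgroup G) : Set G)) ∧
    (∀ x ∈ (P : Subgroup G), x ≠ 1 →
      Subgroup.centralizer ({x} : Set G) ≤ Subgroup.normalizer ((P : Subgroup G) : Set G)) ∧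
    (∀ g x : G, x ∈ (P : Subgroup G) → x ≠ 1 → g * x * g⁻¹ ∈ (P : Subgroup G) →
      g ∈ Subgroup.normalizer ((P : Subgroup G) : Set G)) ∧
    (∀ d ∈ K, d ∈ Subgroup.centralizer ((P : Subgroup G) : Set G) → d ≠ 1 →
      Subgroup.centralizer ({d} : Set G) = Subgroup.normalizer ((P : Subgroup G) : Set G)) := by
  classical
  have hp : p.Prime := Fact.out
  set M : Subgroup G := Subgroup.normalizer ((P : Subgroup G) : Set G) with hM
  have hPM : (P : Subgroup G) ≤ M := Subgroup.le_normalizer
  have hcycP : IsCyclic (P : Subgroup G) := c.hyp.1 P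
  have hPcomm : ∀ a ∈ (P : Subgroup G), ∀ b ∈ (P : Subgroup G), a * b = b * a := by
    intro a ha b hb
    have := Std.Commutative.comm (op := fun x y : (P : Subgroup G) => x * y) ⟨a, ha⟩ ⟨b, hb⟩
    exact congrArg Subtype.val this
  obtain ⟨a0, b0, hab0⟩ := c.nonab
  have hsimple : ∀ N : Subgroup G, N.Normal → N = ⊥ ∨ N = ⊤ := fun N hN => by
    have := c.simple
    exact hN.eq_bot_or_eq_top
  have hPtop : ∀ P₁ : Subgroup G, P₁ ≤ (P : Subgroup G) → P₁ ≠ ⊤ := by
    intro P₁ hle htop
    apply hab0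
    have ha : a0 ∈ (P : Subgroup G) := hle (by rw [htop]; exact Subgroup.mem_top a0)
    have hb : b0 ∈ (P : Subgroup G) := hle (by rw [htop]; exact Subgroup.mem_top b0)
    exact hPcomm a0 ha b0 hb
  have hPord : ∀ x ∈ (P : Subgroup G), ∃ k : ℕ, orderOf x = p ^ k := by
    intro x hx
    obtain ⟨k, hk⟩ := (IsPGroup.iff_orderOf.1 P.isPGroup') ⟨x, hx⟩
    rw [Subgroup.orderOf_mk] at hk
    exact ⟨k, hk⟩
  -- a p-element of a p'-subgroup is trivial
  have hPp' : ∀ T : Subgroup G, ¬ p ∣ Nat.card T → ∀ x : G, (∃ k : ℕ, orderOf x = p ^ k) →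
      x ∈ T → x = 1 := by
    intro T hT x hxo hxT
    obtain ⟨k, hk⟩ := hxo
    have h1 : orderOf (⟨x, hxT⟩ : T) ∣ Nat.card T := orderOf_dvd_natCard _
    rw [Subgroup.orderOf_mk, hk] at h1
    rcases Nat.eq_zero_or_pos k with rfl | hk0
    · rw [pow_zero, orderOf_eq_one_iff] at hk
      exact hk
    · exact absurd (dvd_trans (dvd_pow_self p hk0.ne') h1) hT
  -- elements of p'-subgroups have order coprime to p
  have hcopK : ∀ y ∈ K, (orderOf y).Coprime p := by
    intro y hy
    apply Nat.Coprime.symm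
    rw [Nat.Prime.coprime_iff_not_dvd hp]
    intro hdvd
    apply h0.K_p'
    have h1 : orderOf (⟨y, hy⟩ : K) ∣ Nat.card K := orderOf_dvd_natCard _
    rw [Subgroup.orderOf_mk] at h1
    exact dvd_trans hdvd h1
  -- relIndex of P in M
  have hrel : (P : Subgroup G).relIndex M = Nat.card K := by
    have h1 := Subgroup.card_mul_index ((P : Subgroup G).subgroupOf M)
    have h2 : Nat.card ((P : Subgroup G).subgroupOf M) = Nat.card (P : Subgroup G) :=
      Nat.card_congr (Subgroup.subgroupOfEquivOfLe hPM).toEquiv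
    rw [h2, h0.card_M] at h1
    have hpos : 0 < Nat.card (P : Subgroup G) := Nat.card_pos
    exact Nat.eq_of_mul_eq_mul_left hpos h1
  -- p-elements of M lie in P
  have hpM : ∀ y ∈ M, (∃ k : ℕ, orderOf y = p ^ k) → y ∈ (P : Subgroup G) := by
    rintro y hy ⟨k, hk⟩
    apply mem_of_coprime_relIndex hPM le_rfl hy
    rw [hrel, hk]
    apply Nat.Coprime.pow_left
    exact (Nat.Prime.coprime_iff_not_dvd hp).2 h0.K_p'
  -- maximality of M
  have hMAX : ∀ H : Subgroup G, H ≠ ⊤ → M ≤ H → H = M := by
    intro H hH hMH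
    rcases c.sub H hH with ⟨T, hTH, hHT, hTp, k, hk⟩ | ⟨S, hSH, hHS, hSp, hSrel⟩
    · exfalso
      apply h0.K_not_cent
      have hKT : K ≤ T := by
        intro y hy
        apply mem_of_coprime_relIndex hTH hHT (hMH (h0.K_le hy))
        rw [hk]
        exact Nat.Coprime.pow_right _ (hcopK y hy)
      intro y hy
      rw [Subgroup.mem_centralizer_iff]
      intro x hx
      have hxT : x * y * x⁻¹ ∈ T :=
        (Subgroup.mem_normalizer_iff.1 (hHT (hMH (hPM hx))) y).1 (hKT hy)
      have hwT : x * y * x⁻¹ * y⁻¹ ∈ T := T.mul_mem hxT (T.inv_mem (hKT hy))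
      have hyP : y * x⁻¹ * y⁻¹ ∈ (P : Subgroup G) :=
        (Subgroup.mem_normalizer_iff.1 (h0.K_le hy) x⁻¹).1 (inv_mem hx)
      have hwP : x * y * x⁻¹ * y⁻¹ ∈ (P : Subgroup G) := by
        have : x * y * x⁻¹ * y⁻¹ = x * (y * x⁻¹ * y⁻¹) := by group
        rw [this]
        exact mul_mem hx hyP
      have h1 := hPp' T hTp _ (hPord _ hwP) hwT
      calc x * y = (x * y * x⁻¹ * y⁻¹) * (y * x) := by group
        _ = y * x := by rw [h1, one_mul]
    · have hPS : (P : Subgroup G) ≤ S := by
        intro x hx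
        apply mem_of_coprime_relIndex hSH hHS (hMH (hPM hx))
        obtain ⟨k, hk⟩ := hPord x hx
        rw [hk]
        apply Nat.Coprime.pow_left
        exact (Nat.Prime.coprime_iff_not_dvd hp).2 hSrel
      have hSP : S = (P : Subgroup G) := P.is_maximal' hSp hPS
      apply le_antisymm _ hMH
      rw [hM, ← hSP]
      exact hHS
  -- (1)
  have h1 : ∀ P₁ : Subgroup G, P₁ ≤ (P : Subgroup G) → P₁ ≠ ⊥ →
      Subgroup.normalizer (P₁ : Set G) = M := by
    intro P₁ hle hne
    apply hMAX
    · intro htop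
      rw [Subgroup.normalizer_eq_top_iff] at htop
      rcases hsimple P₁ htop with h | h
      · exact hne h
      · exact hPtop P₁ hle h
    · intro g hg
      have hmap : P₁.map (MulAut.conj g).toMonoidHom = P₁ := by
        apply eq_of_card_eq_of_le_cyclic hcycP _ hle _
        · rintro _ ⟨y, hy, rfl⟩
          exact (Subgroup.mem_normalizer_iff.1 hg y).1 (hle hy)
        · exact Nat.card_congr
            (Subgroup.equivMapOfInjective P₁ _ (MulAut.conj g).injective).symm.toEquiv
      rw [Subgroup.mem_normalizer_iff]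
      intro y
      constructor
      · intro hy
        have : g * y * g⁻¹ ∈ P₁.map (MulAut.conj g).toMonoidHom := ⟨y, hy, by simp⟩
        rwa [hmap] at this
      · intro hy
        rw [← hmap] at hy
        obtain ⟨z, hz, hzy⟩ := hy
        have hzy' : g * z * g⁻¹ = g * y * g⁻¹ := by simpa using hzy
        have : z = y := by
          have h2 := congrArg (fun w => g⁻¹ * w * g) hzy'
          simpa [mul_assoc] using h2
        rwa [← this]
  -- (2)
  have h2 : ∀ x ∈ (P : Subgroup G), x ≠ 1 → Subgroup.centralizer ({x} : Set G) ≤ M := by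
    intro x hx hx1
    rw [← h1 (Subgroup.zpowers x) (Subgroup.zpowers_le.2 hx) (Subgroup.zpowers_ne_bot.2 hx1)]
    intro g hg
    rw [Subgroup.mem_centralizer_singleton_iff] at hg
    have hcomm : ∀ y ∈ Subgroup.zpowers x, g * y * g⁻¹ = y := by
      intro y hy
      obtain ⟨n, rfl⟩ := Subgroup.mem_zpowers_iff.1 hy
      have : Commute g (x ^ n) := (show Commute g x from hg).zpow_right n
      rw [this.eq]; group
    rw [Subgroup.mem_normalizer_iff]
    intro y
    constructor
    · intro hy
      rw [hcomm y hy]; exact hy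
    · intro hy
      have h3 := hcomm _ hy
      have h4 : g * y * g⁻¹ = y := by
        have := congrArg (fun w => g⁻¹ * w * g) h3
        simpa [mul_assoc] using this
      rwa [h4] at hy
  -- conjugation by g maps P into P as soon as it maps one nonidentity element into P
  have hconjP : ∀ g x : G, x ∈ (P : Subgroup G) → x ≠ 1 → g * x * g⁻¹ ∈ (P : Subgroup G) →
      ∀ y ∈ (P : Subgroup G), g * y * g⁻¹ ∈ (P : Subgroup G) := by
    intro g x hx hx1 hgx y hy
    have hgx1 : g * x * g⁻¹ ≠ 1 := by
      intro h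
      apply hx1
      calc x = g⁻¹ * (g * x * g⁻¹) * g := by group
        _ = 1 := by rw [h]; group
    have hyM : g * y * g⁻¹ ∈ M := by
      apply h2 _ hgx hgx1
      rw [Subgroup.mem_centralizer_singleton_iff]
      calc g * y * g⁻¹ * (g * x * g⁻¹) = g * (y * x) * g⁻¹ := by group
        _ = g * (x * y) * g⁻¹ := by rw [hPcomm y hy x hx]
        _ = g * x * g⁻¹ * (g * y * g⁻¹) := by group
    apply hpM _ hyM
    obtain ⟨k, hk⟩ := hPord y hy
    refine ⟨k, ?_⟩
    rw [← hk]
    have := (MulAut.conj g).orderOf_eq y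
    simpa using this
  -- (3)
  have h3 : ∀ g x : G, x ∈ (P : Subgroup G) → x ≠ 1 → g * x * g⁻¹ ∈ (P : Subgroup G) →
      g ∈ M := by
    intro g x hx hx1 hgx
    have hgx1 : g * x * g⁻¹ ≠ 1 := by
      intro h
      apply hx1
      calc x = g⁻¹ * (g * x * g⁻¹) * g := by group
        _ = 1 := by rw [h]; group
    have hback : g⁻¹ * (g * x * g⁻¹) * g⁻¹⁻¹ ∈ (P : Subgroup G) := by
      have : g⁻¹ * (g * x * g⁻¹) * g⁻¹⁻¹ = x := by group
      rw [this]; exact hx
    rw [hM, Subgroup.mem_normalizer_iff]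
    intro y
    constructor
    · intro hy
      exact hconjP g x hx hx1 hgx y hy
    · intro hy
      have := hconjP g⁻¹ (g * x * g⁻¹) hgx hgx1 hback _ hy
      have h4 : g⁻¹ * (g * y * g⁻¹) * g⁻¹⁻¹ = y := by group
      rwa [h4] at this
  -- M = P ⊔ K
  have hsup : (P : Subgroup G) ⊔ K = M := by
    apply Subgroup.eq_of_le_of_card_ge (sup_le hPM h0.K_le)
    rw [h0.card_M]
    obtain ⟨n, hn⟩ := P.isPGroup'.exists_card_eq
    have hcop : (Nat.card (P : Subgroup G)).Coprime (Nat.card K) := by
      rw [hn]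
      apply Nat.Coprime.pow_left
      exact (Nat.Prime.coprime_iff_not_dvd hp).2 h0.K_p'
    have hd1 : Nat.card (P : Subgroup G) ∣ Nat.card ((P : Subgroup G) ⊔ K : Subgroup G) :=
      Subgroup.card_dvd_of_le le_sup_left
    have hd2 : Nat.card K ∣ Nat.card ((P : Subgroup G) ⊔ K : Subgroup G) :=
      Subgroup.card_dvd_of_le le_sup_right
    exact Nat.le_of_dvd Nat.card_pos (hcop.mul_dvd_of_dvd_of_dvd hd1 hd2)
  refine ⟨h1, h2, h3, ?_⟩
  -- (4)
  intro d hdK hdC hd1
  apply hMAX
  · intro htop
    have hdcen : d ∈ Subgroup.center G := by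
      rw [Subgroup.mem_center_iff]
      intro g
      have : g ∈ Subgroup.centralizer ({d} : Set G) := by rw [htop]; exact Subgroup.mem_top g
      exact Subgroup.mem_centralizer_singleton_iff.1 this
    rcases hsimple (Subgroup.center G) inferInstance with h | h
    · rw [h, Subgroup.mem_bot] at hdcen
      exact hd1 hdcen
    · apply hab0
      have : b0 ∈ Subgroup.center G := by rw [h]; exact Subgroup.mem_top b0
      exact (Subgroup.mem_center_iff.1 this a0)
  · rw [← hsup]
    apply sup_le
    · intro x hx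
      rw [Subgroup.mem_centralizer_singleton_iff]
      exact (Subgroup.mem_centralizer_iff.1 hdC x hx)
    · intro y hy
      rw [Subgroup.mem_centralizer_singleton_iff]
      exact h0.K_comm y hy d hdK

end Cfsg.Agent.Helper11.PAL2
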