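import Mathlib
import Cfsg.Agent.Helper58.PADefs
import Cfsg.Agent.Helper11.PAL2

/-!
# Piece (C1) for S4016 (helper58): a `p`-group `Z ≠ 1` normalizing `K` and acting
fixed-point-freely on it.
-/

set_option autoImplicit false

namespace Cfsg.Agent.Helper11.PAC1

open Cfsg.Agent.Helper58.PA

variable {p : ℕ} [Fact p.Prime] {G : Type*} [Group G] [Finite G]

set_option maxHeartbeats 800000 in
theorem exists_Z (c : Ctx p G) (P : Sylow p G) (K : Subgroup G) (hL : Loc p P K)
    (hsyl : ∀ (q : ℕ) [Fact q.Prime], q ≠ p → ∀ Q : Sylow q G, (Q : Subgroup G) ≠ ⊥ →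
      SylQ p (Q : Subgroup G))
    (d : G) (hdK : d ∈ K) (hdc : d ∈ Subgroup.centralizer ((P : Subgroup G) : Set G)) (s : ℕ)
    [Fact s.Prime] (hs : orderOf d = s) :
    (Nat.card G).factorization s = (Nat.card K).factorization s ∧
    ∃ Z : Subgroup G, IsPGroup p Z ∧ Z ≠ ⊥ ∧ Z ≤ Subgroup.normalizer (K : Set G) ∧
      ∀ z ∈ Z, z ≠ 1 → ∀ w ∈ K, z * w = w * z → w = 1 := by
  classical
  have hp : p.Prime := Fact.out
  have hs' : s.Prime := Fact.out
  set M : Subgroup G := Subgroup.normalizer ((P : Subgroup G) : Set G) with hM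
  have hd1 : d ≠ 1 := by
    rintro rfl
    rw [orderOf_one] at hs
    exact hs'.one_lt.ne hs
  have hsK : s ∣ Nat.card K := by
    have h1 : orderOf (⟨d, hdK⟩ : K) ∣ Nat.card K := orderOf_dvd_natCard _
    rwa [Subgroup.orderOf_mk, hs] at h1
  have hsp : s ≠ p := by
    rintro rfl
    exact hL.K_p' hsK
  have hcent : Subgroup.centralizer ({d} : Set G) = M := hL.cent_K0 d hdK hdc hd1
  have hK0 : Nat.card K ≠ 0 := Nat.card_pos.ne'
  have hG0 : Nat.card G ≠ 0 := Nat.card_pos.ne'
  obtain ⟨n, hn⟩ := P.isPGroup'.exists_card_eq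
  -- a p'-subgroup of M has order dividing |K|
  have hdvdK : ∀ B : Subgroup G, B ≤ M → ¬ p ∣ Nat.card B → Nat.card B ∣ Nat.card K := by
    intro B hBM hBp
    have h1 : Nat.card B ∣ Nat.card M := Subgroup.card_dvd_of_le hBM
    rw [hM, hL.card_M] at h1
    have hcop : (Nat.card B).Coprime (Nat.card (P : Subgroup G)) := by
      rw [hn]
      exact Nat.Coprime.pow_right n ((Nat.Prime.coprime_iff_not_dvd hp).2 hBp).symm
    exact hcop.dvd_of_dvd_mul_left h1
  -- part 1 : the factorization equality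
  have hfac : (Nat.card G).factorization s = (Nat.card K).factorization s := by
    have hzs : IsPGroup s (Subgroup.zpowers d) :=
      IsPGroup.of_card (n := 1) (by rw [Nat.card_zpowers, hs, pow_one])
    obtain ⟨S', hS'⟩ := hzs.exists_le_sylow
    have hS'card := S'.card_eq_multiplicity
    have hS'p : ¬ p ∣ Nat.card (S' : Subgroup G) := by
      rw [hS'card]
      intro h
      have := hp.dvd_of_dvd_pow h
      exact hsp ((Nat.prime_dvd_prime_iff_eq hp hs').1 this).symm
    have hS'comm := c.hyp.2 (S' : Subgroup G) hS'p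
    have hS'M : (S' : Subgroup G) ≤ M := by
      rw [← hcent]
      intro y hy
      rw [Subgroup.mem_centralizer_singleton_iff]
      have hdS : d ∈ (S' : Subgroup G) := hS' (Subgroup.mem_zpowers d)
      have := hS'comm.is_comm.comm (⟨y, hy⟩ : (S' : Subgroup G)) ⟨d, hdS⟩
      exact congrArg Subtype.val this
    have h1 := hdvdK _ hS'M hS'p
    rw [hS'card] at h1
    have h2 : (Nat.card G).factorization s ≤ (Nat.card K).factorization s :=
      (hs'.pow_dvd_iff_le_factorization hK0).1 h1
    have h3 : (Nat.card K).factorization s ≤ (Nat.card G).factorization s :=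
      (Nat.factorization_le_iff_dvd hK0 hG0).2 (Subgroup.card_subgroup_dvd_card K) s
    exact le_antisymm h2 h3
  refine ⟨hfac, ?_⟩
  -- a Sylow s-subgroup of K, as a Sylow subgroup of G
  obtain ⟨S0⟩ : Nonempty (Sylow s K) := inferInstance
  set S : Subgroup G := (S0 : Subgroup K).map K.subtype with hS
  have hSK : S ≤ K := by
    rintro _ ⟨y, -, rfl⟩
    exact y.2
  have hScard : Nat.card S = s ^ (Nat.card G).factorization s := by
    rw [hS, Subgroup.card_map_of_injective K.subtype_injective, S0.card_eq_multiplicity, hfac]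
  set Q : Sylow s G := Sylow.ofCard S hScard with hQ
  have hQS : (Q : Subgroup G) = S := Sylow.coe_ofCard S hScard
  have hQne : (Q : Subgroup G) ≠ ⊥ := by
    rw [hQS]
    intro hbot
    rw [hbot, Subgroup.card_bot] at hScard
    have hpos : 0 < (Nat.card G).factorization s := by
      rw [hfac]
      exact hs'.factorization_pos_of_dvd hK0 hsK
    have := Nat.one_lt_pow hpos.ne' hs'.one_lt
    omega
  obtain ⟨B, Z, hQB, hBcomm, hBp, hZp, hZ1, hBN, hZN, hNB, hcardN, hfpf⟩ := hsyl s hsp Q hQne
  rw [hQS] at hQB hBN hZN hNB hcardN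
  -- K ≤ N(S)
  have hKN : K ≤ Subgroup.normalizer (S : Set G) := by
    intro k hk
    have hfix : ∀ y ∈ K, k * y * k⁻¹ = y := by
      intro y hy
      rw [hL.K_comm k hk y hy]; group
    rw [Subgroup.mem_normalizer_iff]
    intro y
    constructor
    · intro hy
      rw [hfix y (hSK hy)]; exact hy
    · intro hy
      have hyK : y ∈ K := by
        have h1 : k⁻¹ * (k * y * k⁻¹) * k ∈ K :=
          K.mul_mem (K.mul_mem (K.inv_mem hk) (hSK hy)) hk
        have h2 : k⁻¹ * (k * y * k⁻¹) * k = y := by group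
        rwa [h2] at h1
      rwa [hfix y hyK] at hy
  -- relIndex of B in N(S)
  have hrel : B.relIndex (Subgroup.normalizer (S : Set G)) = Nat.card Z := by
    have h1 := Subgroup.card_mul_index (B.subgroupOf (Subgroup.normalizer (S : Set G)))
    have h2 : Nat.card (B.subgroupOf (Subgroup.normalizer (S : Set G))) = Nat.card B :=
      Nat.card_congr (Subgroup.subgroupOfEquivOfLe hBN).toEquiv
    rw [h2, hcardN] at h1
    have hpos : 0 < Nat.card B := Nat.card_pos
    exact Nat.eq_of_mul_eq_mul_left hpos h1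
  obtain ⟨m, hm⟩ := hZp.exists_card_eq
  -- K ≤ B
  have hKB : K ≤ B := by
    intro k hk
    apply Cfsg.Agent.Helper11.PAL2.mem_of_coprime_relIndex hBN hNB (hKN hk)
    rw [hrel, hm]
    apply Nat.Coprime.pow_right
    apply Nat.Coprime.symm
    rw [Nat.Prime.coprime_iff_not_dvd hp]
    intro hdvd
    apply hL.K_p'
    have h1 : orderOf (⟨k, hk⟩ : K) ∣ Nat.card K := orderOf_dvd_natCard _
    rw [Subgroup.orderOf_mk] at h1
    exact dvd_trans hdvd h1
  -- B ≤ M
  have hBM : B ≤ M := by
    rw [← hcent]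
    intro y hy
    rw [Subgroup.mem_centralizer_singleton_iff]
    exact hBcomm y hy d (hKB hdK)
  have hBK : K = B := by
    apply Subgroup.eq_of_le_of_card_ge hKB
    exact Nat.le_of_dvd Nat.card_pos (hdvdK B hBM hBp)
  refine ⟨Z, hZp, hZ1, ?_, ?_⟩
  · rw [hBK]
    exact le_trans hZN hNB
  · intro z hz hz1 w hw hzw
    rw [hBK] at hw
    exact hfpf z hz hz1 w hw hzw

end Cfsg.Agent.Helper11.PAC1
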