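import Mathlib

/-!
# Piece (CYC) for S4016 (helper58): a `p'`-element normalizing a cyclic `p`-group `P` and
centralizing a non-identity element of `P` centralizes `P`.
-/

set_option autoImplicit false

namespace Cfsg.Agent.Helper11.PACYC

variable {p : ℕ} [Fact p.Prime] {G : Type*} [Group G] [Finite G]

theorem cyclic_coprime_centralizes (P : Subgroup G) (hP : IsPGroup p P) (hcyc : IsCyclic P)
    (h : G) (hh : h ∈ Subgroup.normalizer (P : Set G)) (hcop : (orderOf h).Coprime p) (x : G)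
    (hxP : x ∈ P) (hx1 : x ≠ 1) (hx : h * x = x * h) : ∀ y ∈ P, h * y = y * h := by
  classical
  have hp : p.Prime := Fact.out
  -- the order of P
  obtain ⟨n, hn⟩ := hP.exists_card_eq
  have hn0 : n ≠ 0 := by
    rintro rfl
    rw [pow_zero] at hn
    have : Subsingleton P := (Nat.card_eq_one_iff_unique.1 hn).1
    have h1 : (⟨x, hxP⟩ : P) = 1 := Subsingleton.elim _ _
    exact hx1 (congrArg Subtype.val h1)
  obtain ⟨n', rfl⟩ := Nat.exists_eq_succ_of_ne_zero hn0
  -- conjugation by h as an endomorphism of P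
  have hconj : ∀ y ∈ P, h * y * h⁻¹ ∈ P := fun y hy => (Subgroup.mem_normalizer_iff.1 hh y).1 hy
  let σ : P →* P :=
    { toFun := fun y => ⟨h * y * h⁻¹, hconj y y.2⟩
      map_one' := by
        apply Subtype.ext
        show h * ((1 : P) : G) * h⁻¹ = ((1 : P) : G)
        rw [Subgroup.coe_one]; group
      map_mul' := by
        intro a b
        apply Subtype.ext
        show h * ((a * b : P) : G) * h⁻¹ = (h * (a : G) * h⁻¹) * (h * (b : G) * h⁻¹)
        rw [Subgroup.coe_mul]; group }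
  obtain ⟨r, hr⟩ := MonoidHom.map_cyclic σ
  have hr' : ∀ y ∈ P, h * y * h⁻¹ = y ^ r := by
    intro y hy
    have := congrArg Subtype.val (hr ⟨y, hy⟩)
    simpa [σ] using this
  -- p ∣ r - 1
  have hpr : ((p : ℕ) : ℤ) ∣ r - 1 := by
    have hxr : x ^ r = x := by
      rw [← hr' x hxP, hx]; group
    have hx1' : x ^ (r - 1) = 1 := by
      rw [zpow_sub, hxr, zpow_one, mul_inv_cancel]
    have hdvd : (orderOf x : ℤ) ∣ r - 1 := orderOf_dvd_iff_zpow_eq_one.2 hx1'
    obtain ⟨j, hj⟩ := (IsPGroup.iff_orderOf.1 hP) ⟨x, hxP⟩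
    rw [Subgroup.orderOf_mk] at hj
    have hj0 : j ≠ 0 := by
      rintro rfl
      rw [pow_zero, orderOf_eq_one_iff] at hj
      exact hx1 hj
    have : (p : ℤ) ∣ (orderOf x : ℤ) := by
      rw [hj]
      exact_mod_cast dvd_pow_self p hj0
    exact dvd_trans this hdvd
  -- p ^ (n'+1) ∣ r ^ (p ^ n') - 1
  have hbig : ((p : ℤ) ^ (n' + 1)) ∣ r ^ p ^ n' - 1 := by
    have := dvd_sub_pow_of_dvd_sub (R := ℤ) (p := p) (a := r) (b := 1) hpr n'
    rwa [one_pow] at this
  -- iterated conjugation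
  have hiter : ∀ j : ℕ, ∀ y ∈ P, h ^ j * y * (h ^ j)⁻¹ = y ^ (r ^ j) := by
    intro j
    induction j with
    | zero => intro y _; simp
    | succ j ih =>
      intro y hy
      have hyr : y ^ r ∈ P := P.zpow_mem hy r
      calc h ^ (j + 1) * y * (h ^ (j + 1))⁻¹ = h ^ j * (h * y * h⁻¹) * (h ^ j)⁻¹ := by
            rw [pow_succ]; group
        _ = h ^ j * (y ^ r) * (h ^ j)⁻¹ := by rw [hr' y hy]
        _ = (y ^ r) ^ (r ^ j) := ih _ hyr
        _ = y ^ (r ^ (j + 1)) := by rw [← zpow_mul, pow_succ, mul_comm]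
  -- h ^ (p ^ n') centralizes P
  have hcent : ∀ y ∈ P, h ^ (p ^ n') * y * (h ^ (p ^ n'))⁻¹ = y := by
    intro y hy
    rw [hiter _ y hy]
    have hy1 : y ^ (Nat.card P) = 1 := by
      have := pow_card_eq_one' (G := P) (x := ⟨y, hy⟩)
      exact congrArg Subtype.val this
    obtain ⟨e, he⟩ := hbig
    have : r ^ p ^ n' = 1 + ((p : ℤ) ^ (n' + 1)) * e := by rw [← he]; ring
    rw [this, zpow_add, zpow_one, zpow_mul]
    have : y ^ ((p : ℤ) ^ (n' + 1)) = 1 := by
      have h2 : ((p : ℤ) ^ (n' + 1)) = ((p ^ (n' + 1) : ℕ) : ℤ) := by push_cast; rfl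
      rw [h2, zpow_natCast]
      rw [hn] at hy1
      exact hy1
    rw [this, one_zpow, mul_one]
  -- h is a power of h ^ (p ^ n')
  have hcop' : (Nat.card (Subgroup.zpowers h)).Coprime (p ^ n') := by
    rw [Nat.card_zpowers]
    exact Nat.Coprime.pow_right _ hcop
  have hpow := (powCoprime hcop').symm_apply_apply ⟨h, Subgroup.mem_zpowers h⟩
  have hpow' : h = (h ^ (p ^ n')) ^ ((Nat.card (Subgroup.zpowers h)).gcdB (p ^ n')) := by
    have := congrArg Subtype.val hpow
    simpa [powCoprime] using this.symm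
  have hCmem : h ^ (p ^ n') ∈ Subgroup.centralizer (P : Set G) := by
    rw [Subgroup.mem_centralizer_iff]
    intro y hy
    have := hcent y hy
    calc y * h ^ (p ^ n') = (h ^ (p ^ n') * y * (h ^ (p ^ n'))⁻¹) * h ^ (p ^ n') := by rw [this]
      _ = h ^ (p ^ n') * y := by group
  have hhC : h ∈ Subgroup.centralizer (P : Set G) := by
    rw [hpow']
    exact Subgroup.zpow_mem _ hCmem _
  intro y hy
  exact ((Subgroup.mem_centralizer_iff.1 hhC) y hy).symm

end Cfsg.Agent.Helper11.PACYC
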