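import Mathlib
import Cfsg.Agent.Helper58.PADefs
import Cfsg.Agent.Helper11.PACYC

/-!
# Piece (L3) for S4016 (helper58): an element of `K` centralizing some `x ∈ P#` centralizes `P`.
-/

set_option autoImplicit false

namespace Cfsg.Agent.Helper11.PAL3

open Cfsg.Agent.Helper58.PA

variable {p : ℕ} [Fact p.Prime] {G : Type*} [Group G] [Finite G]

theorem loc_K_cent (c : Ctx p G) (P : Sylow p G) (K : Subgroup G) (h0 : Loc0 p P K) :
    ∀ x ∈ (P : Subgroup G), x ≠ 1 → ∀ k ∈ K, k * x = x * k →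
      k ∈ Subgroup.centralizer ((P : Subgroup G) : Set G) := by
  intro x hxP hx1 k hk hkx
  have hp : p.Prime := Fact.out
  have hcop : (orderOf k).Coprime p := by
    apply Nat.Coprime.symm
    rw [Nat.Prime.coprime_iff_not_dvd hp]
    intro hdvd
    apply h0.K_p'
    have h1 : orderOf (⟨k, hk⟩ : K) ∣ Nat.card K := orderOf_dvd_natCard _
    rw [Subgroup.orderOf_mk] at h1
    exact dvd_trans hdvd h1
  have hcyc : IsCyclic (P : Subgroup G) := c.hyp.1 P
  have := Cfsg.Agent.Helper11.PACYC.cyclic_coprime_centralizes (p := p) (P : Subgroup G)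
    P.isPGroup' hcyc k (h0.K_le hk) hcop x hxP hx1 hkx
  rw [Subgroup.mem_centralizer_iff]
  intro y hy
  exact (this y hy).symm

end Cfsg.Agent.Helper11.PAL3
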