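import Mathlib
import Cfsg.Agent.Helper52.PQDefs
import Cfsg.Agent.Helper48.Extraspecial2

/-!
# Sub-piece (E2c) of (E2) lemmaE2 for S4306 (helper52 / helper64):
no `R`-invariant overgroup `T` of index 2 over an extraspecial-like `P`.
-/

set_option autoImplicit false

namespace Cfsg.Agent.Helper11.PQE2c

open Subgroup Cfsg.Agent.Helper1.Shult Cfsg.Agent.Helper52.PQ

variable {H : Type*} [Group H] [Finite H]

set_option maxHeartbeats 1000000 in
theorem no_index_two_overgroup {ℓ u t : ℕ} {b : H} {W Q Z R : Subgroup H}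
    (e : ECfg ℓ u t b W Q Z R) (P T : Subgroup H) (hZP : Z ≤ P)
    (hcen : P ⊓ centralizer (P : Set H) = Z) (hPT : P ≤ T) (hTQ : T ≤ Q)
    (hcard : Nat.card T = 2 * Nat.card P) (hRT : R ≤ normalizer (T : Set H)) : False := by
  classical
  have hPQ : P ≤ Q := le_trans hPT hTQ
  -- the involution z
  obtain ⟨z, hzZ, hz1, hZall⟩ : ∃ z ∈ Z, z ≠ 1 ∧ ∀ y ∈ Z, y = 1 ∨ y = z := by
    obtain ⟨z', hz'1, huniq⟩ := (Nat.card_eq_two_iff' (1 : Z)).1 e.hZcard
    refine ⟨z', z'.2, fun h => hz'1 (Subtype.ext h), ?_⟩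
    intro y hy
    by_cases hy1 : y = 1
    · exact Or.inl hy1
    · right
      have := huniq ⟨y, hy⟩ (fun h => hy1 (congrArg Subtype.val h))
      exact congrArg Subtype.val this
  have hzz : z * z = 1 := by
    rcases hZall (z * z) (Z.mul_mem hzZ hzZ) with h | h
    · exact h
    · exfalso
      apply hz1
      have : z * z = z * 1 := by rw [mul_one]; exact h
      exact mul_left_cancel this
  have hzQ : z ∈ Q := e.hZQ hzZ
  have hzc : ∀ q ∈ Q, z * q = q * z := fun q hq =>
    ((mem_centralizer_iff.1 (e.hZc hzZ)) q hq).symm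
  have hcomm2 : ∀ q ∈ Q, ∀ a ∈ Q, q * a = a * q ∨ q * a = z * (a * q) := by
    intro q hq a ha
    have hw := e.hQcomm q hq a ha
    have heq : q * a = (q * a * q⁻¹ * a⁻¹) * (a * q) := by group
    rcases hZall _ hw with h | h
    · left; rw [heq, h, one_mul]
    · right; rw [heq, h]
  -- elements of P commuting with all of P lie in Z
  have hcenP : ∀ y ∈ P, (∀ x ∈ P, y * x = x * y) → y ∈ Z := by
    intro y hy hyc
    rw [← hcen]
    exact Subgroup.mem_inf.2 ⟨hy, mem_centralizer_iff.2 (fun x hx => (hyc x hx).symm)⟩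
  -- pick g ∈ T \ P
  have hPpos : 0 < Nat.card P := Nat.card_pos
  obtain ⟨g, hgT, hgP⟩ : ∃ g ∈ T, g ∉ P := by
    by_contra hcon
    have hTP : T ≤ P := by
      intro y hy
      by_contra hyP
      exact hcon ⟨y, hy, hyP⟩
    have := Subgroup.card_le_of_le hTP
    omega
  have hgQ : g ∈ Q := hTQ hgT
  -- Goal 1
  have hgoal1 : ∃ c ∈ T, c ∉ P ∧ ∀ x ∈ P, c * x = x * c := by
    by_cases hK : ∀ x ∈ P, g * x = x * g
    · exact ⟨g, hgT, hgP, hK⟩
    · have hK' : ∃ x0 ∈ P, g * x0 ≠ x0 * g := by
        by_contra hcon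
        apply hK
        intro x hx
        by_contra hne
        exact hcon ⟨x, hx, hne⟩
      obtain ⟨x0, hx0P, hx0⟩ := hK'
      have hES : Cfsg.Agent.Helper48.ES2 ↥P ⟨z, hZP hzZ⟩ :=
        { central := fun x => Subtype.ext (hzc x (hPQ x.2))
          ne_one := fun h => hz1 (congrArg Subtype.val h)
          sq := Subtype.ext hzz
          comm := fun q a => by
            rcases hcomm2 q (hPQ q.2) a (hPQ a.2) with h | h
            · exact Or.inl (Subtype.ext h)
            · exact Or.inr (Subtype.ext h)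
          center := fun q hq => by
            have hqZ : (q : H) ∈ Z := hcenP q q.2 (fun x hx => by
              have := hq ⟨x, hx⟩
              exact congrArg Subtype.val this)
            rcases hZall _ hqZ with h | h
            · exact Or.inl (Subtype.ext h)
            · exact Or.inr (Subtype.ext h) }
      set B : Subgroup ↥P := (centralizer ({g} : Set H)).subgroupOf P with hB
      have memB : ∀ x : ↥P, x ∈ B ↔ g * (x : H) = (x : H) * g := by
        intro x
        rw [hB, mem_subgroupOf, mem_centralizer_singleton_iff]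
        exact eq_comm
      have hid := hES.card_centralizer_mul_card B
      -- |B ⊓ center| ≥ 2
      have h2 : 2 ≤ Nat.card (B ⊓ center ↥P : Subgroup ↥P) := by
        have hzmem : (⟨z, hZP hzZ⟩ : ↥P) ∈ (B ⊓ center ↥P : Subgroup ↥P) := by
          exact Subgroup.mem_inf.2 ⟨(memB _).2 (hzc g hgQ).symm,
            mem_center_iff.2 (fun x => (hES.central x).symm)⟩
        have hne : (B ⊓ center ↥P : Subgroup ↥P) ≠ ⊥ := by
          intro h
          rw [h, mem_bot] at hzmem
          exact hz1 (congrArg Subtype.val hzmem)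
        have := (Subgroup.one_lt_card_iff_ne_bot _).2 hne
        omega
      -- 2 |B| ≤ |P|
      have h3 : 2 * Nat.card B ≤ Nat.card ↥P := by
        have hdvd : Nat.card B ∣ Nat.card ↥P := Subgroup.card_subgroup_dvd_card B
        have hne : Nat.card B ≠ Nat.card ↥P := by
          intro h
          have htop : B = ⊤ := (Subgroup.card_eq_iff_eq_top B).1 h
          have : (⟨x0, hx0P⟩ : ↥P) ∈ B := by rw [htop]; exact mem_top _
          exact hx0 ((memB _).1 this)
        obtain ⟨j, hj⟩ := hdvd
        have hBpos : 0 < Nat.card B := Nat.card_pos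
        have hj0 : j ≠ 0 := by
          rintro rfl
          rw [mul_zero] at hj
          omega
        have hj1 : j ≠ 1 := by
          rintro rfl
          rw [mul_one] at hj
          exact hne hj.symm
        have hj2 : 2 ≤ j := by omega
        calc 2 * Nat.card B = Nat.card B * 2 := by ring
          _ ≤ Nat.card B * j := Nat.mul_le_mul_left _ hj2
          _ = Nat.card ↥P := hj.symm
      -- a non-central element of C_P(B)
      obtain ⟨p0, hp0C, hp01, hp0z⟩ : ∃ p0 : ↥P, p0 ∈ centralizer (B : Set ↥P) ∧ p0 ≠ 1 ∧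
          p0 ≠ ⟨z, hZP hzZ⟩ := by
        by_contra hcon
        have hsub : ((centralizer (B : Set ↥P) : Subgroup ↥P) : Set ↥P) ⊆
            (({1, ⟨z, hZP hzZ⟩} : Finset ↥P) : Set ↥P) := by
          intro y hy
          by_contra hyn
          apply hcon
          refine ⟨y, hy, ?_, ?_⟩
          · intro h; apply hyn; simp [h]
          · intro h; apply hyn; simp [h]
        have hle : Nat.card (centralizer (B : Set ↥P)) ≤ 2 := by
          calc Nat.card (centralizer (B : Set ↥P))
              = ((centralizer (B : Set ↥P) : Subgroup ↥P) : Set ↥P).ncard :=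
                Nat.card_coe_set_eq _
            _ ≤ ((({1, ⟨z, hZP hzZ⟩} : Finset ↥P)) : Set ↥P).ncard :=
                Set.ncard_le_ncard hsub (Finset.finite_toSet _)
            _ = ({1, ⟨z, hZP hzZ⟩} : Finset ↥P).card := Set.ncard_coe_finset _
            _ ≤ 2 := Finset.card_le_two
        have hBpos : 0 < Nat.card B := Nat.card_pos
        have h5 : Nat.card (centralizer (B : Set ↥P)) * Nat.card B ≤ 2 * Nat.card B :=
          Nat.mul_le_mul_right _ hle
        have h6 : Nat.card ↥P * 2 ≤ Nat.card ↥P * Nat.card (B ⊓ center ↥P : Subgroup ↥P) :=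
          Nat.mul_le_mul_left _ h2
        have h7 : 2 * (2 * Nat.card B) ≤ Nat.card ↥P * 2 := by omega
        have h8 : 2 * (2 * Nat.card B) ≤ 2 * Nat.card B := by
          calc 2 * (2 * Nat.card B) ≤ Nat.card ↥P * 2 := h7
            _ ≤ Nat.card ↥P * Nat.card (B ⊓ center ↥P : Subgroup ↥P) := h6
            _ = Nat.card (centralizer (B : Set ↥P)) * Nat.card B := hid.symm
            _ ≤ 2 * Nat.card B := h5
        omega
      -- facts about p0
      have hp0P : (p0 : H) ∈ P := p0.2
      have hp0K : ∀ x ∈ P, g * x = x * g → (p0 : H) * x = x * (p0 : H) := by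
        intro x hx hgx
        have hxB : (⟨x, hx⟩ : ↥P) ∈ B := (memB _).2 hgx
        have := (mem_centralizer_iff.1 hp0C) ⟨x, hx⟩ hxB
        exact (congrArg Subtype.val this).symm
      have hp0Z : (p0 : H) ∉ Z := by
        intro h
        rcases hZall _ h with h' | h'
        · exact hp01 (Subtype.ext h')
        · exact hp0z (Subtype.ext h')
      -- x, y ∉ K → x⁻¹ y ∈ K
      have hgz : ∀ x ∈ P, g * x ≠ x * g → g * x = z * (x * g) := by
        intro x hx hne
        exact (hcomm2 g hgQ x (hPQ hx)).resolve_left hne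
      have hKK : ∀ x ∈ P, ∀ y ∈ P, g * x ≠ x * g → g * y ≠ y * g →
          g * (x⁻¹ * y) = (x⁻¹ * y) * g := by
        intro x hx y hy hnx hny
        have h1 := hgz x hx hnx
        have h2' := hgz y hy hny
        -- g x⁻¹ = z x⁻¹ g
        have h3' : g * x⁻¹ = z * (x⁻¹ * g) := by
          have hzx : z * x⁻¹ = x⁻¹ * z := hzc _ (Q.inv_mem (hPQ hx))
          have e1 : x * g = z * (g * x) := by
            rw [h1, ← mul_assoc, hzz, one_mul]
          calc g * x⁻¹ = x⁻¹ * (x * g) * x⁻¹ := by group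
            _ = x⁻¹ * (z * (g * x)) * x⁻¹ := by rw [e1]
            _ = (x⁻¹ * z) * g := by group
            _ = z * (x⁻¹ * g) := by rw [← hzx]; group
        calc g * (x⁻¹ * y) = (g * x⁻¹) * y := by group
          _ = z * (x⁻¹ * g) * y := by rw [h3']
          _ = z * x⁻¹ * (g * y) := by group
          _ = z * x⁻¹ * (z * (y * g)) := by rw [h2']
          _ = z * (x⁻¹ * z) * (y * g) := by group
          _ = z * (z * x⁻¹) * (y * g) := by rw [hzc _ (Q.inv_mem (hPQ hx))]
          _ = (z * z) * (x⁻¹ * y * g) := by group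
          _ = (x⁻¹ * y) * g := by rw [hzz, one_mul]
      -- p0 does not commute with any x ∉ K
      have hp0x : ∀ x ∈ P, g * x ≠ x * g → (p0 : H) * x ≠ x * (p0 : H) := by
        intro x hx hnx hpx
        apply hp0Z
        apply hcenP _ hp0P
        intro y hy
        by_cases hgy : g * y = y * g
        · exact hp0K y hy hgy
        · have hk := hKK x hx y hy hnx hgy
          have h1 := hp0K (x⁻¹ * y) (P.mul_mem (P.inv_mem hx) hy) hk
          have hpxi : (p0 : H) * x⁻¹ = x⁻¹ * (p0 : H) := by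
            calc (p0 : H) * x⁻¹ = x⁻¹ * (x * (p0 : H)) * x⁻¹ := by group
              _ = x⁻¹ * ((p0 : H) * x) * x⁻¹ := by rw [hpx]
              _ = x⁻¹ * (p0 : H) := by group
          calc (p0 : H) * y = x * (x⁻¹ * (p0 : H)) * y := by group
            _ = x * ((p0 : H) * x⁻¹) * y := by rw [hpxi]
            _ = x * ((p0 : H) * (x⁻¹ * y)) := by group
            _ = x * ((x⁻¹ * y) * (p0 : H)) := by rw [h1]
            _ = y * (p0 : H) := by group
      refine ⟨(p0 : H)⁻¹ * g, T.mul_mem (T.inv_mem (hPT hp0P)) hgT, ?_, ?_⟩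
      · intro h
        apply hgP
        have : g = (p0 : H) * ((p0 : H)⁻¹ * g) := by group
        rw [this]
        exact P.mul_mem hp0P h
      · intro x hx
        by_cases hgx : g * x = x * g
        · have h1 := hp0K x hx hgx
          have h2' : (p0 : H)⁻¹ * x = x * (p0 : H)⁻¹ := by
            calc (p0 : H)⁻¹ * x = (p0 : H)⁻¹ * (x * (p0 : H)) * (p0 : H)⁻¹ := by group
              _ = (p0 : H)⁻¹ * ((p0 : H) * x) * (p0 : H)⁻¹ := by rw [h1]
              _ = x * (p0 : H)⁻¹ := by group
          calc (p0 : H)⁻¹ * g * x = (p0 : H)⁻¹ * (g * x) := by group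
            _ = (p0 : H)⁻¹ * (x * g) := by rw [hgx]
            _ = ((p0 : H)⁻¹ * x) * g := by group
            _ = (x * (p0 : H)⁻¹) * g := by rw [h2']
            _ = x * ((p0 : H)⁻¹ * g) := by group
        · have h1 := hgz x hx hgx
          have h2' : (p0 : H) * x = z * (x * (p0 : H)) :=
            (hcomm2 _ (hPQ hp0P) x (hPQ hx)).resolve_left (hp0x x hx hgx)
          have hzp : z * (p0 : H)⁻¹ = (p0 : H)⁻¹ * z := hzc _ (Q.inv_mem (hPQ hp0P))
          have hzx : z * x = x * z := hzc _ (hPQ hx)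
          -- p0⁻¹ x = z x p0⁻¹
          have h3' : (p0 : H)⁻¹ * x = z * (x * (p0 : H)⁻¹) := by
            calc (p0 : H)⁻¹ * x = (z * z) * ((p0 : H)⁻¹ * x) := by rw [hzz, one_mul]
              _ = z * ((z * (p0 : H)⁻¹) * x) := by group
              _ = z * (((p0 : H)⁻¹ * z) * x) := by rw [hzp]
              _ = z * ((p0 : H)⁻¹ * (z * (x * (p0 : H))) * (p0 : H)⁻¹) := by group
              _ = z * ((p0 : H)⁻¹ * ((p0 : H) * x) * (p0 : H)⁻¹) := by rw [← h2']
              _ = z * (x * (p0 : H)⁻¹) := by group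
          calc (p0 : H)⁻¹ * g * x = (p0 : H)⁻¹ * (g * x) := by group
            _ = (p0 : H)⁻¹ * (z * (x * g)) := by rw [h1]
            _ = ((p0 : H)⁻¹ * z) * x * g := by group
            _ = (z * (p0 : H)⁻¹) * x * g := by rw [← hzp]
            _ = z * ((p0 : H)⁻¹ * x) * g := by group
            _ = z * (z * (x * (p0 : H)⁻¹)) * g := by rw [h3']
            _ = (z * z) * (x * ((p0 : H)⁻¹ * g)) := by group
            _ = x * ((p0 : H)⁻¹ * g) := by rw [hzz, one_mul]
  obtain ⟨c, hcT, hcP, hcc⟩ := hgoal1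
  have hcQ : c ∈ Q := hTQ hcT
  -- P has index 2 in T
  have hidx : (P.subgroupOf T).index = 2 := by
    have h1 := Subgroup.card_mul_index (P.subgroupOf T)
    have h2 : Nat.card (P.subgroupOf T) = Nat.card P :=
      Nat.card_congr (Subgroup.subgroupOfEquivOfLe hPT).toEquiv
    rw [h2, hcard] at h1
    have : Nat.card P * (P.subgroupOf T).index = Nat.card P * 2 := by rw [h1]; ring
    exact Nat.eq_of_mul_eq_mul_left hPpos this
  have hcinvP : c⁻¹ ∉ P := fun h => hcP (by simpa using P.inv_mem h)
  have hTsplit : ∀ y ∈ T, y ∉ P → c⁻¹ * y ∈ P := by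
    intro y hy hyP
    have := Subgroup.mul_mem_iff_of_index_two hidx (a := (⟨c⁻¹, T.inv_mem hcT⟩ : T))
      (b := ⟨y, hy⟩)
    rw [mem_subgroupOf, mem_subgroupOf, mem_subgroupOf] at this
    exact this.2 ⟨fun h => absurd h hcinvP, fun h => absurd h hyP⟩
  -- c is central in T
  have hcT' : ∀ y ∈ T, c * y = y * c := by
    intro y hy
    by_cases hyP : y ∈ P
    · exact hcc y hyP
    · have hp := hTsplit y hy hyP
      have h1 := hcc _ hp
      calc c * y = c * (c * (c⁻¹ * y)) := by group
        _ = c * ((c⁻¹ * y) * c) := by rw [h1]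
        _ = y * c := by group
  -- central elements of T outside Z lie in cZ
  have hcentT : ∀ y ∈ T, (∀ w ∈ T, y * w = w * y) → y ∉ Z → c⁻¹ * y ∈ Z := by
    intro y hy hyc hyZ
    have hyP : y ∉ P := fun h => hyZ (hcenP y h (fun x hx => hyc x (hPT hx)))
    have hp := hTsplit y hy hyP
    apply hcenP _ hp
    intro x hx
    have hcx : c⁻¹ * x = x * c⁻¹ := by
      have := hcc x hx
      calc c⁻¹ * x = c⁻¹ * (x * c) * c⁻¹ := by group
        _ = c⁻¹ * (c * x) * c⁻¹ := by rw [this]
        _ = x * c⁻¹ := by group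
    calc c⁻¹ * y * x = c⁻¹ * (y * x) := by group
      _ = c⁻¹ * (x * y) := by rw [hyc x (hPT hx)]
      _ = (c⁻¹ * x) * y := by group
      _ = (x * c⁻¹) * y := by rw [hcx]
      _ = x * (c⁻¹ * y) := by group
  have hcZ : c ∈ Z := by
    apply e.hQR c hcQ
    intro x hx
    have hxN := hRT hx
    have hyT : x * c * x⁻¹ ∈ T := (mem_normalizer_iff.1 hxN c).1 hcT
    apply hcentT _ hyT
    · intro w hw
      have hw' : x⁻¹ * w * x ∈ T := by
        apply (mem_normalizer_iff.1 hxN (x⁻¹ * w * x)).2
        have e1 : x * (x⁻¹ * w * x) * x⁻¹ = w := by group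
        rw [e1]; exact hw
      have h1 := hcT' _ hw'
      calc x * c * x⁻¹ * w = x * (c * (x⁻¹ * w * x)) * x⁻¹ := by group
        _ = x * ((x⁻¹ * w * x) * c) * x⁻¹ := by rw [h1]
        _ = w * (x * c * x⁻¹) := by group
    · intro hyZ
      have hxz : ∀ y ∈ Z, y * x = x * y := fun y hy => (mem_centralizer_iff.1 (e.hRZ hx)) y hy
      have h1 := hxz _ hyZ
      have : c = x * c * x⁻¹ := by
        calc c = x⁻¹ * ((x * c * x⁻¹) * x) := by group
          _ = x⁻¹ * (x * (x * c * x⁻¹)) := by rw [h1]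
          _ = x * c * x⁻¹ := by group
      apply hcP
      rw [this]
      exact hZP hyZ
  exact hcP (hZP hcZ)

end Cfsg.Agent.Helper11.PQE2c
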