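import Cfsg.Agent.Helper11.FFS3
import Cfsg.Agent.Helper5.ProjLine

/-!
# `q`-local control of automizers, part 1: the order of a group generated by best offenders (helper11)

A faithful group `H` generated by best offenders on `V` with `C_H(O_{p'}(H)) ≤ O_{p'}(H)` has order a power of
`|SL(2,p)|` with `p ∈ {2,3}`; in particular it is a `{2,3}`-group.
-/

set_option autoImplicit false

namespace Cfsg.Agent.Helper11

open scoped commutatorElement

set_option maxHeartbeats 400000 in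
/-- the order of a faithful group generated by best offenders is a power of `|SL(2,p)|` -/
theorem ff_card_eq_pow {G : Type*} [Group G] [Finite G] {p : ℕ} [Fact p.Prime] (V H : Subgroup G)
    (hV : Cfsg.IsElementaryAbelian p V) (hHV : H ≤ Subgroup.normalizer (V : Set G))
    (hf : H ⊓ Subgroup.centralizer (V : Set G) = ⊥)
    (hS1 : Subgroup.centralizer (Cfsg.pPrimeCore p ↥H : Set ↥H) ≤ Cfsg.pPrimeCore p ↥H)
    (hS3 : H = ⨆ A : {A : Subgroup G // A ≤ H ∧ Cfsg.IsBestOffenderOn p V A}, (A : Subgroup G))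
    (hH1 : H ≠ ⊥) :
    (p = 2 ∨ p = 3) ∧
      ∃ n : ℕ, Nat.card H = Nat.card (Matrix.SpecialLinearGroup (Fin 2) (ZMod p)) ^ n := by
  classical
  obtain ⟨h1, h2, h3, h4, -, -⟩ := Cfsg.Agent.S0617.result (p := p) V H hV hHV hf hS1 hS3 hH1
  refine ⟨h1, ?_⟩
  set ι := {E : Subgroup G // ∃ A : Subgroup G, A ≤ H ∧ Cfsg.IsBestOffenderOn p V A ∧ ⁅V, A⁆ ≠ ⊥ ∧
    (∀ B : Subgroup G, B ≤ A → Cfsg.IsBestOffenderOn p V B → ⁅V, B⁆ ≠ ⊥ → B = A) ∧
    E = ⁅((Cfsg.pPrimeCore p ↥H).map H.subtype), A⁆ ⊔ A} with hι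
  haveI : Fintype ι := Fintype.ofFinite _
  have hnorm : ∀ i : ι, (⨆ j : ι, (j : Subgroup G)) ≤
      Subgroup.normalizer (((i : Subgroup G) : Subgroup G) : Set G) := by
    intro i
    rw [h4]
    exact (h2 i).1
  obtain ⟨e1⟩ := nonempty_mulEquiv_pi_of_iSupIndep (fun i : ι => (i : Subgroup G)) h3 hnorm
  have e2 : ∀ i : ι, ↥(i : Subgroup G) ≃* Matrix.SpecialLinearGroup (Fin 2) (ZMod p) := fun i =>
    Classical.choice (h2 i).2.1
  have e3 : (∀ i : ι, ↥(i : Subgroup G)) ≃* (ι → Matrix.SpecialLinearGroup (Fin 2) (ZMod p)) :=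
    MulEquiv.piCongrRight e2
  have e5 : ↥(⨆ j : ι, (j : Subgroup G)) ≃* ↥H := MulEquiv.subgroupCongr h4
  refine ⟨Fintype.card ι, ?_⟩
  rw [Nat.card_congr (e5.symm.trans (e1.symm.trans e3)).toEquiv, Nat.card_fun, Nat.card_eq_fintype_card,
    Nat.card_eq_fintype_card]

/-- `|SL(2, Z/p)|` for `p ∈ {2,3}` is not divisible by a prime `q ∉ {2,3}` -/
theorem not_dvd_card_sl2 {p q : ℕ} [Fact p.Prime] (hq : q.Prime) (hp23 : p = 2 ∨ p = 3)
    (hq2 : q ≠ 2) (hq3 : q ≠ 3) :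
    ¬ q ∣ Nat.card (Matrix.SpecialLinearGroup (Fin 2) (ZMod p)) := by
  rw [Cfsg.Agent.Helper5.card_SL2, ZMod.card]
  intro h
  rcases hp23 with rfl | rfl
  · have h6 : q ∣ 2 * 3 := by norm_num at h ⊢; exact h
    rcases (Nat.Prime.dvd_mul hq).mp h6 with h' | h'
    · exact hq2 ((Nat.prime_dvd_prime_iff_eq hq Nat.prime_two).mp h')
    · exact hq3 ((Nat.prime_dvd_prime_iff_eq hq Nat.prime_three).mp h')
  · have h24 : q ∣ 2 ^ 3 * 3 := by norm_num at h ⊢; exact h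
    rcases (Nat.Prime.dvd_mul hq).mp h24 with h' | h'
    · exact hq2 ((Nat.prime_dvd_prime_iff_eq hq Nat.prime_two).mp (hq.dvd_of_dvd_pow h'))
    · exact hq3 ((Nat.prime_dvd_prime_iff_eq hq Nat.prime_three).mp h')

/-- a faithful group generated by best offenders has order prime to `q` whenever `{p,q} ≠ {2,3}` -/
theorem ff_not_dvd_card {G : Type*} [Group G] [Finite G] {p q : ℕ} [Fact p.Prime] (hq : q.Prime)
    (hpq : p ≠ q) (h23 : ¬ ((p = 2 ∧ q = 3) ∨ (p = 3 ∧ q = 2))) (V H : Subgroup G)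
    (hV : Cfsg.IsElementaryAbelian p V) (hHV : H ≤ Subgroup.normalizer (V : Set G))
    (hf : H ⊓ Subgroup.centralizer (V : Set G) = ⊥)
    (hS1 : Subgroup.centralizer (Cfsg.pPrimeCore p ↥H : Set ↥H) ≤ Cfsg.pPrimeCore p ↥H)
    (hS3 : H = ⨆ A : {A : Subgroup G // A ≤ H ∧ Cfsg.IsBestOffenderOn p V A}, (A : Subgroup G))
    (hH1 : H ≠ ⊥) :
    ¬ q ∣ Nat.card H := by
  obtain ⟨hp23, n, hn⟩ := ff_card_eq_pow V H hV hHV hf hS1 hS3 hH1
  rw [hn]
  intro h
  have hq2 : q ≠ 2 := by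
    rintro rfl
    rcases hp23 with rfl | rfl
    · exact hpq rfl
    · exact h23 (Or.inr ⟨rfl, rfl⟩)
  have hq3 : q ≠ 3 := by
    rintro rfl
    rcases hp23 with rfl | rfl
    · exact h23 (Or.inl ⟨rfl, rfl⟩)
    · exact hpq rfl
  exact not_dvd_card_sl2 hq hp23 hq2 hq3 (hq.dvd_of_dvd_pow h)

end Cfsg.Agent.Helper11
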