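import Cfsg.Agent.Helper11.QLoc1
import Cfsg.Agent.Helper11.Basic
import Cfsg.Agent.Helper11.PSolvable
import Cfsg.Agent.Helper1.FFLib
import Cfsg.Agent.Helper1.FFGen

/-!
# `q`-local control of automizers, part 2: the Thompson subgroup case (helper11)

In a `p`-solvable group `X` with `C_X(O_p(X)) ≤ O_p(X)`, if `q ∣ |X|` but `q ∤ |C_X(Ω₁(Z(T)))|` (and `{p,q} ≠ {2,3}`), then
`q` divides `|N_X(J(T)) : C_X(J(T))|`.
-/

set_option autoImplicit false

namespace Cfsg.Agent.Helper11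

open scoped commutatorElement
open Cfsg.Agent.Helper1.Hol (pi VV HolG JH omegaZSup)

universe u

variable {X : Type u} [Group X] [Finite X] {p q : ℕ} [Fact p.Prime]

/-- `Ω₁(Z(T)) ≤ J(T)` -/
theorem omegaOne_center_le_thompsonSubgroupOf (T : Subgroup X) :
    Cfsg.omegaOne p (T ⊓ Subgroup.centralizer (T : Set X)) ≤ Cfsg.thompsonSubgroupOf p T := by
  unfold Cfsg.omegaOne
  rw [Subgroup.closure_le]
  rintro x ⟨hx, hxp⟩
  obtain ⟨hxT, hxC⟩ := Subgroup.mem_inf.mp hx
  obtain ⟨A₀, hA₀⟩ := maxElAb_nonempty (S := ↥T) p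
  have hcomm : ∀ a ∈ A₀, a * (⟨x, hxT⟩ : ↥T) = ⟨x, hxT⟩ * a := by
    intro a _
    apply Subtype.ext
    exact Subgroup.mem_centralizer_iff.mp hxC (a : X) a.2
  have hxp' : (⟨x, hxT⟩ : ↥T) ^ p = 1 := Subtype.ext hxp
  have hB := elAb_adjoin p A₀ hA₀.1 ⟨x, hxT⟩ hxp' hcomm
  have hle : A₀ ≤ Subgroup.closure ((A₀ : Set ↥T) ∪ {⟨x, hxT⟩}) := fun a ha =>
    Subgroup.subset_closure (Or.inl ha)
  have heq : A₀ = Subgroup.closure ((A₀ : Set ↥T) ∪ {⟨x, hxT⟩}) :=
    Subgroup.eq_of_le_of_card_ge hle (hA₀.2 _ hB)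
  have hxA : (⟨x, hxT⟩ : ↥T) ∈ A₀ := by
    rw [heq]
    exact Subgroup.subset_closure (Or.inr rfl)
  exact ⟨⟨x, hxT⟩, Cfsg.Agent.Helper10.le_thompsonSubgroup hA₀ hxA, rfl⟩

set_option maxHeartbeats 400000 in
/-- if `q ∤ |C_X(V)|` for `V = ⟨Ω₁(Z(S)) : S⟩` then `q ∤ |J(X)|` -/
theorem not_dvd_card_thompsonSubgroup (hq : q.Prime) (hpq : p ≠ q)
    (h23 : ¬ ((p = 2 ∧ q = 3) ∨ (p = 3 ∧ q = 2)))
    (hsep : Cfsg.IsPSolvable p X)
    (hc : Subgroup.centralizer (Cfsg.pCore p X : Set X) ≤ Cfsg.pCore p X)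
    (hC : ¬ q ∣ Nat.card ↥(Subgroup.centralizer ((omegaZSup p X : Subgroup X) : Set X))) :
    ¬ q ∣ Nat.card ↥(Cfsg.thompsonSubgroup p X) := by
  obtain ⟨hVn, hVe, -⟩ := Cfsg.Agent.S0601.result hc
  haveI : (omegaZSup p X).Normal := hVn
  have hVe' : Cfsg.IsElementaryAbelian p (omegaZSup p X) := hVe
  have hgen : omegaZSup p X =
      ⨆ S : Sylow p X, omegaZSup p X ⊓ Subgroup.centralizer ((S : Subgroup X) : Set X) := by
    apply le_antisymm
    · apply iSup_le
      intro S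
      refine le_trans (le_inf (le_iSup (fun S : Sylow p X => Cfsg.omegaOne p ((S : Subgroup X) ⊓
        Subgroup.centralizer ((S : Subgroup X) : Set X))) S) ?_)
        (le_iSup (fun S : Sylow p X => omegaZSup p X ⊓ Subgroup.centralizer ((S : Subgroup X) : Set X)) S)
      unfold Cfsg.omegaOne
      rw [Subgroup.closure_le]
      intro x hx
      exact (Subgroup.mem_inf.1 hx.1).2
    · exact iSup_le fun S => inf_le_left
  have hOV := Cfsg.Agent.S0600.result (omegaZSup p X) hVe' hgen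
  by_cases hJ : Cfsg.thompsonSubgroup p X ≤ Subgroup.centralizer ((omegaZSup p X : Subgroup X) : Set X)
  · intro h
    exact hC (h.trans (Subgroup.card_dvd_of_le hJ))
  · have hyp := Cfsg.Agent.Helper1.Hol.JH_ffHyp (omegaZSup p X) hsep hVe' hOV hJ
    have h1 := ff_not_dvd_card hq hpq h23 (VV (omegaZSup p X)) (JH (omegaZSup p X) p) hyp.hV hyp.hHV
      hyp.hf hyp.hS1 hyp.hS3 hyp.hH1
    have h2 := Cfsg.Agent.Helper1.Hol.card_map_pi_mul (omegaZSup p X) (Cfsg.thompsonSubgroup p X)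
    intro h
    rw [← h2] at h
    rcases (Nat.Prime.dvd_mul hq).mp h with h' | h'
    · exact h1 h'
    · exact hC (h'.trans (Subgroup.card_dvd_of_le inf_le_right))

set_option maxHeartbeats 400000 in
/-- **The Thompson subgroup case.** -/
theorem dvd_automizer_thompson (hq : q.Prime) (hpq : p ≠ q)
    (h23 : ¬ ((p = 2 ∧ q = 3) ∨ (p = 3 ∧ q = 2)))
    (hsep : Cfsg.IsPSolvable p X)
    (hc : Subgroup.centralizer (Cfsg.pCore p X : Set X) ≤ Cfsg.pCore p X) (T : Sylow p X)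
    (hqX : q ∣ Nat.card X)
    (hC : ¬ q ∣ Nat.card ↥(Subgroup.centralizer
      ((Cfsg.omegaOne p ((T : Subgroup X) ⊓ Subgroup.centralizer ((T : Subgroup X) : Set X)) : Subgroup X) : Set X))) :
    q ∣ (Subgroup.centralizer (Cfsg.thompsonSubgroupOf p (T : Subgroup X) : Set X)).relIndex
      (Subgroup.normalizer (Cfsg.thompsonSubgroupOf p (T : Subgroup X) : Set X)) := by
  set Z := Cfsg.omegaOne p ((T : Subgroup X) ⊓ Subgroup.centralizer ((T : Subgroup X) : Set X)) with hZ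
  set K := Cfsg.thompsonSubgroupOf p (T : Subgroup X) with hK
  have hZV : Z ≤ omegaZSup p X :=
    le_iSup (fun S : Sylow p X => Cfsg.omegaOne p ((S : Subgroup X) ⊓
      Subgroup.centralizer ((S : Subgroup X) : Set X))) T
  have hCV : ¬ q ∣ Nat.card ↥(Subgroup.centralizer ((omegaZSup p X : Subgroup X) : Set X)) := by
    intro h
    exact hC (h.trans (Subgroup.card_dvd_of_le (Subgroup.centralizer_le hZV)))
  have hJ := not_dvd_card_thompsonSubgroup hq hpq h23 hsep hc hCV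
  have hfr := Cfsg.Agent.Helper1.Pull.thompson_sup_normalizer T
  haveI hJn : (Cfsg.thompsonSubgroup p X).Normal := Cfsg.Agent.Helper1.Hol.thompson_normal
  have hprod : Nat.card ↥(Cfsg.thompsonSubgroup p X ⊔ Subgroup.normalizer (K : Set X)) *
      Nat.card ↥(Cfsg.thompsonSubgroup p X ⊓ Subgroup.normalizer (K : Set X)) =
      Nat.card ↥(Cfsg.thompsonSubgroup p X) * Nat.card ↥(Subgroup.normalizer (K : Set X)) := by
    rw [sup_comm, inf_comm, mul_comm (Nat.card ↥(Cfsg.thompsonSubgroup p X))]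
    apply Cfsg.Agent.Helper10.card_sup_mul_card_inf
    rw [Subgroup.normalizer_eq_top (H := Cfsg.thompsonSubgroup p X)]
    exact le_top
  rw [hfr, Subgroup.card_top] at hprod
  have hqN : q ∣ Nat.card ↥(Subgroup.normalizer (K : Set X)) := by
    have h1 : q ∣ Nat.card ↥(Cfsg.thompsonSubgroup p X) * Nat.card ↥(Subgroup.normalizer (K : Set X)) := by
      rw [← hprod]
      exact Dvd.dvd.mul_right hqX _
    rcases (Nat.Prime.dvd_mul hq).mp h1 with h' | h'
    · exact absurd h' hJ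
    · exact h'
  have hZK : Z ≤ K := omegaOne_center_le_thompsonSubgroupOf (T : Subgroup X)
  have hCK : ¬ q ∣ Nat.card ↥(Subgroup.centralizer (K : Set X)) := by
    intro h
    exact hC (h.trans (Subgroup.card_dvd_of_le (Subgroup.centralizer_le hZK)))
  have hmul := card_mul_relIndex (Subgroup.centralizer_le_normalizer (K : Set X))
  rw [← hmul] at hqN
  rcases (Nat.Prime.dvd_mul hq).mp hqN with h' | h'
  · exact absurd h' hCK
  · exact h'

end Cfsg.Agent.Helper11
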