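import Mathlib
import Cfsg.Agent.Helper54.PConstrained

/-!
# `q`-local control of automizers, part 3: the order of the automizer `N_X(K)/C_X(K)` under subgroups, quotients and
isomorphisms (helper11)
-/

set_option autoImplicit false

namespace Cfsg.Agent.Helper11

variable {X : Type*} [Group X]

/-- the order of the automizer `N_X(K)/C_X(K)` -/
noncomputable def autIdx (K : Subgroup X) : ℕ :=
  (Subgroup.centralizer (K : Set X)).relIndex (Subgroup.normalizer (K : Set X))

theorem autIdx_def (K : Subgroup X) :
    autIdx K = (Subgroup.centralizer (K : Set X)).relIndex (Subgroup.normalizer (K : Set X)) := rfl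

/-- for `C ⊴ N` and `M ≤ N`, `|M : M ∩ C|` divides `|N : C|` -/
theorem relIndex_dvd_relIndex_of_le_of_le_normalizer {C N M : Subgroup X} (hMN : M ≤ N)
    (hN : N ≤ Subgroup.normalizer (C : Set X)) :
    C.relIndex M ∣ C.relIndex N := by
  haveI : (C.subgroupOf N).Normal := Subgroup.normal_subgroupOf_of_le_normalizer hN
  rw [← Subgroup.relIndex_subgroupOf hMN]
  exact Subgroup.relIndex_dvd_index_of_normal _ _

theorem normalizer_le_normalizer_centralizer (K : Subgroup X) :
    Subgroup.normalizer (K : Set X) ≤
      Subgroup.normalizer ((Subgroup.centralizer (K : Set X) : Subgroup X) : Set X) := by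
  intro n hn
  rw [Subgroup.mem_normalizer_iff]
  have key : ∀ m ∈ Subgroup.normalizer (K : Set X), ∀ c ∈ Subgroup.centralizer (K : Set X),
      m * c * m⁻¹ ∈ Subgroup.centralizer (K : Set X) := by
    intro m hm c hc
    rw [Subgroup.mem_centralizer_iff]
    intro k hk
    have hk' : m⁻¹ * k * m ∈ K := by
      have := (Subgroup.mem_normalizer_iff.mp (inv_mem hm) k).mp hk
      simpa using this
    have h1 := Subgroup.mem_centralizer_iff.mp hc _ hk'
    calc k * (m * c * m⁻¹) = m * ((m⁻¹ * k * m) * c) * m⁻¹ := by group
      _ = m * (c * (m⁻¹ * k * m)) * m⁻¹ := by rw [h1]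
      _ = m * c * m⁻¹ * k := by group
  intro c
  constructor
  · exact key n hn c
  · intro h
    have := key n⁻¹ (inv_mem hn) _ h
    simpa [mul_assoc] using this

theorem normalizer_map_subtype (Y : Subgroup X) (L : Subgroup ↥Y) :
    (Subgroup.normalizer ((L.map Y.subtype : Subgroup X) : Set X)).subgroupOf Y =
      Subgroup.normalizer (L : Set ↥Y) := by
  ext y
  rw [Subgroup.mem_subgroupOf, Subgroup.mem_normalizer_iff, Subgroup.mem_normalizer_iff]
  constructor
  · intro h l
    have h1 := h (l : X)
    constructor
    · intro hl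
      obtain ⟨l', hl', heq⟩ := h1.mp ⟨l, hl, rfl⟩
      have : l' = y * l * y⁻¹ := Subtype.ext heq
      rwa [← this]
    · intro hl
      obtain ⟨l', hl', heq⟩ := h1.mpr ⟨y * l * y⁻¹, hl, rfl⟩
      have : l' = l := Subtype.ext heq
      rwa [← this]
  · intro h x
    constructor
    · rintro ⟨l, hl, rfl⟩
      exact ⟨y * l * y⁻¹, (h l).mp hl, rfl⟩
    · rintro ⟨l', hl', heq⟩
      have hx : x = ((y⁻¹ * l' * y : ↥Y) : X) := by
        have : (l' : X) = (y : X) * x * (y : X)⁻¹ := heq
        simp only [Subgroup.coe_mul, Subgroup.coe_inv, this]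
        group
      refine ⟨y⁻¹ * l' * y, ?_, hx.symm⟩
      apply (h _).mpr
      have : y * (y⁻¹ * l' * y) * y⁻¹ = l' := by group
      rw [this]
      exact hl'

theorem centralizer_map_subtype (Y : Subgroup X) (L : Subgroup ↥Y) :
    (Subgroup.centralizer ((L.map Y.subtype : Subgroup X) : Set X)).subgroupOf Y =
      Subgroup.centralizer (L : Set ↥Y) := by
  ext y
  rw [Subgroup.mem_subgroupOf, Subgroup.mem_centralizer_iff, Subgroup.mem_centralizer_iff]
  constructor
  · intro h l hl
    apply Subtype.ext
    exact h (l : X) ⟨l, hl, rfl⟩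
  · rintro h _ ⟨l, hl, rfl⟩
    exact congrArg Subtype.val (h l hl)

/-- the automizer in a subgroup embeds in the automizer in the group -/
theorem autIdx_subtype_dvd (Y : Subgroup X) (L : Subgroup ↥Y) :
    autIdx L ∣ autIdx (L.map Y.subtype) := by
  unfold autIdx
  rw [← normalizer_map_subtype, ← centralizer_map_subtype]
  set C := Subgroup.centralizer ((L.map Y.subtype : Subgroup X) : Set X) with hC
  set N := Subgroup.normalizer ((L.map Y.subtype : Subgroup X) : Set X) with hN
  have h1 : (C.subgroupOf Y).relIndex (N.subgroupOf Y) = C.relIndex (N ⊓ Y) := by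
    rw [← Subgroup.inf_subgroupOf_right N Y, Subgroup.relIndex_subgroupOf inf_le_right]
  rw [h1]
  exact relIndex_dvd_relIndex_of_le_of_le_normalizer inf_le_left
    (normalizer_le_normalizer_centralizer _)

/-- the automizer of a subgroup of a quotient is a quotient of the automizer of its preimage -/
theorem autIdx_comap_dvd (Z : Subgroup X) [Z.Normal] (L : Subgroup (X ⧸ Z)) :
    autIdx L ∣ autIdx (L.comap (QuotientGroup.mk' Z)) := by
  unfold autIdx
  have hsurj : Function.Surjective (QuotientGroup.mk' Z) := QuotientGroup.mk'_surjective Z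
  have hN : Subgroup.normalizer ((L.comap (QuotientGroup.mk' Z) : Subgroup X) : Set X) =
      (Subgroup.normalizer (L : Set (X ⧸ Z))).comap (QuotientGroup.mk' Z) :=
    (Subgroup.comap_normalizer_eq_of_surjective L hsurj).symm
  have hC : Subgroup.centralizer ((L.comap (QuotientGroup.mk' Z) : Subgroup X) : Set X) ≤
      (Subgroup.centralizer (L : Set (X ⧸ Z))).comap (QuotientGroup.mk' Z) := by
    intro x hx
    rw [Subgroup.mem_comap, Subgroup.mem_centralizer_iff]
    intro l hl
    obtain ⟨y, rfl⟩ := hsurj l
    have := Subgroup.mem_centralizer_iff.mp hx y (Subgroup.mem_comap.mpr hl)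
    rw [← map_mul, ← map_mul, this]
  have h1 : (Subgroup.centralizer (L : Set (X ⧸ Z))).relIndex (Subgroup.normalizer (L : Set (X ⧸ Z))) =
      ((Subgroup.centralizer (L : Set (X ⧸ Z))).comap (QuotientGroup.mk' Z)).relIndex
        ((Subgroup.normalizer (L : Set (X ⧸ Z))).comap (QuotientGroup.mk' Z)) := by
    rw [Subgroup.relIndex_comap, Subgroup.map_comap_eq_self_of_surjective hsurj]
  rw [h1, hN]
  exact Subgroup.relIndex_dvd_of_le_left _ hC

/-- the order of the automizer is invariant under isomorphisms -/
theorem autIdx_map_equiv {X' : Type*} [Group X'] (e : X ≃* X') (K : Subgroup X) :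
    autIdx (K.map e.toMonoidHom) = autIdx K := by
  unfold autIdx
  have hN : Subgroup.normalizer ((K.map e.toMonoidHom : Subgroup X') : Set X') =
      (Subgroup.normalizer (K : Set X)).map e.toMonoidHom :=
    (Subgroup.map_equiv_normalizer_eq K e).symm
  have hC : Subgroup.centralizer ((K.map e.toMonoidHom : Subgroup X') : Set X') =
      (Subgroup.centralizer (K : Set X)).map e.toMonoidHom := by
    ext y
    rw [Subgroup.mem_centralizer_iff]
    constructor
    · intro h
      refine ⟨e.symm y, ?_, by simp⟩
      rw [SetLike.mem_coe, Subgroup.mem_centralizer_iff]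
      intro k hk
      have := h (e k) ⟨k, hk, rfl⟩
      apply e.injective
      rw [map_mul, map_mul]
      simpa using this
    · rintro ⟨c, hc, rfl⟩ _ ⟨k, hk, rfl⟩
      have := Subgroup.mem_centralizer_iff.mp hc k hk
      show e k * e c = e c * e k
      rw [← map_mul, ← map_mul, this]
  rw [hN, hC]
  exact Subgroup.relIndex_map_map_of_injective _ _ e.injective

end Cfsg.Agent.Helper11
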