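import Mathlib
import Cfsg.Agent.Lib.Cores
import Cfsg.Agent.Helper55.SolvCore

/-!
# `q`-local control of automizers, part 4: characteristic subgroups and the condition `C_X(O_p(X)) ≤ O_p(X)` under
subgroups and central quotients (helper11)
-/

set_option autoImplicit false

namespace Cfsg.Agent.Helper11

/-- the image of a characteristic subgroup under an isomorphism is characteristic -/
theorem characteristic_map_equiv {A B : Type*} [Group A] [Group B] (e : A ≃* B) (K : Subgroup A)
    (hK : K.Characteristic) : (K.map e.toMonoidHom).Characteristic := by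
  rw [Subgroup.characteristic_iff_map_eq]
  intro ψ
  have h1 := (Subgroup.characteristic_iff_map_eq.mp hK) ((e.trans ψ).trans e.symm)
  ext b
  constructor
  · rintro ⟨_, ⟨k, hk, rfl⟩, rfl⟩
    have h2 : e.symm (ψ (e k)) ∈ K := by
      rw [← h1]
      exact ⟨k, hk, rfl⟩
    exact ⟨e.symm (ψ (e k)), h2, by simp⟩
  · rintro ⟨k, hk, rfl⟩
    rw [← h1] at hk
    obtain ⟨k', hk', rfl⟩ := hk
    refine ⟨e k', ⟨k', hk', rfl⟩, ?_⟩
    simp

/-- the preimage of a characteristic subgroup under a surjection with characteristic kernel is characteristic -/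
theorem characteristic_comap_of_surjective {A B : Type*} [Group A] [Group B] (f : A →* B)
    (hf : Function.Surjective f) (hker : f.ker.Characteristic) (L : Subgroup B) (hL : L.Characteristic) :
    (L.comap f).Characteristic := by
  rw [Subgroup.characteristic_iff_comap_eq]
  intro φ
  have hk : f.ker.map φ.toMonoidHom = f.ker := Subgroup.characteristic_iff_map_eq.mp hker φ
  set c : A ⧸ f.ker ≃* A ⧸ f.ker := QuotientGroup.congr f.ker f.ker φ hk with hc
  set e₁ : A ⧸ f.ker ≃* B := QuotientGroup.quotientKerEquivOfSurjective f hf with he₁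
  set φbar : B ≃* B := e₁.symm.trans (c.trans e₁) with hφbar
  have hcomm : ∀ a : A, φbar (f a) = f (φ a) := by
    intro a
    have h1 : e₁.symm (f a) = (a : A ⧸ f.ker) := by
      rw [MulEquiv.symm_apply_eq]
      rfl
    show e₁ (c (e₁.symm (f a))) = f (φ a)
    rw [h1]
    rfl
  have hL' := Subgroup.characteristic_iff_comap_eq.mp hL φbar
  ext a
  rw [Subgroup.mem_comap, Subgroup.mem_comap, Subgroup.mem_comap]
  show f (φ a) ∈ L ↔ f a ∈ L
  rw [← hcomm a]
  conv_rhs => rw [← hL']
  rfl

/-- the condition `C_X(O_p(X)) ≤ O_p(X)` passes to subgroups containing `O_p(X)` -/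
theorem centralizer_pCore_le_subgroup {X : Type*} [Group X] {p : ℕ} (Y : Subgroup X)
    (hc : Subgroup.centralizer (Cfsg.pCore p X : Set X) ≤ Cfsg.pCore p X) (hPY : Cfsg.pCore p X ≤ Y) :
    Subgroup.centralizer (Cfsg.pCore p ↥Y : Set ↥Y) ≤ Cfsg.pCore p ↥Y := by
  haveI hPch : (Cfsg.pCore p X).Characteristic := Cfsg.Agent.Lib.pCore_characteristic p
  haveI hPn : (Cfsg.pCore p X).Normal := Subgroup.normal_of_characteristic _
  have hPY' : (Cfsg.pCore p X).subgroupOf Y ≤ Cfsg.pCore p ↥Y := by
    apply Cfsg.Agent.Lib.le_pCore (hPn.subgroupOf Y)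
    exact (Cfsg.Agent.Lib.isPGroup_pCore p).comap_subtype
  intro y hy
  apply hPY'
  rw [Subgroup.mem_subgroupOf]
  apply hc
  rw [Subgroup.mem_centralizer_iff]
  intro g hg
  have h1 : (⟨g, hPY hg⟩ : ↥Y) ∈ Cfsg.pCore p ↥Y := hPY' (Subgroup.mem_subgroupOf.mpr hg)
  have h2 := Subgroup.mem_centralizer_iff.mp hy _ h1
  exact congrArg Subtype.val h2

set_option maxHeartbeats 400000 in
/-- the condition `C_X(O_p(X)) ≤ O_p(X)` passes to quotients by central `p`-subgroups -/
theorem centralizer_pCore_le_quotient {X : Type*} [Group X] [Finite X] {p : ℕ} [hp : Fact p.Prime]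
    (Z : Subgroup X) [Z.Normal] (hZp : IsPGroup p Z) (hZc : Z ≤ Subgroup.center X)
    (hc : Subgroup.centralizer (Cfsg.pCore p X : Set X) ≤ Cfsg.pCore p X) :
    Subgroup.centralizer (Cfsg.pCore p (X ⧸ Z) : Set (X ⧸ Z)) ≤ Cfsg.pCore p (X ⧸ Z) := by
  haveI hPch : (Cfsg.pCore p X).Characteristic := Cfsg.Agent.Lib.pCore_characteristic p
  haveI hPn : (Cfsg.pCore p X).Normal := Subgroup.normal_of_characteristic _
  set P := Cfsg.pCore p X with hP
  set π := QuotientGroup.mk' Z with hπ
  have hsurj : Function.Surjective π := QuotientGroup.mk'_surjective Z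
  haveI hPbn : (P.map π).Normal := hPn.map π hsurj
  have hPb : P.map π ≤ Cfsg.pCore p (X ⧸ Z) :=
    Cfsg.Agent.Lib.le_pCore hPbn ((Cfsg.Agent.Lib.isPGroup_pCore p).map π)
  haveI hCn : (Subgroup.centralizer ((P.map π : Subgroup (X ⧸ Z)) : Set (X ⧸ Z))).Normal :=
    Subgroup.normal_centralizer
  set D := (Subgroup.centralizer ((P.map π : Subgroup (X ⧸ Z)) : Set (X ⧸ Z))).comap π with hD
  haveI hDn : D.Normal := hCn.comap π
  have hDp : IsPGroup p D := by
    apply Cfsg.Agent.Helper55.isPGroup_of_forall_coprime_eq_one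
    intro a ha
    have hax : (orderOf (a : X)).Coprime p := by rwa [Subgroup.orderOf_coe]
    have hcent : (a : X) ∈ Subgroup.centralizer (P : Set X) := by
      rw [Subgroup.mem_centralizer_iff]
      intro g hg
      set x := (a : X) with hx
      set z := g⁻¹ * (x * g * x⁻¹) with hz
      have hzZ : z ∈ Z := by
        rw [← QuotientGroup.ker_mk' Z, MonoidHom.mem_ker]
        have h1 : π x ∈ Subgroup.centralizer ((P.map π : Subgroup (X ⧸ Z)) : Set (X ⧸ Z)) := a.2
        have h2 := Subgroup.mem_centralizer_iff.mp h1 (π g) ⟨g, hg, rfl⟩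
        show π (g⁻¹ * (x * g * x⁻¹)) = 1
        rw [map_mul, map_mul, map_mul, map_inv, map_inv, ← h2]
        group
      have hzc : ∀ y : X, y * z = z * y := fun y => (Subgroup.mem_center_iff.mp (hZc hzZ) y)
      have hpow : ∀ k : ℕ, x ^ k * g * (x ^ k)⁻¹ = g * z ^ k := by
        intro k
        induction k with
        | zero => simp
        | succ k ih =>
          have hzk : ∀ y : X, y * z ^ k = z ^ k * y := fun y =>
            (Subgroup.mem_center_iff.mp (hZc (Z.pow_mem hzZ k)) y)
          calc x ^ (k + 1) * g * (x ^ (k + 1))⁻¹ = x * (x ^ k * g * (x ^ k)⁻¹) * x⁻¹ := by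
                rw [pow_succ']; group
            _ = x * (g * z ^ k) * x⁻¹ := by rw [ih]
            _ = (x * g * x⁻¹) * (x * z ^ k * x⁻¹) := by group
            _ = (g * z) * z ^ k := by
                rw [hzk x, mul_assoc (z ^ k), mul_inv_cancel, mul_one]
                congr 1
                rw [hz]; group
            _ = g * z ^ (k + 1) := by rw [pow_succ', mul_assoc]
      have h3 := hpow (orderOf x)
      rw [pow_orderOf_eq_one, one_mul, inv_one, mul_one] at h3
      have h4 : z ^ orderOf x = 1 := by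
        have : g * z ^ orderOf x = g * 1 := by rw [mul_one]; exact h3.symm
        exact mul_left_cancel this
      have h5 : orderOf z ∣ orderOf x := orderOf_dvd_of_pow_eq_one h4
      obtain ⟨j, hj⟩ := IsPGroup.iff_orderOf.mp hZp ⟨z, hzZ⟩
      rw [Subgroup.orderOf_mk] at hj
      have h6 : orderOf z = 1 := by
        have h7 : (orderOf z).Coprime p := Nat.Coprime.coprime_dvd_left h5 hax
        rw [hj] at h7 ⊢
        rcases Nat.eq_zero_or_pos j with h0 | h0
        · rw [h0, pow_zero]
        · exfalso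
          have := (Nat.coprime_pow_left_iff h0 p p).mp h7
          rw [Nat.coprime_self] at this
          exact hp.out.ne_one this
      have h8 : z = 1 := orderOf_eq_one_iff.mp h6
      have h9 : x * g * x⁻¹ = g := by
        have : g⁻¹ * (x * g * x⁻¹) = 1 := by rw [← hz]; exact h8
        calc x * g * x⁻¹ = g * (g⁻¹ * (x * g * x⁻¹)) := by group
          _ = g := by rw [this, mul_one]
      calc g * x = (x * g * x⁻¹) * x := by rw [h9]
        _ = x * g := by group
    have haP : (a : X) ∈ P := hc hcent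
    obtain ⟨i, hi⟩ := IsPGroup.iff_orderOf.mp (Cfsg.Agent.Lib.isPGroup_pCore p)
      (⟨(a : X), haP⟩ : ↥(Cfsg.pCore p X))
    rw [Subgroup.orderOf_mk] at hi
    have h10 : orderOf (a : X) = 1 := by
      rw [hi] at hax ⊢
      rcases Nat.eq_zero_or_pos i with h0 | h0
      · rw [h0, pow_zero]
      · exfalso
        have := (Nat.coprime_pow_left_iff h0 p p).mp hax
        rw [Nat.coprime_self] at this
        exact hp.out.ne_one this
    have h11 : (a : X) = 1 := orderOf_eq_one_iff.mp h10
    exact Subtype.ext h11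
  have hDP : D ≤ P := Cfsg.Agent.Lib.le_pCore hDn hDp
  intro xb hxb
  obtain ⟨x, rfl⟩ := hsurj xb
  have hxD : x ∈ D := by
    rw [hD, Subgroup.mem_comap]
    exact Subgroup.centralizer_le hPb hxb
  exact hPb ⟨x, hDP hxD, rfl⟩

end Cfsg.Agent.Helper11
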