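import Mathlib
import Cfsg.Prelude.Def_PLocal

/-!
# `q`-local control of automizers, part 5: the subgroup `Ω₁(Z(T))` (helper11)
-/

set_option autoImplicit false

namespace Cfsg.Agent.Helper11

variable {X : Type*} [Group X] {p : ℕ}

/-- `Ω₁(Z(T))` inside the group `T` itself -/
def omegaCenterIn (p : ℕ) (T : Type*) [Group T] : Subgroup T :=
  Subgroup.closure {t : T | t ∈ Subgroup.center T ∧ t ^ p = 1}

theorem omegaCenterIn_characteristic (T : Type*) [Group T] : (omegaCenterIn p T).Characteristic := by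
  rw [Subgroup.characteristic_iff_map_le]
  intro φ
  unfold omegaCenterIn
  rw [MonoidHom.map_closure, Subgroup.closure_le]
  rintro _ ⟨t, ⟨htc, htp⟩, rfl⟩
  apply Subgroup.subset_closure
  refine ⟨?_, ?_⟩
  · rw [Subgroup.mem_center_iff] at htc ⊢
    intro g
    have := htc (φ.symm g)
    have h2 := congrArg φ this
    simpa using h2
  · show φ t ^ p = 1
    rw [← map_pow, htp, map_one]

theorem omegaOne_center_le (T : Subgroup X) :
    Cfsg.omegaOne p (T ⊓ Subgroup.centralizer (T : Set X)) ≤ T ⊓ Subgroup.centralizer (T : Set X) := by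
  unfold Cfsg.omegaOne
  rw [Subgroup.closure_le]
  intro x hx
  exact hx.1

theorem le_centralizer_omegaOne_center (T : Subgroup X) :
    T ≤ Subgroup.centralizer
      ((Cfsg.omegaOne p (T ⊓ Subgroup.centralizer (T : Set X)) : Subgroup X) : Set X) := by
  intro t ht
  rw [Subgroup.mem_centralizer_iff]
  intro z hz
  have h1 := (Subgroup.mem_inf.mp (omegaOne_center_le T hz)).2
  exact (Subgroup.mem_centralizer_iff.mp h1 t ht).symm

theorem map_omegaCenterIn (T : Subgroup X) :
    (omegaCenterIn p ↥T).map T.subtype = Cfsg.omegaOne p (T ⊓ Subgroup.centralizer (T : Set X)) := by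
  unfold omegaCenterIn Cfsg.omegaOne
  rw [MonoidHom.map_closure]
  congr 1
  ext x
  constructor
  · rintro ⟨t, ⟨htc, htp⟩, rfl⟩
    refine ⟨Subgroup.mem_inf.mpr ⟨t.2, ?_⟩, ?_⟩
    · rw [Subgroup.mem_centralizer_iff]
      intro g hg
      have := Subgroup.mem_center_iff.mp htc ⟨g, hg⟩
      exact congrArg Subtype.val this
    · have := congrArg Subtype.val htp
      simpa using this
  · rintro ⟨hx, hxp⟩
    obtain ⟨hxT, hxC⟩ := Subgroup.mem_inf.mp hx
    refine ⟨⟨x, hxT⟩, ⟨?_, Subtype.ext (by simpa using hxp)⟩, rfl⟩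
    rw [Subgroup.mem_center_iff]
    intro g
    apply Subtype.ext
    exact Subgroup.mem_centralizer_iff.mp hxC (g : X) g.2

theorem omegaOne_center_subgroupOf (T : Subgroup X) :
    (Cfsg.omegaOne p (T ⊓ Subgroup.centralizer (T : Set X))).subgroupOf T = omegaCenterIn p ↥T := by
  rw [← map_omegaCenterIn]
  exact Subgroup.comap_map_eq_self_of_injective (Subgroup.subtype_injective T) _

theorem isPGroup_omegaOne_center (T : Subgroup X) (hT : IsPGroup p T) :
    IsPGroup p ↥(Cfsg.omegaOne p (T ⊓ Subgroup.centralizer (T : Set X))) :=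
  hT.to_le ((omegaOne_center_le T).trans inf_le_left)

/-- `Ω₁(Z(T)) ≠ 1` for a nontrivial finite `p`-group `T` -/
theorem omegaOne_center_ne_bot [hp : Fact p.Prime] (T : Subgroup X) [Finite T] (hT : IsPGroup p T)
    (hT1 : T ≠ ⊥) :
    Cfsg.omegaOne p (T ⊓ Subgroup.centralizer (T : Set X)) ≠ ⊥ := by
  haveI : Nontrivial ↥T := (Subgroup.nontrivial_iff_ne_bot T).mpr hT1
  haveI hcn : Nontrivial ↥(Subgroup.center ↥T) := hT.center_nontrivial
  have hcp : IsPGroup p ↥(Subgroup.center ↥T) := hT.to_subgroup _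
  have hdvd : p ∣ Nat.card ↥(Subgroup.center ↥T) := by
    rcases hcp.card_eq_or_dvd with h | h
    · exfalso
      have := Finite.one_lt_card (α := ↥(Subgroup.center ↥T))
      omega
    · exact h
  obtain ⟨c, hc⟩ := exists_prime_orderOf_dvd_card' p hdvd
  intro hbot
  have hmem : ((c : ↥T) : X) ∈ Cfsg.omegaOne p (T ⊓ Subgroup.centralizer (T : Set X)) := by
    rw [← map_omegaCenterIn]
    refine ⟨(c : ↥T), Subgroup.subset_closure ⟨c.2, ?_⟩, rfl⟩
    have h1 : c ^ p = 1 := by rw [← hc]; exact pow_orderOf_eq_one c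
    have := congrArg Subtype.val h1
    simpa using this
  rw [hbot, Subgroup.mem_bot] at hmem
  have h2 : c = 1 := by
    apply Subtype.ext
    apply Subtype.ext
    simpa using hmem
  rw [h2, orderOf_one] at hc
  exact hp.out.ne_one hc.symm

end Cfsg.Agent.Helper11
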