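import Cfsg.Agent.Helper11.QLoc2
import Cfsg.Agent.Helper11.QLoc3
import Cfsg.Agent.Helper11.QLoc4
import Cfsg.Agent.Helper11.QLoc5

/-!
# `q`-local control of automizers, part 6: the local theorem (helper11)

In a `p`-solvable group `X` with `C_X(O_p(X)) ≤ O_p(X)`, if a prime `q ≠ p` (with `{p,q} ≠ {2,3}`) divides `|X|` then
some characteristic subgroup `K` of a Sylow `p`-subgroup `T` has `q ∣ |N_X(K) : C_X(K)|`.
-/

set_option autoImplicit false

namespace Cfsg.Agent.Helper11

open scoped commutatorElement

universe u

variable {p q : ℕ} [Fact p.Prime]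

set_option maxHeartbeats 1600000 in
theorem exists_char_automizer_aux (hq : q.Prime) (hpq : p ≠ q)
    (h23 : ¬ ((p = 2 ∧ q = 3) ∨ (p = 3 ∧ q = 2))) :
    ∀ (n : ℕ) (X : Type u) [Group X] [Finite X], Nat.card X = n → Cfsg.IsPSolvable p X →
      Subgroup.centralizer (Cfsg.pCore p X : Set X) ≤ Cfsg.pCore p X → q ∣ Nat.card X →
      ∀ T : Sylow p X, ∃ K : Subgroup ↥(T : Subgroup X), K.Characteristic ∧
        q ∣ autIdx (K.map (T : Subgroup X).subtype) := by
  intro n
  induction n using Nat.strong_induction_on with
  | _ n ih =>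
  intro X _ _ hn hsep hc hqX T
  set Z := Cfsg.omegaOne p ((T : Subgroup X) ⊓ Subgroup.centralizer ((T : Subgroup X) : Set X)) with hZ
  by_cases hCZ : q ∣ Nat.card ↥(Subgroup.centralizer ((Z : Subgroup X) : Set X))
  swap
  · refine ⟨Cfsg.thompsonSubgroup p ↥(T : Subgroup X), (Cfsg.Agent.S0602.result).1, ?_⟩
    exact dvd_automizer_thompson hq hpq h23 hsep hc T hqX hCZ
  · set Y := Subgroup.centralizer ((Z : Subgroup X) : Set X) with hY
    have hTY : (T : Subgroup X) ≤ Y := le_centralizer_omegaOne_center (T : Subgroup X)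
    by_cases hYtop : Y = ⊤
    · -- the central case: pass to `X ⧸ Z`
      have hZc : Z ≤ Subgroup.center X := by
        intro z hz
        rw [Subgroup.mem_center_iff]
        intro g
        have hg : g ∈ Y := by rw [hYtop]; exact Subgroup.mem_top g
        exact (Subgroup.mem_centralizer_iff.mp hg z hz).symm
      haveI hZn : Z.Normal := by
        constructor
        intro z hz g
        have := Subgroup.mem_center_iff.mp (hZc hz) g
        have h1 : g * z * g⁻¹ = z := by rw [this, mul_assoc, mul_inv_cancel, mul_one]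
        rw [h1]
        exact hz
      have hZp : IsPGroup p Z := isPGroup_omegaOne_center (T : Subgroup X) T.isPGroup'
      have hT1 : (T : Subgroup X) ≠ ⊥ := by
        intro hT
        have h1 : Cfsg.pCore p X = ⊥ := by
          rw [eq_bot_iff, ← hT]
          exact Cfsg.Agent.Lib.pCore_le_sylow T
        rw [h1] at hc
        have h2 : ∀ x : X, x = 1 := by
          intro x
          have : x ∈ Subgroup.centralizer (((⊥ : Subgroup X) : Subgroup X) : Set X) := by
            rw [Subgroup.mem_centralizer_iff]
            intro h hh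
            rw [SetLike.mem_coe, Subgroup.mem_bot] at hh
            rw [hh, one_mul, mul_one]
          exact Subgroup.mem_bot.mp (hc this)
        haveI : Subsingleton X := ⟨fun a b => by rw [h2 a, h2 b]⟩
        rw [Nat.card_of_subsingleton (1 : X)] at hqX
        exact hq.one_lt.ne' (Nat.dvd_one.mp hqX)
      have hZ1 : Z ≠ ⊥ := omegaOne_center_ne_bot (T : Subgroup X) T.isPGroup' hT1
      have hcard : Nat.card X = Nat.card (X ⧸ Z) * Nat.card Z :=
        Subgroup.card_eq_card_quotient_mul_card_subgroup Z
      have hZ2 : 1 < Nat.card Z := (Subgroup.one_lt_card_iff_ne_bot Z).mpr hZ1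
      have hlt : Nat.card (X ⧸ Z) < n := by
        rw [← hn, hcard]
        have hpos : 0 < Nat.card (X ⧸ Z) := Nat.card_pos
        nlinarith
      have hqXZ : q ∣ Nat.card (X ⧸ Z) := by
        rw [hcard] at hqX
        rcases (Nat.Prime.dvd_mul hq).mp hqX with h | h
        · exact h
        · exfalso
          obtain ⟨k, hk⟩ := IsPGroup.iff_card.mp hZp
          rw [hk] at h
          have := (Nat.prime_dvd_prime_iff_eq hq (Fact.out : p.Prime)).mp (hq.dvd_of_dvd_pow h)
          exact hpq this.symm
      have hsepQ : Cfsg.IsPSolvable p (X ⧸ Z) := isPSolvable_quotient Z hsep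
      have hcQ := centralizer_pCore_le_quotient Z hZp hZc hc
      have hsurj : Function.Surjective (QuotientGroup.mk' Z) := QuotientGroup.mk'_surjective Z
      set Tb : Sylow p (X ⧸ Z) := T.mapSurjective hsurj with hTb
      obtain ⟨Kb, hKbch, hKbq⟩ := ih _ hlt (X ⧸ Z) rfl hsepQ hcQ hqXZ Tb
      set f : ↥(T : Subgroup X) →* ↥(Tb : Subgroup (X ⧸ Z)) :=
        (QuotientGroup.mk' Z).subgroupMap (T : Subgroup X) with hf
      have hfs : Function.Surjective f := (QuotientGroup.mk' Z).subgroupMap_surjective _
      have hfa : ∀ t : ↥(T : Subgroup X), ((f t : ↥(Tb : Subgroup (X ⧸ Z))) : X ⧸ Z) =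
          QuotientGroup.mk' Z (t : X) := fun t => rfl
      have hker : f.ker = omegaCenterIn p ↥(T : Subgroup X) := by
        rw [← omegaOne_center_subgroupOf]
        ext t
        rw [MonoidHom.mem_ker, Subgroup.mem_subgroupOf]
        constructor
        · intro h
          have h1 := congrArg Subtype.val h
          rw [hfa] at h1
          have h2 : QuotientGroup.mk' Z (t : X) = 1 := h1
          rwa [← MonoidHom.mem_ker, QuotientGroup.ker_mk'] at h2
        · intro h
          apply Subtype.ext
          rw [hfa]
          show QuotientGroup.mk' Z (t : X) = 1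
          rw [← MonoidHom.mem_ker, QuotientGroup.ker_mk']
          exact h
      have hkerch : f.ker.Characteristic := by
        rw [hker]
        exact omegaCenterIn_characteristic _
      refine ⟨Kb.comap f, characteristic_comap_of_surjective f hfs hkerch Kb hKbch, ?_⟩
      have hmap : (Kb.comap f).map (T : Subgroup X).subtype =
          (Kb.map (Tb : Subgroup (X ⧸ Z)).subtype).comap (QuotientGroup.mk' Z) := by
        ext x
        constructor
        · rintro ⟨t, ht, rfl⟩
          rw [SetLike.mem_coe, Subgroup.mem_comap] at ht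
          rw [Subgroup.mem_comap]
          exact ⟨f t, ht, rfl⟩
        · intro hx
          rw [Subgroup.mem_comap] at hx
          obtain ⟨kb, hkb, hkbx⟩ := hx
          obtain ⟨t, rfl⟩ := hfs kb
          have h1 : QuotientGroup.mk' Z (t : X) = QuotientGroup.mk' Z x := hkbx
          have h2 : (t : X)⁻¹ * x ∈ Z := by
            rw [← QuotientGroup.ker_mk' Z, MonoidHom.mem_ker, map_mul, map_inv, h1, inv_mul_cancel]
          have hZT : Z ≤ (T : Subgroup X) := (omegaOne_center_le (T : Subgroup X)).trans inf_le_left
          have hxT : x ∈ (T : Subgroup X) := by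
            have : x = (t : X) * ((t : X)⁻¹ * x) := by group
            rw [this]
            exact mul_mem t.2 (hZT h2)
          refine ⟨⟨x, hxT⟩, ?_, rfl⟩
          rw [SetLike.mem_coe, Subgroup.mem_comap]
          have h3 : f ⟨x, hxT⟩ = f t := by
            apply Subtype.ext
            rw [hfa, hfa]
            exact h1.symm
          rw [h3]
          exact hkb
      rw [hmap]
      exact hKbq.trans (autIdx_comap_dvd Z _)
    · -- the case `C_X(Z) < X`
      have hidx : Y.index ≠ 1 := fun h => hYtop (Subgroup.index_eq_one.mp h)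
      have hlt : Nat.card ↥Y < n := by
        rw [← hn, ← Subgroup.card_mul_index Y]
        have hpos : 0 < Nat.card ↥Y := Nat.card_pos
        have hi : 0 < Y.index := Nat.pos_of_ne_zero Subgroup.index_ne_zero_of_finite
        have : 2 ≤ Y.index := by omega
        nlinarith
      set TY : Sylow p ↥Y := T.subtype hTY with hTYdef
      have hsepY : Cfsg.IsPSolvable p ↥Y := Cfsg.Agent.Helper1.Hol.isPSolvable_subgroup' Y hsep
      have hcY := centralizer_pCore_le_subgroup Y hc ((Cfsg.Agent.Lib.pCore_le_sylow T).trans hTY)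
      obtain ⟨KY, hKch, hKq⟩ := ih _ hlt ↥Y rfl hsepY hcY hCZ TY
      set e : ↥(TY : Subgroup ↥Y) ≃* ↥(T : Subgroup X) := Subgroup.subgroupOfEquivOfLe hTY with he
      refine ⟨KY.map e.toMonoidHom, characteristic_map_equiv e KY hKch, ?_⟩
      have hmap : (KY.map e.toMonoidHom).map (T : Subgroup X).subtype =
          (KY.map (TY : Subgroup ↥Y).subtype).map Y.subtype := by
        rw [Subgroup.map_map, Subgroup.map_map]
        rfl
      rw [hmap]
      exact hKq.trans (autIdx_subtype_dvd Y _)

/-- **The local theorem.** -/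
theorem exists_char_automizer (hq : q.Prime) (hpq : p ≠ q)
    (h23 : ¬ ((p = 2 ∧ q = 3) ∨ (p = 3 ∧ q = 2))) {X : Type u} [Group X] [Finite X]
    (hsep : Cfsg.IsPSolvable p X)
    (hc : Subgroup.centralizer (Cfsg.pCore p X : Set X) ≤ Cfsg.pCore p X) (hqX : q ∣ Nat.card X)
    (T : Sylow p X) :
    ∃ K : Subgroup ↥(T : Subgroup X), K.Characteristic ∧
      q ∣ autIdx (K.map (T : Subgroup X).subtype) :=
  exists_char_automizer_aux hq hpq h23 _ X rfl hsep hc hqX T

end Cfsg.Agent.Helper11
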