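import Cfsg.Agent.Helper11.QLoc6
import Cfsg.Agent.Helper31.LocalCore
import Cfsg.Agent.Helper31.PSolvExt
import Cfsg.Agent.Helper54.PConstrained

/-!
# `q`-local control of automizers, part 7: the normalizer of an extremal `p`-subgroup (helper11)
-/

set_option autoImplicit false

namespace Cfsg.Agent.Helper11

open scoped commutatorElement

universe u

/-- automizers of `p`-subgroups map onto the automizers of their images modulo a normal `p'`-subgroup -/
theorem autIdx_map_dvd_of_coprime_ker {Γ Γ' : Type*} [Group Γ] [Finite Γ] [Group Γ'] {p : ℕ} [Fact p.Prime]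
    (π : Γ →* Γ') (hπ : Function.Surjective π) (hker : (Nat.card π.ker).Coprime p) (K : Subgroup Γ)
    (hK : IsPGroup p K) :
    autIdx (K.map π) ∣ autIdx K := by
  unfold autIdx
  have hN : Subgroup.normalizer ((K.map π : Subgroup Γ') : Set Γ') =
      (Subgroup.normalizer (K : Set Γ)).map π := by
    apply le_antisymm
    · intro y hy
      obtain ⟨x, rfl⟩ := hπ y
      obtain ⟨g, hg, hgx⟩ := Cfsg.Agent.Helper54.exists_mem_normalizer_map_eq π hker K hK x hy
      exact ⟨g, hg, hgx⟩
    · exact Subgroup.le_normalizer_map π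
  have hC : Subgroup.centralizer (K : Set Γ) ≤
      (Subgroup.centralizer ((K.map π : Subgroup Γ') : Set Γ')).comap π := by
    intro x hx
    rw [Subgroup.mem_comap, Subgroup.mem_centralizer_iff]
    rintro _ ⟨k, hk, rfl⟩
    have := Subgroup.mem_centralizer_iff.mp hx k hk
    rw [← map_mul, ← map_mul, this]
  rw [hN, ← Subgroup.relIndex_comap]
  exact Subgroup.relIndex_dvd_of_le_left _ hC

/-- a characteristic subgroup of `T` is normalized by `N_G(T)` -/
theorem normalizer_le_normalizer_of_characteristic {G : Type*} [Group G] (T : Subgroup G)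
    (K : Subgroup ↥T) (hK : K.Characteristic) :
    Subgroup.normalizer (T : Set G) ≤ Subgroup.normalizer ((K.map T.subtype : Subgroup G) : Set G) := by
  have key : ∀ g ∈ Subgroup.normalizer (T : Set G), ∀ x ∈ K.map T.subtype,
      g * x * g⁻¹ ∈ K.map T.subtype := by
    rintro g hg _ ⟨k, hk, rfl⟩
    set φ : ↥T ≃* ↥T := T.normalizerMonoidHom ⟨g, hg⟩ with hφ
    have h1 : K.map φ.toMonoidHom = K := Subgroup.characteristic_iff_map_eq.mp hK φ
    have h2 : φ k ∈ K := by
      rw [← h1]
      exact ⟨k, hk, rfl⟩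
    exact ⟨φ k, h2, rfl⟩
  intro g hg
  rw [Subgroup.mem_normalizer_iff]
  intro x
  constructor
  · exact key g hg x
  · intro h
    have := key g⁻¹ (inv_mem hg) _ h
    simpa [mul_assoc] using this

variable {p q : ℕ} [Fact p.Prime]

set_option maxHeartbeats 1600000 in
/-- **The normalizer of an extremal `p`-subgroup.**  Let `H` be a normal `p`-subgroup of `Γ` with `Γ/C_Γ(H)`
`p`-solvable of order divisible by `q`.  Then either `H < T ∩ HC_Γ(H)` carries a `q`-automorphism, or some
characteristic subgroup of the Sylow `p`-subgroup `T` does. -/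
theorem extremal_normalizer (hq : q.Prime) (hpq : p ≠ q)
    (h23 : ¬ ((p = 2 ∧ q = 3) ∨ (p = 3 ∧ q = 2)))
    {Γ : Type u} [Group Γ] [Finite Γ] (H : Subgroup Γ) [hHn : H.Normal] (hHp : IsPGroup p H)
    (hsolv : Cfsg.IsPSolvable p (Γ ⧸ Subgroup.centralizer (H : Set Γ)))
    (hqC : q ∣ (Subgroup.centralizer (H : Set Γ)).index) (T : Sylow p Γ) :
    ∃ K' : Subgroup Γ, IsPGroup p K' ∧ q ∣ autIdx K' ∧ K' ≤ (T : Subgroup Γ) ∧
      ((H < K' ∧ (T : Subgroup Γ) ≤ Subgroup.normalizer (K' : Set Γ)) ∨
        ∃ K : Subgroup ↥(T : Subgroup Γ), K.Characteristic ∧ K' = K.map (T : Subgroup Γ).subtype) := by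
  classical
  have hp : p.Prime := Fact.out
  set C := Subgroup.centralizer (H : Set Γ) with hC
  haveI hCn : C.Normal := inferInstance
  have hTp : IsPGroup p (T : Subgroup Γ) := T.isPGroup'
  have hTsyl : ¬ p ∣ (T : Subgroup Γ).index := T.not_dvd_index
  have hHT : H ≤ (T : Subgroup Γ) := Cfsg.Agent.Lib.normal_pGroup_le_sylow hHn hHp T
  set M := H ⊔ C with hM
  haveI hMn : M.Normal := Subgroup.sup_normal H C
  set H₂ := (T : Subgroup Γ) ⊓ M with hH₂
  have hHH₂ : H ≤ H₂ := le_inf hHT le_sup_left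
  by_cases hcase : H₂ = H
  · -- the case `C_T(H) ≤ H`
    have hTC : (T : Subgroup Γ) ⊓ C = H ⊓ C := by
      apply le_antisymm
      · apply le_inf _ inf_le_right
        rw [← hcase]
        exact le_inf inf_le_left (inf_le_right.trans le_sup_right)
      · exact inf_le_inf_right C hHT
    set Z₀ := H ⊓ C with hZ₀
    haveI hZ₀n : Z₀.Normal := Subgroup.normal_inf_normal H C
    have hZ₀p : IsPGroup p Z₀ := hHp.to_le inf_le_left
    have hsepΓ : Cfsg.IsPSolvable p Γ := by
      apply Cfsg.Agent.Helper31.isPSolvable_of_quotient_of_card Z₀ (Or.inl (IsPGroup.iff_card.mp hZ₀p))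
      haveI : (C.map (QuotientGroup.mk' Z₀)).Normal := hCn.map _ (QuotientGroup.mk'_surjective Z₀)
      apply Cfsg.Agent.Helper31.isPSolvable_of_quotient_of_card (C.map (QuotientGroup.mk' Z₀)) (Or.inr ?_)
      · exact isPSolvable_of_mulEquiv
          (QuotientGroup.quotientQuotientEquivQuotient Z₀ C inf_le_right).symm hsolv
      · have h1 : Nat.card ↥(C.map (QuotientGroup.mk' Z₀)) = Z₀.relIndex C := by
          rw [← Subgroup.relIndex_ker, QuotientGroup.ker_mk']
        rw [h1]
        have h2 := Cfsg.Agent.Helper31.not_dvd_relIndex_inf_normal (T : Subgroup Γ) hTp hTsyl C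
        rw [hTC] at h2
        exact ((Nat.Prime.coprime_iff_not_dvd hp).mpr h2).symm
    set O := Cfsg.pPrimeCore p Γ with hO
    haveI hOch : O.Characteristic := Cfsg.Agent.Lib.pPrimeCore_characteristic p
    haveI hOn : O.Normal := Subgroup.normal_of_characteristic _
    have hOcop : (Nat.card O).Coprime p := Cfsg.Agent.Lib.card_pPrimeCore_coprime p
    have hOC : O ≤ C := by
      intro x hx
      rw [Subgroup.mem_centralizer_iff]
      intro h hh
      have hdis : Disjoint O H := by
        apply Subgroup.disjoint_of_coprime_natCard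
        obtain ⟨k, hk⟩ := IsPGroup.iff_card.mp hHp
        rw [hk]
        exact Nat.Coprime.pow_right k hOcop
      exact ((Subgroup.commute_of_normal_of_disjoint O H hOn hHn hdis x h hx hh).eq).symm
    set π := QuotientGroup.mk' O with hπ
    have hπs : Function.Surjective π := QuotientGroup.mk'_surjective O
    have hkerπ : (Nat.card π.ker).Coprime p := by
      rw [hπ, QuotientGroup.ker_mk']
      exact hOcop
    have hsepQ : Cfsg.IsPSolvable p (Γ ⧸ O) := isPSolvable_quotient O hsepΓ
    have hOQ : Cfsg.pPrimeCore p (Γ ⧸ O) = ⊥ := Cfsg.Agent.Helper54.pPrimeCore_quotient_eq_bot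
    have hcQ := centralizer_pCore_le_of_isPSolvable hsepQ hOQ
    have hqQ : q ∣ Nat.card (Γ ⧸ O) := by
      have h1 : Nat.card (Γ ⧸ O) = O.index := (Subgroup.index_eq_card O).symm
      rw [h1]
      exact hqC.trans (Subgroup.index_dvd_of_le hOC)
    set Tb : Sylow p (Γ ⧸ O) := T.mapSurjective hπs with hTb
    obtain ⟨Kb, hKbch, hKbq⟩ := exists_char_automizer hq hpq h23 hsepQ hcQ hqQ Tb
    set f : ↥(T : Subgroup Γ) →* ↥(Tb : Subgroup (Γ ⧸ O)) := π.subgroupMap (T : Subgroup Γ) with hf
    have hfs : Function.Surjective f := π.subgroupMap_surjective _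
    have hfa : ∀ t : ↥(T : Subgroup Γ), ((f t : ↥(Tb : Subgroup (Γ ⧸ O))) : Γ ⧸ O) = π (t : Γ) :=
      fun t => rfl
    have hfker : f.ker = ⊥ := by
      rw [eq_bot_iff]
      intro t ht
      rw [MonoidHom.mem_ker] at ht
      have h1 := congrArg Subtype.val ht
      rw [hfa] at h1
      have h2 : (t : Γ) ∈ O := by
        rw [← QuotientGroup.ker_mk' O, MonoidHom.mem_ker]
        exact h1
      have hdis : Disjoint O (T : Subgroup Γ) := by
        apply Subgroup.disjoint_of_coprime_natCard
        obtain ⟨k, hk⟩ := IsPGroup.iff_card.mp hTp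
        rw [hk]
        exact Nat.Coprime.pow_right k hOcop
      have h3 : (t : Γ) ∈ O ⊓ (T : Subgroup Γ) := Subgroup.mem_inf.mpr ⟨h2, t.2⟩
      rw [hdis.eq_bot, Subgroup.mem_bot] at h3
      rw [Subgroup.mem_bot]
      exact Subtype.ext h3
    have hkerch : f.ker.Characteristic := by
      rw [hfker]
      exact Subgroup.botCharacteristic
    have hKch := characteristic_comap_of_surjective f hfs hkerch Kb hKbch
    refine ⟨(Kb.comap f).map (T : Subgroup Γ).subtype, hTp.to_le (Subgroup.map_subtype_le _), ?_,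
      Subgroup.map_subtype_le _, Or.inr ⟨Kb.comap f, hKch, rfl⟩⟩
    have hmap : ((Kb.comap f).map (T : Subgroup Γ).subtype).map π =
        Kb.map (Tb : Subgroup (Γ ⧸ O)).subtype := by
      ext y
      constructor
      · rintro ⟨_, ⟨t, ht, rfl⟩, rfl⟩
        rw [SetLike.mem_coe, Subgroup.mem_comap] at ht
        exact ⟨f t, ht, rfl⟩
      · rintro ⟨kb, hkb, rfl⟩
        obtain ⟨t, rfl⟩ := hfs kb
        exact ⟨(t : Γ), ⟨t, hkb, rfl⟩, rfl⟩
    have h3 := autIdx_map_dvd_of_coprime_ker π hπs hkerπ ((Kb.comap f).map (T : Subgroup Γ).subtype)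
      (hTp.to_le (Subgroup.map_subtype_le _))
    rw [hmap] at h3
    exact hKbq.trans h3
  · -- the case `H < T ∩ HC`
    refine ⟨H₂, hTp.to_le inf_le_left, ?_, inf_le_left,
      Or.inl ⟨lt_of_le_of_ne hHH₂ (Ne.symm hcase), ?_⟩⟩
    · have hsyl2 : ¬ p ∣ H₂.relIndex M :=
        Cfsg.Agent.Helper31.not_dvd_relIndex_inf_normal (T : Subgroup Γ) hTp hTsyl M
      have hfr : Subgroup.normalizer (H₂ : Set Γ) ⊔ M = ⊤ :=
        Cfsg.Agent.Helper31.frattini_rel M H₂ inf_le_right (hTp.to_le inf_le_left) hsyl2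
      have hfr2 : Subgroup.normalizer (H₂ : Set Γ) ⊔ C = ⊤ := by
        rw [eq_top_iff, ← hfr]
        apply sup_le le_sup_left
        apply sup_le ((hHH₂.trans Subgroup.le_normalizer).trans le_sup_left) le_sup_right
      have h1 : C.relIndex (Subgroup.normalizer (H₂ : Set Γ)) = C.index := by
        rw [← Subgroup.relIndex_sup_right, hfr2, Subgroup.relIndex_top_right]
      have hC2 : Subgroup.centralizer (H₂ : Set Γ) ≤ C := Subgroup.centralizer_le hHH₂
      unfold autIdx
      have h2 : (C ⊓ Subgroup.normalizer (H₂ : Set Γ)).relIndex (Subgroup.normalizer (H₂ : Set Γ)) ∣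
          (Subgroup.centralizer (H₂ : Set Γ)).relIndex (Subgroup.normalizer (H₂ : Set Γ)) :=
        Subgroup.relIndex_dvd_of_le_left _ (le_inf hC2 (Subgroup.centralizer_le_normalizer _))
      rw [Subgroup.inf_relIndex_right, h1] at h2
      exact hqC.trans h2
    · have key : ∀ t ∈ (T : Subgroup Γ), ∀ x ∈ H₂, t * x * t⁻¹ ∈ H₂ := by
        intro t ht x hx
        obtain ⟨hx1, hx2⟩ := Subgroup.mem_inf.mp hx
        exact Subgroup.mem_inf.mpr ⟨mul_mem (mul_mem ht hx1) (inv_mem ht), hMn.conj_mem x hx2 t⟩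
      intro t ht
      rw [Subgroup.mem_normalizer_iff]
      intro x
      constructor
      · exact key t ht x
      · intro h
        have := key t⁻¹ (inv_mem ht) _ h
        simpa [mul_assoc] using this

end Cfsg.Agent.Helper11
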