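import Cfsg.Agent.Helper11.QLoc7

/-!
# `q`-local control of automizers, part 8: the global theorem (helper11)

If all automizers of `p`-subgroups are `p`-solvable and `q` divides the order of one of them (`{p,q} ≠ {2,3}`), then
`q` divides the order of the automizer of a normal subgroup of a Sylow `p`-subgroup.
-/

set_option autoImplicit false

namespace Cfsg.Agent.Helper11

open scoped commutatorElement

universe u

variable {p q : ℕ} [Fact p.Prime]

/-- normalizer condition in a Sylow subgroup, in subgroup form -/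
theorem lt_inf_normalizer_of_lt {G : Type*} [Group G] [Finite G] {P T' : Subgroup G} (hP : IsPGroup p P)
    (hlt : T' < P) : T' < P ⊓ Subgroup.normalizer (T' : Set G) := by
  haveI : Group.IsNilpotent ↥P := hP.isNilpotent
  have hnc : NormalizerCondition ↥P := normalizerCondition_of_isNilpotent
  have h1 : T'.subgroupOf P < ⊤ := by
    rw [lt_top_iff_ne_top]
    intro h
    rw [Subgroup.subgroupOf_eq_top] at h
    exact absurd (le_antisymm hlt.le h) hlt.ne
  have h2 := hnc _ h1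
  obtain ⟨y, hy, hy'⟩ := SetLike.exists_of_lt h2
  refine lt_of_le_of_ne (le_inf hlt.le Subgroup.le_normalizer) ?_
  intro heq
  apply hy'
  rw [Subgroup.mem_subgroupOf, heq]
  refine Subgroup.mem_inf.mpr ⟨y.2, ?_⟩
  have key : ∀ z : ↥P, z ∈ Subgroup.normalizer ((T'.subgroupOf P : Subgroup ↥P) : Set ↥P) →
      ∀ x ∈ T', (z : G) * x * (z : G)⁻¹ ∈ T' := by
    intro z hz x hx
    have h3 := (Subgroup.mem_normalizer_iff.mp hz ⟨x, hlt.le hx⟩).mp (Subgroup.mem_subgroupOf.mpr hx)
    exact Subgroup.mem_subgroupOf.mp h3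
  rw [Subgroup.mem_normalizer_iff]
  intro x
  constructor
  · exact key y hy x
  · intro h
    have := key y⁻¹ (inv_mem hy) _ h
    simpa [mul_assoc] using this

set_option maxHeartbeats 1600000 in
/-- **The global theorem**, for some Sylow `p`-subgroup. -/
theorem exists_sylow_normal_automizer (hq : q.Prime) (hpq : p ≠ q)
    (h23 : ¬ ((p = 2 ∧ q = 3) ∨ (p = 3 ∧ q = 2))) {G : Type u} [Group G] [Finite G]
    (hsol : ∀ H : Subgroup G, IsPGroup p ↥H →
      Cfsg.IsPSolvable p (↥(Subgroup.normalizer (H : Set G)) ⧸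
        (Subgroup.centralizer (H : Set G)).subgroupOf (Subgroup.normalizer (H : Set G))))
    (H₀ : Subgroup G) (hH₀ : IsPGroup p ↥H₀) (hq₀ : q ∣ autIdx H₀) :
    ∃ P : Sylow p G, ∃ K : Subgroup G, K ≤ (P : Subgroup G) ∧
      (P : Subgroup G) ≤ Subgroup.normalizer (K : Set G) ∧ q ∣ autIdx K := by
  classical
  have hp : p.Prime := Fact.out
  set 𝓗 : Set (Subgroup G) := {H | IsPGroup p ↥H ∧ q ∣ autIdx H} with h𝓗
  set m : Subgroup G → ℕ := fun H => (Nat.card ↥(Subgroup.normalizer (H : Set G))).factorization p with hm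
  obtain ⟨H₁, hH₁, hmax₁⟩ := Set.exists_max_image 𝓗 m (Set.toFinite _) ⟨H₀, hH₀, hq₀⟩
  set 𝓗' : Set (Subgroup G) := {H | H ∈ 𝓗 ∧ m H = m H₁} with h𝓗'
  obtain ⟨H, hH, hmax₂⟩ := Set.exists_max_image 𝓗' (fun H => Nat.card ↥H) (Set.toFinite _)
    ⟨H₁, hH₁, rfl⟩
  obtain ⟨⟨hHp, hHq⟩, hmH⟩ := hH
  have hmax₁' : ∀ L ∈ 𝓗, m L ≤ m H := fun L hL => by rw [hmH]; exact hmax₁ L hL
  have hmax₂' : ∀ L ∈ 𝓗, m L = m H → Nat.card ↥L ≤ Nat.card ↥H := fun L hL hLm =>
    hmax₂ L ⟨hL, hLm.trans hmH⟩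
  set X := Subgroup.normalizer (H : Set G) with hX
  have hHX : H ≤ X := Subgroup.le_normalizer
  set HΓ : Subgroup ↥X := H.subgroupOf X with hHΓ
  haveI hHΓn : HΓ.Normal := Subgroup.normal_in_normalizer
  have hHΓp : IsPGroup p ↥HΓ := hHp.comap_subtype
  have hHΓmap : HΓ.map X.subtype = H := by
    rw [hHΓ, Subgroup.subgroupOf_map_subtype, inf_of_le_left hHX]
  have hcent : Subgroup.centralizer (HΓ : Set ↥X) =
      (Subgroup.centralizer (H : Set G)).subgroupOf X := by
    rw [← centralizer_map_subtype X HΓ, hHΓmap]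
  have hsolvΓ : Cfsg.IsPSolvable p (↥X ⧸ Subgroup.centralizer (HΓ : Set ↥X)) :=
    isPSolvable_of_mulEquiv (QuotientGroup.quotientMulEquivOfEq hcent.symm) (hsol H hHp)
  have hqCΓ : q ∣ (Subgroup.centralizer (HΓ : Set ↥X)).index := by
    rw [hcent]
    exact hHq
  obtain ⟨T₀⟩ : Nonempty (Sylow p ↥X) := inferInstance
  obtain ⟨K', hK'p, hK'q, hK'T, hcases⟩ := extremal_normalizer hq hpq h23 HΓ hHΓp hsolvΓ hqCΓ T₀
  set K'' := K'.map X.subtype with hK''
  set T' := (T₀ : Subgroup ↥X).map X.subtype with hT'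
  have hinj : Function.Injective X.subtype := Subgroup.subtype_injective X
  have hK''𝓗 : K'' ∈ 𝓗 := ⟨hK'p.map _, hK'q.trans (autIdx_subtype_dvd X K')⟩
  have hT'p : IsPGroup p ↥T' := T₀.isPGroup'.map _
  have hcardT' : Nat.card ↥T' = p ^ m H := by
    rw [hT', Nat.card_congr ((T₀ : Subgroup ↥X).equivMapOfInjective X.subtype hinj).symm.toEquiv]
    exact T₀.card_eq_multiplicity
  have hK''T' : K'' ≤ T' := Subgroup.map_mono hK'T
  -- a `p`-subgroup containing `T'` and normalizing a member of `𝓗` equals `T'`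
  have star : ∀ L ∈ 𝓗, ∀ R : Subgroup G, IsPGroup p ↥R → R ≤ Subgroup.normalizer (L : Set G) → T' ≤ R →
      R = T' ∧ m L = m H := by
    intro L hL R hRp hRL hTR
    obtain ⟨a, ha⟩ := IsPGroup.iff_card.mp hRp
    have h1 : p ^ a ∣ Nat.card ↥(Subgroup.normalizer (L : Set G)) := by
      rw [← ha]
      exact Subgroup.card_dvd_of_le hRL
    have h2 : a ≤ m L := (hp.pow_dvd_iff_le_factorization Nat.card_pos.ne').mp h1
    have h3 : Nat.card ↥T' ≤ Nat.card ↥R := Subgroup.card_le_of_le hTR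
    rw [hcardT', ha] at h3
    have h4 : m H ≤ a := (Nat.pow_le_pow_iff_right hp.one_lt).mp h3
    have h5 := hmax₁' L hL
    have h6 : a = m H := by omega
    refine ⟨(Subgroup.eq_of_le_of_card_ge hTR ?_).symm, by omega⟩
    rw [hcardT', ha, h6]
  rcases hcases with ⟨hlt, hTN⟩ | ⟨K, hKch, hK'eq⟩
  · -- impossible by the maximal choice of `H`
    exfalso
    have hT'N : T' ≤ Subgroup.normalizer (K'' : Set G) :=
      (Subgroup.map_mono hTN).trans (Subgroup.le_normalizer_map X.subtype)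
    obtain ⟨-, hmK⟩ := star K'' hK''𝓗 T' hT'p hT'N le_rfl
    have h1 := hmax₂' K'' hK''𝓗 hmK
    have h2 : H ≤ K'' := by
      rw [← hHΓmap]
      exact Subgroup.map_mono hlt.le
    have h3 : H = K'' := Subgroup.eq_of_le_of_card_ge h2 h1
    have h4 : HΓ = K' := by
      apply Subgroup.map_injective hinj
      rw [hHΓmap, h3]
    exact hlt.ne h4
  · obtain ⟨P, hTP⟩ := hT'p.exists_le_sylow
    set e : ↥(T₀ : Subgroup ↥X) ≃* ↥T' := (T₀ : Subgroup ↥X).equivMapOfInjective X.subtype hinj with he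
    have hK''eq : K'' = (K.map e.toMonoidHom).map T'.subtype := by
      rw [hK'', hK'eq, Subgroup.map_map, Subgroup.map_map]
      rfl
    have hnorm : Subgroup.normalizer (T' : Set G) ≤ Subgroup.normalizer (K'' : Set G) := by
      rw [hK''eq]
      exact normalizer_le_normalizer_of_characteristic T' _ (characteristic_map_equiv e K hKch)
    by_cases hTPeq : T' = (P : Subgroup G)
    · refine ⟨P, K'', ?_, ?_, hK''𝓗.2⟩
      · rw [← hTPeq]
        exact hK''T'
      · rw [← hTPeq]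
        exact Subgroup.le_normalizer.trans hnorm
    · exfalso
      have hlt : T' < (P : Subgroup G) := lt_of_le_of_ne hTP hTPeq
      have h1 := lt_inf_normalizer_of_lt P.isPGroup' hlt
      obtain ⟨h2, -⟩ := star K'' hK''𝓗 ((P : Subgroup G) ⊓ Subgroup.normalizer (T' : Set G))
        (P.isPGroup'.to_le inf_le_left) (inf_le_right.trans hnorm) h1.le
      exact h1.ne h2.symm

end Cfsg.Agent.Helper11
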