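import Mathlib
set_option autoImplicit false

/-!
Piece (EX1) of board post #6920 (helper44, S5981): an `r × r` matrix of determinant one over a finite field with
`(q - 1)_r = r` whose `r`-th power is the scalar `z` has `z = 1`.
-/

namespace Cfsg.Agent.Helper11.QSim

open Matrix Polynomial

universe u

variable {F : Type u} [Field F] [Fintype F] {n : ℕ}

/-- (EX1) -/
theorem scalar_eq_one_of_det {q : ℕ} (hq : Fintype.card F = q) (r : ℕ) (hr : r.Prime)
    (hr2 : r ≠ 2) (hv : padicValNat r (q - 1) = 1) (x : Matrix (Fin r) (Fin r) F)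
    (hdet : x.det = 1) (z : F) (hx : x ^ r = z • (1 : Matrix (Fin r) (Fin r) F)) : z = 1 := by
  classical
  haveI : Fact r.Prime := ⟨hr⟩
  have hrodd : Odd r := hr.eq_two_or_odd'.resolve_left hr2
  have hr0 : r ≠ 0 := hr.ne_zero
  -- `z ^ r = 1`
  have hz : z ^ r = 1 := by
    have h := congrArg Matrix.det hx
    rw [Matrix.det_pow, hdet, one_pow, Matrix.det_smul, Matrix.det_one, mul_one, Fintype.card_fin] at h
    exact h.symm
  by_contra hz1
  have hq1 : q - 1 ≠ 0 := by
    intro h0
    rw [h0, padicValNat.zero] at hv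
    exact zero_ne_one hv
  -- `z` is not an `r`-th power
  have hnot : ∀ b : F, b ^ r ≠ z := by
    intro b hb
    have hb0 : b ≠ 0 := by
      rintro rfl
      rw [zero_pow hr0] at hb
      rw [← hb, zero_pow hr0] at hz
      exact zero_ne_one hz
    have hbr2 : b ^ (r ^ 2) = 1 := by rw [pow_two, pow_mul, hb, hz]
    have hdvd : orderOf b ∣ r ^ 2 := orderOf_dvd_of_pow_eq_one hbr2
    obtain ⟨k, hk2, hk⟩ := (Nat.dvd_prime_pow hr).mp hdvd
    have hbq : b ^ (q - 1) = 1 := by
      rw [← hq]
      exact FiniteField.pow_card_sub_one_eq_one b hb0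
    have hdvdq : orderOf b ∣ q - 1 := orderOf_dvd_of_pow_eq_one hbq
    have hk' : k = 2 := by
      by_contra hne
      have hk1 : k ≤ 1 := by omega
      have : orderOf b ∣ r := by
        rw [hk]
        calc r ^ k ∣ r ^ 1 := pow_dvd_pow r hk1
          _ = r := pow_one r
      have hbr1 : b ^ r = 1 := orderOf_dvd_iff_pow_eq_one.mp this
      exact hz1 (hb ▸ hbr1)
    rw [hk, hk'] at hdvdq
    have := (padicValNat_dvd_iff_le (p := r) hq1).mp hdvdq
    omega
  have hirr : Irreducible (X ^ r - C z : F[X]) := X_pow_sub_C_irreducible_of_prime hr hnot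
  have hmonic : (X ^ r - C z : F[X]).Monic := monic_X_pow_sub_C z hr0
  have haeval : aeval x (X ^ r - C z : F[X]) = 0 := by
    rw [map_sub, map_pow, aeval_X, aeval_C, hx, Algebra.algebraMap_eq_smul_one, sub_self]
  have hmin : (X ^ r - C z : F[X]) = minpoly F x := minpoly.eq_of_irreducible_of_monic hirr haeval hmonic
  have hdvd : (X ^ r - C z : F[X]) ∣ x.charpoly := hmin ▸ Matrix.minpoly_dvd_charpoly x
  have hdeg : x.charpoly.natDegree ≤ (X ^ r - C z : F[X]).natDegree := by
    rw [Matrix.charpoly_natDegree_eq_dim, Fintype.card_fin, natDegree_X_pow_sub_C]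
  have hchar : x.charpoly = X ^ r - C z :=
    eq_of_monic_of_dvd_of_natDegree_le hmonic (Matrix.charpoly_monic x) hdvd hdeg
  have hdet2 := Matrix.det_eq_sign_charpoly_coeff x
  rw [hchar, hdet, Fintype.card_fin, hrodd.neg_one_pow, coeff_sub, coeff_X_pow, coeff_C_zero,
    if_neg (Ne.symm hr0), zero_sub, neg_one_mul, neg_neg] at hdet2
  exact hz1 hdet2.symm

end Cfsg.Agent.Helper11.QSim
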