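import Mathlib
set_option autoImplicit false

/-!
Piece (EX2) of board post #6920 (helper44, S5981): over a finite field containing the `r`-th roots of unity, the
characteristic polynomial of a matrix `x` with `x ^ r = 1` is a product of linear factors `X - μ i` with `μ i ^ r = 1`.
-/

namespace Cfsg.Agent.Helper11.QSim

open Matrix Polynomial

universe u

/-- A root of the characteristic polynomial of a matrix `y` with `y ^ r = 1` is an `r`-th root of unity. -/
theorem pow_eq_one_of_isRoot_charpoly {L : Type*} [Field L] {n : ℕ} (y : Matrix (Fin n) (Fin n) L) (r : ℕ)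
    (hy : y ^ r = 1) (a : L) (ha : y.charpoly.IsRoot a) : a ^ r = 1 := by
  have hdet : (Matrix.scalar (Fin n) a - y).det = 0 := by
    rw [← Matrix.eval_charpoly]
    exact ha
  obtain ⟨v, hv0, hv⟩ := Matrix.exists_mulVec_eq_zero_iff.mpr hdet
  have hyv : y *ᵥ v = a • v := by
    rw [Matrix.sub_mulVec, sub_eq_zero] at hv
    rw [← hv]
    ext i
    simp [Matrix.mulVec, dotProduct, Matrix.scalar_apply, Matrix.diagonal_apply, Finset.sum_ite_eq,
      Finset.mem_univ]
  have hpow : ∀ k : ℕ, (y ^ k) *ᵥ v = a ^ k • v := by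
    intro k
    induction k with
    | zero => simp
    | succ k ih =>
      rw [pow_succ, ← Matrix.mulVec_mulVec, hyv, Matrix.mulVec_smul, ih, smul_smul, pow_succ, mul_comm]
  have h1 := hpow r
  rw [hy, Matrix.one_mulVec] at h1
  by_contra hne
  apply hv0
  have h2 : (a ^ r - 1) • v = 0 := by
    rw [sub_smul, one_smul, ← h1, sub_self]
  rcases smul_eq_zero.mp h2 with h3 | h3
  · exact absurd (sub_eq_zero.mp h3) hne
  · exact h3

variable {F : Type u} [Field F] [Fintype F] {n : ℕ}

/-- (EX2) -/
theorem exists_roots_of_pow_eq_one {q : ℕ} (hq : Fintype.card F = q) (r : ℕ) (hr : r.Prime)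
    (hrq : r ∣ q - 1) (x : Matrix (Fin n) (Fin n) F) (hx : x ^ r = 1) :
    ∃ μ : Fin n → F, (∀ i, μ i ^ r = 1) ∧ x.charpoly = ∏ i, (X - C (μ i)) := by
  classical
  haveI : Fact r.Prime := ⟨hr⟩
  haveI : NeZero r := ⟨hr.ne_zero⟩
  -- a primitive `r`-th root of unity in `F`
  have hcard : Nat.card Fˣ = q - 1 := by
    rw [Nat.card_eq_fintype_card, Fintype.card_units, hq]
  obtain ⟨g, hg⟩ := exists_prime_orderOf_dvd_card' (G := Fˣ) r (by rw [hcard]; exact hrq)
  have hζord : orderOf ((g : Fˣ) : F) = r := by rw [orderOf_units]; exact hg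
  have hprim : IsPrimitiveRoot ((g : Fˣ) : F) r := hζord ▸ IsPrimitiveRoot.orderOf _
  -- the characteristic polynomial splits
  have hinj : Function.Injective (algebraMap F (AlgebraicClosure F)) :=
    (algebraMap F (AlgebraicClosure F)).injective
  have hprimK : IsPrimitiveRoot (algebraMap F (AlgebraicClosure F) ((g : Fˣ) : F)) r :=
    hprim.map_of_injective hinj
  have hsplit : x.charpoly.Splits := by
    refine Splits.of_splits_map_of_injective hinj (IsAlgClosed.splits _) ?_
    intro a ha
    rw [← Matrix.charpoly_map] at ha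
    have hroot : ((x.map (algebraMap F (AlgebraicClosure F))).charpoly).IsRoot a :=
      (Polynomial.mem_roots'.mp ha).2
    have hxK : (x.map (algebraMap F (AlgebraicClosure F))) ^ r = 1 := by
      have h := congrArg (RingHom.mapMatrix (algebraMap F (AlgebraicClosure F))) hx
      rw [map_pow, map_one] at h
      exact h
    have har := pow_eq_one_of_isRoot_charpoly _ r hxK a hroot
    obtain ⟨j, -, hj⟩ := hprimK.eq_pow_of_pow_eq_one har
    exact ⟨((g : Fˣ) : F) ^ j, by rw [map_pow]; exact hj⟩
  have hmonic : x.charpoly.Monic := Matrix.charpoly_monic x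
  have hprod := hsplit.eq_prod_roots_of_monic hmonic
  have hcardroots : x.charpoly.roots.card = n := by
    rw [← hsplit.natDegree_eq_card_roots, Matrix.charpoly_natDegree_eq_dim, Fintype.card_fin]
  -- list of the roots
  set l : List F := x.charpoly.roots.toList with hl
  have hlen : l.length = n := by rw [hl, Multiset.length_toList, hcardroots]
  have hlmem : ∀ a ∈ l, a ^ r = 1 := by
    intro a ha
    rw [hl, Multiset.mem_toList] at ha
    exact pow_eq_one_of_isRoot_charpoly x r hx a (Polynomial.mem_roots'.mp ha).2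
  refine ⟨fun i => l.get (Fin.cast hlen.symm i), fun i => hlmem _ (List.get_mem _ _), ?_⟩
  have h1 : ∏ i : Fin n, (X - C (l.get (Fin.cast hlen.symm i))) =
      ∏ j : Fin l.length, (X - C (l.get j)) :=
    Fintype.prod_equiv (finCongr hlen.symm) _ _ (fun i => rfl)
  rw [h1]
  have h2 : ∏ j : Fin l.length, (X - C (l.get j)) = (l.map (fun a => X - C a)).prod := by
    rw [← List.prod_ofFn]
    congr 1
    conv_rhs => rw [← List.ofFn_get l, List.map_ofFn]
    rfl
  rw [h2]
  calc x.charpoly = (Multiset.map (fun a => X - C a) x.charpoly.roots).prod := hprod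
    _ = (Multiset.map (fun a => X - C a) (l : Multiset F)).prod := by rw [hl, Multiset.coe_toList]
    _ = ((l.map (fun a => X - C a) : List F[X]) : Multiset F[X]).prod := by rw [Multiset.map_coe]
    _ = (l.map (fun a => X - C a)).prod := Multiset.prod_coe _

end Cfsg.Agent.Helper11.QSim
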