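import Mathlib
set_option autoImplicit false

/-!
Piece (EX3) of board post #6920 (helper44, S5981): five fifth roots of unity with product one, not all equal, can be
arranged as `(x; y₁, y₂; y₃, y₄)` with `y₁ y₂ = x² = y₃ y₄`.
-/

namespace Cfsg.Agent.Helper11.QSim

/-- Five residues modulo `5` with sum `0`, not all equal, contain a three-term arithmetic progression at distinct
positions. -/
theorem ap_of_sum_zero : ∀ k0 k1 k2 k3 k4 : Fin 5,
    (k0.val + k1.val + k2.val + k3.val + k4.val) % 5 = 0 →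
    ¬ (k0 = k1 ∧ k1 = k2 ∧ k2 = k3 ∧ k3 = k4) →
    ∃ a b c : Fin 5, a ≠ b ∧ a ≠ c ∧ b ≠ c ∧
      ((![k0, k1, k2, k3, k4] a).val + (![k0, k1, k2, k3, k4] b).val) % 5 =
        (2 * (![k0, k1, k2, k3, k4] c).val) % 5 := by
  decide

/-- A permutation of `Fin 5` sending `0, 1, 2` to `c, a, b`. -/
def mkPerm (a b c : Fin 5) : Equiv.Perm (Fin 5) :=
  (Equiv.swap 0 c * Equiv.swap 1 (Equiv.swap 0 c a)) *
    Equiv.swap 2 (Equiv.swap 1 (Equiv.swap 0 c a) (Equiv.swap 0 c b))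

theorem mkPerm_spec : ∀ a b c : Fin 5, a ≠ b → a ≠ c → b ≠ c →
    mkPerm a b c 0 = c ∧ mkPerm a b c 1 = a ∧ mkPerm a b c 2 = b := by decide

universe u

variable {F : Type u} [Field F]

/-- (EX3) -/
theorem exists_pairs_five (μ : Fin 5 → F) (hμ : ∀ i, μ i ^ 5 = 1) (hprod : ∏ i, μ i = 1)
    (hne : ∃ i j, μ i ≠ μ j) :
    ∃ σ : Equiv.Perm (Fin 5), μ (σ 1) * μ (σ 2) = μ (σ 0) ^ 2 ∧ μ (σ 3) * μ (σ 4) = μ (σ 0) ^ 2 := by
  haveI : Fact (Nat.Prime 5) := ⟨by norm_num⟩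
  obtain ⟨i₀, hi₀⟩ : ∃ i, μ i ≠ 1 := by
    by_contra h
    have h' : ∀ i, μ i = 1 := fun i => by_contra (fun hi => h ⟨i, hi⟩)
    obtain ⟨i, j, hij⟩ := hne
    exact hij (by rw [h' i, h' j])
  have hord : orderOf (μ i₀) = 5 := orderOf_eq_prime (hμ i₀) hi₀
  have hprim : IsPrimitiveRoot (μ i₀) 5 := hord ▸ IsPrimitiveRoot.orderOf (μ i₀)
  have hk : ∀ i, ∃ k : Fin 5, (μ i₀) ^ (k : ℕ) = μ i := by
    intro i
    obtain ⟨k, hk5, hk⟩ := hprim.eq_pow_of_pow_eq_one (hμ i)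
    exact ⟨⟨k, hk5⟩, hk⟩
  choose k hk using hk
  have hsum : (∑ i, (k i : ℕ)) % 5 = 0 := by
    have h1 : (μ i₀) ^ (∑ i, (k i : ℕ)) = 1 := by
      rw [← Finset.prod_pow_eq_pow_sum]
      simp_rw [hk]
      exact hprod
    exact Nat.mod_eq_zero_of_dvd ((hprim.pow_eq_one_iff_dvd _).mp h1)
  rw [Fin.sum_univ_five] at hsum
  have hnc : ¬ (k 0 = k 1 ∧ k 1 = k 2 ∧ k 2 = k 3 ∧ k 3 = k 4) := by
    rintro ⟨h01, h12, h23, h34⟩
    obtain ⟨i, j, hij⟩ := hne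
    apply hij
    have hall : ∀ i, k i = k 0 := by
      intro i
      fin_cases i
      · rfl
      · exact h01.symm
      · exact (h01.trans h12).symm
      · exact (h01.trans (h12.trans h23)).symm
      · exact (h01.trans (h12.trans (h23.trans h34))).symm
    rw [← hk i, ← hk j, hall i, hall j]
  obtain ⟨a, b, c, hab, hac, hbc, hap⟩ := ap_of_sum_zero (k 0) (k 1) (k 2) (k 3) (k 4) hsum hnc
  have hvec : ![k 0, k 1, k 2, k 3, k 4] = k := by
    funext i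
    fin_cases i <;> rfl
  rw [hvec] at hap
  obtain ⟨h0, h1, h2⟩ := mkPerm_spec a b c hab hac hbc
  have hfirst : μ (mkPerm a b c 1) * μ (mkPerm a b c 2) = μ (mkPerm a b c 0) ^ 2 := by
    rw [h0, h1, h2, ← hk a, ← hk b, ← hk c, ← pow_add, ← pow_mul]
    have key : ∀ n : ℕ, μ i₀ ^ n = μ i₀ ^ (n % 5) := by
      intro n
      have h := pow_mod_orderOf (μ i₀) n
      rw [hord] at h
      exact h.symm
    have e1 := key ((k a : ℕ) + (k b : ℕ))
    have e2 := key ((k c : ℕ) * 2)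
    rw [e1, e2, hap, mul_comm]
  refine ⟨mkPerm a b c, hfirst, ?_⟩
  have hperm : ∏ i, μ (mkPerm a b c i) = 1 := by
    rw [Equiv.prod_comp (mkPerm a b c) μ]
    exact hprod
  rw [Fin.prod_univ_five] at hperm
  have h3 : μ (mkPerm a b c 0) ^ 3 * (μ (mkPerm a b c 3) * μ (mkPerm a b c 4)) = 1 := by
    rw [← hperm]
    have e : μ (mkPerm a b c 0) * μ (mkPerm a b c 1) * μ (mkPerm a b c 2) * μ (mkPerm a b c 3) *
        μ (mkPerm a b c 4) = μ (mkPerm a b c 0) * (μ (mkPerm a b c 1) * μ (mkPerm a b c 2)) *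
          (μ (mkPerm a b c 3) * μ (mkPerm a b c 4)) := by ring
    rw [e, hfirst]
    ring
  calc μ (mkPerm a b c 3) * μ (mkPerm a b c 4)
      = (μ (mkPerm a b c 3) * μ (mkPerm a b c 4)) * μ (mkPerm a b c 0) ^ 5 := by
        rw [hμ, mul_one]
    _ = (μ (mkPerm a b c 0) ^ 3 * (μ (mkPerm a b c 3) * μ (mkPerm a b c 4))) * μ (mkPerm a b c 0) ^ 2 := by
        ring
    _ = μ (mkPerm a b c 0) ^ 2 := by rw [h3, one_mul]

end Cfsg.Agent.Helper11.QSim
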