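import Mathlib
import Cfsg.Prelude.Def_PLocal
import Cfsg.Agent.Lib.Cores

set_option autoImplicit false

namespace Cfsg.Agent.Helper11

open scoped commutatorElement

section quadratic
variable {H : Type*} [Group H]

/-- `[U, ⟨y⟩] = 1` iff `y` commutes with every element of `U`. -/
theorem commutator_zpowers_eq_bot_iff (U : Subgroup H) (y : H) :
    ⁅U, Subgroup.zpowers y⁆ = ⊥ ↔ ∀ u ∈ U, u * y = y * u := by
  rw [eq_bot_iff, Subgroup.commutator_le]
  constructor
  · intro h u hu
    have := h u hu y (Subgroup.mem_zpowers y)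
    rw [Subgroup.mem_bot, commutatorElement_eq_one_iff_mul_comm] at this
    exact this
  · intro h u hu a ha
    rw [Subgroup.mem_bot, commutatorElement_eq_one_iff_mul_comm]
    obtain ⟨i, rfl⟩ := ha
    have hc : Commute u y := h u hu
    exact (hc.zpow_right i)

/-- The commutator `[U, ⟨a⟩]` for `U ≤ V` only depends on the coset of `a` modulo `C(V)`. -/
theorem commutator_zpowers_le_of_mk_eq (V : Subgroup H) [hV : V.Normal] {U : Subgroup H} (hU : U ≤ V)
    {z r : H}
    (h : (QuotientGroup.mk r : H ⧸ Subgroup.centralizer (V : Set H)) = QuotientGroup.mk z) :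
    ⁅U, Subgroup.zpowers r⁆ ≤ ⁅U, Subgroup.zpowers z⁆ := by
  rw [Subgroup.commutator_le]
  intro u hu a ha
  obtain ⟨i, rfl⟩ := ha
  have h1 : (QuotientGroup.mk (r ^ i) : H ⧸ Subgroup.centralizer (V : Set H)) = QuotientGroup.mk (z ^ i) := by
    rw [QuotientGroup.mk_zpow, QuotientGroup.mk_zpow, h]
  rw [QuotientGroup.eq] at h1
  -- c = (r^i)⁻¹ z^i centralizes V
  have hc := Subgroup.mem_centralizer_iff.mp h1 u⁻¹ (V.inv_mem (hU hu))
  have h2 : ⁅u, r ^ i⁆ = ⁅u, z ^ i⁆ := by
    rw [commutatorElement_def, commutatorElement_def]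
    have e1 : z ^ i = r ^ i * ((r ^ i)⁻¹ * z ^ i) := by group
    have e2 : u * z ^ i * u⁻¹ * (z ^ i)⁻¹ =
        u * r ^ i * (((r ^ i)⁻¹ * z ^ i) * u⁻¹) * ((r ^ i)⁻¹ * z ^ i)⁻¹ * (r ^ i)⁻¹ := by group
    rw [e2, ← hc]
    group
  rw [h2]
  exact Subgroup.commutator_mem_commutator hu (Subgroup.mem_zpowers_iff.mpr ⟨i, rfl⟩)

theorem commutator_zpowers_eq_of_mk_eq (V : Subgroup H) [hV : V.Normal] {U : Subgroup H} (hU : U ≤ V)
    {z r : H}
    (h : (QuotientGroup.mk r : H ⧸ Subgroup.centralizer (V : Set H)) = QuotientGroup.mk z) :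
    ⁅U, Subgroup.zpowers r⁆ = ⁅U, Subgroup.zpowers z⁆ :=
  le_antisymm (commutator_zpowers_le_of_mk_eq V hU h) (commutator_zpowers_le_of_mk_eq V hU h.symm)

/-- Quadratic action on `V` only depends on the coset modulo `C(V)`. -/
theorem quadratic_of_mk_eq (V : Subgroup H) [hV : V.Normal] {z r : H}
    (h : (QuotientGroup.mk r : H ⧸ Subgroup.centralizer (V : Set H)) = QuotientGroup.mk z)
    (hz : ⁅⁅V, Subgroup.zpowers z⁆, Subgroup.zpowers z⁆ = ⊥) :
    ⁅⁅V, Subgroup.zpowers r⁆, Subgroup.zpowers r⁆ = ⊥ := by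
  rw [commutator_zpowers_eq_of_mk_eq V (le_refl V) h,
    commutator_zpowers_eq_of_mk_eq V (Subgroup.commutator_le_left V _) h]
  exact hz

/-- Quadratic action is invariant under conjugation (for normal `V`). -/
theorem quadratic_conj (V : Subgroup H) [hV : V.Normal] (y g : H)
    (hy : ⁅⁅V, Subgroup.zpowers y⁆, Subgroup.zpowers y⁆ = ⊥) :
    ⁅⁅V, Subgroup.zpowers (g * y * g⁻¹)⁆, Subgroup.zpowers (g * y * g⁻¹)⁆ = ⊥ := by
  have h1 : V.map (MulAut.conj g).toMonoidHom = V := by
    apply le_antisymm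
    · rintro _ ⟨v, hv, rfl⟩
      exact hV.conj_mem v hv g
    · intro v hv
      refine ⟨g⁻¹ * v * g⁻¹⁻¹, hV.conj_mem v hv g⁻¹, ?_⟩
      simp only [MulEquiv.coe_toMonoidHom, MulAut.conj_apply]
      group
  have h2 : (Subgroup.zpowers y).map (MulAut.conj g).toMonoidHom = Subgroup.zpowers (g * y * g⁻¹) := by
    rw [MonoidHom.map_zpowers]
    rfl
  have h3 := congrArg (Subgroup.map (MulAut.conj g).toMonoidHom) hy
  rw [Subgroup.map_commutator, Subgroup.map_commutator, h1, h2, Subgroup.map_bot] at h3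
  exact h3

end quadratic

section quadratic2
variable {H : Type*} [Group H]

/-- In a group that is `p`-stable on the normal subgroup `V`, any element acting quadratically on `V`
acts on `V` like an element of a given Sylow `p`-subgroup `R`. -/
theorem exists_mem_sylow_mk_eq [Finite H] {p : ℕ} [Fact p.Prime] (V : Subgroup H) [hV : V.Normal]
    (hst : Cfsg.IsPStableOn p V) (R : Sylow p H) (z : H)
    (hz : ⁅⁅V, Subgroup.zpowers z⁆, Subgroup.zpowers z⁆ = ⊥) :
    ∃ r ∈ (R : Subgroup H),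
      (QuotientGroup.mk r : H ⧸ Subgroup.centralizer (V : Set H)) = QuotientGroup.mk z := by
  have h1 := hst z hz
  have hsurj : Function.Surjective (QuotientGroup.mk' (Subgroup.centralizer (V : Set H))) :=
    QuotientGroup.mk'_surjective _
  have h2 := Cfsg.Agent.Lib.pCore_le_sylow (R.mapSurjective hsurj) h1
  rw [Sylow.coe_mapSurjective] at h2
  obtain ⟨r, hr, hrz⟩ := h2
  exact ⟨r, hr, hrz⟩

/-- Closure step: if every element of the Sylow subgroup `R` acting quadratically on `V = ⟨U^H⟩` centralizes `U`,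
then every element of `H` acting quadratically on `V` centralizes `V`. -/
theorem centralizes_normalClosure_of_quadratic [Finite H] {p : ℕ} [Fact p.Prime] (U V : Subgroup H)
    [hV : V.Normal] (hUV : V = Subgroup.normalClosure (U : Set H))
    (hst : Cfsg.IsPStableOn p V) (R : Sylow p H)
    (hP : ∀ r ∈ (R : Subgroup H), ⁅⁅V, Subgroup.zpowers r⁆, Subgroup.zpowers r⁆ = ⊥ →
      ∀ u ∈ U, u * r = r * u)
    (y : H) (hy : ⁅⁅V, Subgroup.zpowers y⁆, Subgroup.zpowers y⁆ = ⊥) :
    ⁅V, Subgroup.zpowers y⁆ = ⊥ := by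
  have hUleV : U ≤ V := by rw [hUV]; exact Subgroup.le_normalClosure
  -- every conjugate of y centralizes U
  have key : ∀ g : H, ∀ u ∈ U, u * (g * y * g⁻¹) = (g * y * g⁻¹) * u := by
    intro g u hu
    have hz := quadratic_conj V y g hy
    obtain ⟨r, hr, hrz⟩ := exists_mem_sylow_mk_eq V hst R _ hz
    have hrq := quadratic_of_mk_eq V hrz hz
    have h1 := hP r hr hrq u hu
    -- z = r * c with c ∈ C(V)
    rw [QuotientGroup.eq] at hrz
    have hc := Subgroup.mem_centralizer_iff.mp hrz u (hUleV hu)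
    obtain ⟨c, hcdef⟩ : ∃ c : H, c = r⁻¹ * (g * y * g⁻¹) := ⟨_, rfl⟩
    rw [← hcdef] at hc
    have e1 : g * y * g⁻¹ = r * c := by rw [hcdef]; group
    rw [e1, ← mul_assoc, h1, mul_assoc, hc, mul_assoc]
  rw [commutator_zpowers_eq_bot_iff]
  -- V ≤ centralizer of y
  have hle : V ≤ Subgroup.centralizer ({y} : Set H) := by
    rw [hUV, Subgroup.normalClosure, Subgroup.closure_le]
    intro x hx
    rw [Group.mem_conjugatesOfSet_iff] at hx
    obtain ⟨u, hu, hconj⟩ := hx
    rw [isConj_iff] at hconj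
    obtain ⟨c, rfl⟩ := hconj
    rw [SetLike.mem_coe, Subgroup.mem_centralizer_iff]
    intro w hw
    rw [Set.mem_singleton_iff] at hw
    subst hw
    have := key c⁻¹ u hu
    rw [inv_inv] at this
    have e2 : w * (c * u * c⁻¹) = c * ((c⁻¹ * w * c) * u) * c⁻¹ := by group
    have e3 : c * u * c⁻¹ * w = c * (u * (c⁻¹ * w * c)) * c⁻¹ := by group
    rw [e2, e3, this]
  intro v hv
  have := Subgroup.mem_centralizer_iff.mp (hle hv) y (Set.mem_singleton y)
  exact this.symm

end quadratic2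

end Cfsg.Agent.Helper11
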