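import Mathlib

/-!
# Piece (INV) for S2359 (helper6): in a group with `|S| = 8`, `C(S) ≤ S`, `|N(S)| = 168`,
all non-identity elements of `S` are conjugate.
-/

set_option autoImplicit false

namespace Cfsg.Agent.Helper11.ReeINV

theorem conj_of_mem_sylow_eight {G : Type*} [Group G] [Finite G] (S : Subgroup G)
    (hS8 : Nat.card S = 8) (hC : Subgroup.centralizer (S : Set G) ≤ S)
    (hN : Nat.card (Subgroup.normalizer (S : Set G)) = 168) (x y : G) (hx : x ∈ S) (hy : y ∈ S)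
    (hx1 : x ≠ 1) (hy1 : y ≠ 1) : ∃ g : G, g * x * g⁻¹ = y := by
  classical
  have : Fact (Nat.Prime 7) := ⟨by norm_num⟩
  obtain ⟨c0, hc0⟩ := exists_prime_orderOf_dvd_card'
    (G := Subgroup.normalizer (S : Set G)) 7 (by rw [hN]; norm_num)
  set c : G := (c0 : G) with hc
  have hco : orderOf c = 7 := by rw [hc, Subgroup.orderOf_coe]; exact hc0
  have hcN : c ∈ Subgroup.normalizer (S : Set G) := c0.2
  have hcS : ∀ n : ℕ, ∀ s ∈ S, c ^ n * s * (c ^ n)⁻¹ ∈ S := by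
    intro n s hs
    have : c ^ n ∈ Subgroup.normalizer (S : Set G) := Subgroup.pow_mem _ hcN n
    exact (Subgroup.mem_normalizer_iff.1 this s).1 hs
  -- some s0 not commuting with c
  have hex : ∃ s0 ∈ S, c * s0 ≠ s0 * c := by
    by_contra hcon
    have hcon' : ∀ s ∈ S, c * s = s * c := by
      intro s hs
      by_contra h
      exact hcon ⟨s, hs, h⟩
    have hcc : c ∈ Subgroup.centralizer (S : Set G) := by
      rw [Subgroup.mem_centralizer_iff]
      intro s hs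
      exact (hcon' s hs).symm
    have hcS' : c ∈ S := hC hcc
    have hdvd : orderOf (⟨c, hcS'⟩ : S) ∣ Nat.card S := orderOf_dvd_natCard _
    rw [Subgroup.orderOf_mk, hco, hS8] at hdvd
    omega
  obtain ⟨s0, hs0, hns⟩ := hex
  have hs01 : s0 ≠ 1 := by
    rintro rfl
    exact hns (by rw [mul_one, one_mul])
  let φ : Fin 7 → G := fun i => c ^ (i : ℕ) * s0 * (c ^ (i : ℕ))⁻¹
  have hφinj : Function.Injective φ := by
    intro i k hik
    have hik' : c ^ (i : ℕ) * s0 * (c ^ (i : ℕ))⁻¹ = c ^ (k : ℕ) * s0 * (c ^ (k : ℕ))⁻¹ := hik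
    have hw : (c ^ (k : ℕ))⁻¹ * c ^ (i : ℕ) * s0 = s0 * ((c ^ (k : ℕ))⁻¹ * c ^ (i : ℕ)) := by
      calc (c ^ (k : ℕ))⁻¹ * c ^ (i : ℕ) * s0
          = (c ^ (k : ℕ))⁻¹ * (c ^ (i : ℕ) * s0 * (c ^ (i : ℕ))⁻¹) * c ^ (i : ℕ) := by group
        _ = (c ^ (k : ℕ))⁻¹ * (c ^ (k : ℕ) * s0 * (c ^ (k : ℕ))⁻¹) * c ^ (i : ℕ) := by rw [hik']
        _ = s0 * ((c ^ (k : ℕ))⁻¹ * c ^ (i : ℕ)) := by group
    have hwz : (c ^ (k : ℕ))⁻¹ * c ^ (i : ℕ) = c ^ (-(k : ℤ) + (i : ℤ)) := by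
      rw [zpow_add, zpow_neg, zpow_natCast, zpow_natCast]
    rw [hwz] at hw
    have : Fact (Nat.card (Subgroup.zpowers c)).Prime := ⟨by
      rw [Nat.card_zpowers, hco]; norm_num⟩
    rcases Subgroup.eq_bot_or_eq_top_of_prime_card
      ((Subgroup.centralizer {s0}).subgroupOf (Subgroup.zpowers c)) with hK | hK
    · have hmem : (⟨c ^ (-(k : ℤ) + (i : ℤ)), Subgroup.zpow_mem _ (Subgroup.mem_zpowers c) _⟩ :
          Subgroup.zpowers c) ∈ (Subgroup.centralizer {s0}).subgroupOf (Subgroup.zpowers c) := by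
        rw [Subgroup.mem_subgroupOf, Subgroup.mem_centralizer_singleton_iff]
        exact hw
      rw [hK, Subgroup.mem_bot] at hmem
      have h1 : c ^ (-(k : ℤ) + (i : ℤ)) = 1 := by
        simpa using congrArg Subtype.val hmem
      have hd := (orderOf_dvd_iff_zpow_eq_one).2 h1
      rw [hco] at hd
      have hi := i.2
      have hk := k.2
      apply Fin.ext
      push_cast at hd
      omega
    · exfalso
      have hmem : (⟨c, Subgroup.mem_zpowers c⟩ : Subgroup.zpowers c) ∈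
          (Subgroup.centralizer {s0}).subgroupOf (Subgroup.zpowers c) := by
        rw [hK]; exact Subgroup.mem_top _
      rw [Subgroup.mem_subgroupOf, Subgroup.mem_centralizer_singleton_iff] at hmem
      exact hns hmem
  have hT : ((S : Set G) \ {1}).ncard = 7 := by
    rw [Set.ncard_sdiff_singleton_of_mem (Subgroup.one_mem S)]
    have : (S : Set G).ncard = 8 := hS8
    rw [this]
  have hsub : Set.range φ ⊆ (S : Set G) \ {1} := by
    rintro z ⟨i, rfl⟩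
    refine ⟨hcS _ s0 hs0, ?_⟩
    intro h
    have h' : c ^ (i : ℕ) * s0 * (c ^ (i : ℕ))⁻¹ = 1 := h
    apply hs01
    calc s0 = (c ^ (i : ℕ))⁻¹ * (c ^ (i : ℕ) * s0 * (c ^ (i : ℕ))⁻¹) * c ^ (i : ℕ) := by group
      _ = 1 := by rw [h']; group
  have hrange : (Set.range φ).ncard = 7 := by
    rw [← Set.image_univ, Set.ncard_image_of_injective _ hφinj, Set.ncard_univ, Nat.card_fin]
  have heq : Set.range φ = (S : Set G) \ {1} :=
    Set.eq_of_subset_of_ncard_le hsub (by rw [hT, hrange])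
  have hxT : x ∈ Set.range φ := by rw [heq]; exact ⟨hx, hx1⟩
  have hyT : y ∈ Set.range φ := by rw [heq]; exact ⟨hy, hy1⟩
  obtain ⟨i, hi⟩ := hxT
  obtain ⟨j, hj⟩ := hyT
  refine ⟨c ^ (j : ℕ) * (c ^ (i : ℕ))⁻¹, ?_⟩
  rw [← hi, ← hj]
  show c ^ (j : ℕ) * (c ^ (i : ℕ))⁻¹ * (c ^ (i : ℕ) * s0 * (c ^ (i : ℕ))⁻¹) *
    (c ^ (j : ℕ) * (c ^ (i : ℕ))⁻¹)⁻¹ = c ^ (j : ℕ) * s0 * (c ^ (j : ℕ))⁻¹
  group

end Cfsg.Agent.Helper11.ReeINV
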