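import Mathlib
import Cfsg.Agent.Helper53.OddDihedral

/-!
# Piece (V4) for S2359 (helper6): a Klein four Sylow 2-subgroup with abelian involution
centralizers `T`, no elements of order 3: `T` is the whole group.
-/

set_option autoImplicit false

namespace Cfsg.Agent.Helper11.ReeV4

theorem eq_top_of_klein_sylow {D : Type*} [Group D] [Finite D] (V T : Subgroup D)
    (hV4 : Nat.card V = 4) (hV2 : ∀ x ∈ V, x * x = 1) (h8 : ¬ 8 ∣ Nat.card D)
    (hTc : ∀ x ∈ T, ∀ y ∈ T, x * y = y * x)
    (hC : ∀ t ∈ V, t ≠ 1 → ∀ d : D, d * t = t * d → d ∈ T) (h3 : ∀ x : D, x ^ 3 = 1 → x = 1) :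
    T = ⊤ := by
  classical
  have : Fact (Nat.Prime 2) := ⟨Nat.prime_two⟩
  have : Fact (Nat.Prime 3) := ⟨Nat.prime_three⟩
  -- inverses of involutions
  have hinv : ∀ x : D, x * x = 1 → x⁻¹ = x := fun x hx => inv_eq_of_mul_eq_one_left hx
  have hVinv : ∀ x ∈ V, x⁻¹ = x := fun x hx => hinv x (hV2 x hx)
  -- (a) V abelian
  have hVc : ∀ x ∈ V, ∀ y ∈ V, x * y = y * x := by
    intro x hx y hy
    have h := hVinv (x * y) (V.mul_mem hx hy)
    rw [mul_inv_rev, hVinv x hx, hVinv y hy] at h
    exact h.symm
  -- two distinct nonidentity elements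
  have hVn : ((V : Set D) \ {1}).ncard = 3 := by
    rw [Set.ncard_sdiff_singleton_of_mem (Subgroup.one_mem V)]
    have : (V : Set D).ncard = 4 := hV4
    rw [this]
  obtain ⟨t1, t2, ht1, ht2, ht12⟩ :
      ∃ a b, a ∈ (V : Set D) \ {1} ∧ b ∈ (V : Set D) \ {1} ∧ a ≠ b := by
    apply (Set.one_lt_ncard_iff).1
    rw [hVn]; norm_num
  obtain ⟨ht1V, ht1ne⟩ := ht1
  obtain ⟨ht2V, ht2ne⟩ := ht2
  have ht1ne' : t1 ≠ 1 := ht1ne
  have ht2ne' : t2 ≠ 1 := ht2ne
  have ht1V' : t1 ∈ V := ht1V
  have ht2V' : t2 ∈ V := ht2V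
  -- (b) V ≤ T
  have hVT : V ≤ T := fun v hv => hC t1 ht1V' ht1ne' v (hVc v hv t1 ht1V')
  -- 2-subgroups have order ≤ 4
  have hle4 : ∀ Q : Subgroup D, IsPGroup 2 Q → Nat.card Q ≤ 4 := by
    intro Q hQ
    obtain ⟨n, hn⟩ := hQ.exists_card_eq
    have hdvd : Nat.card Q ∣ Nat.card D := Subgroup.card_subgroup_dvd_card Q
    rw [hn] at hdvd ⊢
    by_contra hlt
    have h3n : 3 ≤ n := by
      by_contra h
      have : n ≤ 2 := by omega
      have := Nat.pow_le_pow_right (show 0 < 2 by norm_num) this
      omega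
    exact h8 (dvd_trans (pow_dvd_pow 2 h3n) hdvd)
  -- (*) involutions of T lie in V
  have hstar : ∀ x ∈ T, x * x = 1 → x ∈ V := by
    let W : Subgroup D :=
      { carrier := {x | x ∈ T ∧ x * x = 1}
        mul_mem' := by
          rintro a b ⟨haT, ha⟩ ⟨hbT, hb⟩
          refine ⟨T.mul_mem haT hbT, ?_⟩
          calc a * b * (a * b) = a * (b * a) * b := by group
            _ = a * (a * b) * b := by rw [hTc b hbT a haT]
            _ = (a * a) * (b * b) := by group
            _ = 1 := by rw [ha, hb, one_mul]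
        one_mem' := ⟨T.one_mem, by rw [one_mul]⟩
        inv_mem' := by
          rintro a ⟨haT, ha⟩
          rw [Set.mem_ofPred_eq, hinv a ha]
          exact ⟨haT, ha⟩ }
    have hW2 : IsPGroup 2 W := by
      intro g
      refine ⟨1, ?_⟩
      apply Subtype.ext
      have := g.2.2
      rw [pow_one, Subgroup.coe_pow, pow_two]
      exact this
    have hVW : V ≤ W := fun v hv => ⟨hVT hv, hV2 v hv⟩
    have hcard : Nat.card W ≤ Nat.card V := by rw [hV4]; exact hle4 W hW2
    have hEq : V = W := Subgroup.eq_of_le_of_card_ge hVW hcard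
    intro x hxT hx
    rw [hEq]
    exact ⟨hxT, hx⟩
  -- 3 is coprime to |D|
  have hcop : (Nat.card D).Coprime 3 := by
    apply Nat.Coprime.symm
    rw [Nat.Prime.coprime_iff_not_dvd Nat.prime_three]
    intro hdvd
    obtain ⟨x, hx⟩ := exists_prime_orderOf_dvd_card' (G := D) 3 hdvd
    have hx3 : x ^ 3 = 1 := by rw [← hx]; exact pow_orderOf_eq_one x
    have := h3 x hx3
    rw [this, orderOf_one] at hx
    omega
  -- g ^ 3 ∈ T → g ∈ T
  have hcube : ∀ g : D, g ^ 3 ∈ T → g ∈ T := by
    intro g hg
    have h := (powCoprime hcop).symm_apply_apply g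
    rw [← h]
    show (g ^ 3) ^ ((Nat.card D).gcdB 3) ∈ T
    exact T.zpow_mem hg _
  -- (c) no fusion in V
  have hfus : ∀ t ∈ V, t ≠ 1 → ∀ g : D, g * t * g⁻¹ ∈ V → g * t * g⁻¹ = t := by
    intro t htV htne g hgt
    set t' := g * t * g⁻¹ with ht'
    have ht'ne : t' ≠ 1 := by
      intro h
      apply htne
      calc t = g⁻¹ * (g * t * g⁻¹) * g := by group
        _ = 1 := by rw [← ht', h]; group
    -- conjugation by g maps V into V
    have hgV : ∀ v ∈ V, g * v * g⁻¹ ∈ V := by
      intro v hv
      have hcomm : g * v * g⁻¹ * t' = t' * (g * v * g⁻¹) := by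
        rw [ht']
        calc g * v * g⁻¹ * (g * t * g⁻¹) = g * (v * t) * g⁻¹ := by group
          _ = g * (t * v) * g⁻¹ := by rw [hVc v hv t htV]
          _ = g * t * g⁻¹ * (g * v * g⁻¹) := by group
      have hT' : g * v * g⁻¹ ∈ T := hC t' hgt ht'ne _ hcomm
      apply hstar _ hT'
      calc g * v * g⁻¹ * (g * v * g⁻¹) = g * (v * v) * g⁻¹ := by group
        _ = 1 := by rw [hV2 v hv]; group
    by_contra hne
    have hne' : t' ≠ t := hne
    set t'' := t * t' with ht''
    have ht''V : t'' ∈ V := V.mul_mem htV hgt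
    have ht''ne : t'' ≠ 1 := by
      intro h
      apply hne'
      have : t' = t⁻¹ := eq_inv_of_mul_eq_one_right h
      rw [this, hVinv t htV]
    have ht''t : t'' ≠ t := by
      intro h
      apply ht'ne
      have : t * t' = t * 1 := by rw [mul_one]; exact h
      exact mul_left_cancel this
    have ht''t' : t'' ≠ t' := by
      intro h
      apply htne
      have : t * t' = 1 * t' := by rw [one_mul]; exact h
      exact mul_right_cancel this
    -- V = {1, t, t', t''}
    have hVall : ∀ v ∈ V, v = 1 ∨ v = t ∨ v = t' ∨ v = t'' := by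
      have hF : (({1, t, t', t''} : Finset D) : Set D) = (V : Set D) := by
        refine Set.eq_of_subset_of_ncard_le ?_ ?_ (Set.toFinite _)
        · intro v hv
          simp only [Finset.coe_insert, Finset.coe_singleton, Set.mem_insert_iff,
            Set.mem_singleton_iff] at hv
          rcases hv with rfl | rfl | rfl | rfl
          exacts [V.one_mem, htV, hgt, ht''V]
        · rw [Set.ncard_coe_finset]
          have h4 : ({1, t, t', t''} : Finset D).card = 4 := by
            rw [Finset.card_insert_of_notMem, Finset.card_insert_of_notMem,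
              Finset.card_insert_of_notMem, Finset.card_singleton]
            · simpa using Ne.symm ht''t'
            · simp [Ne.symm hne', Ne.symm ht''t]
            · simp [Ne.symm htne, Ne.symm ht'ne, Ne.symm ht''ne]
          rw [h4]
          exact le_of_eq hV4
      intro v hv
      have : v ∈ (({1, t, t', t''} : Finset D) : Set D) := by rw [hF]; exact hv
      simpa using this
    set w := g * t' * g⁻¹ with hw
    have hwV : w ∈ V := hgV t' hgt
    have hwne : w ≠ 1 := by
      intro h
      apply ht'ne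
      calc t' = g⁻¹ * (g * t' * g⁻¹) * g := by group
        _ = 1 := by rw [← hw, h]; group
    have hwt' : w ≠ t' := by
      intro h
      apply hne'
      have h2 : g * t' * g⁻¹ = g * t * g⁻¹ := h
      have h3' : g * t' = g * t := by
        have := congrArg (fun z => z * g) h2
        simpa using this
      exact mul_left_cancel h3'
    have hconj'' : g * t'' * g⁻¹ = t' * w := by
      rw [ht'', hw]
      calc g * (t * t') * g⁻¹ = g * t * g⁻¹ * (g * t' * g⁻¹) := by group
        _ = t' * (g * t' * g⁻¹) := by rw [← ht']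
    rcases hVall w hwV with h | h | h | h
    · exact hwne h
    · -- w = t : g centralizes t''
      have h1 : g * t'' * g⁻¹ = t'' := by
        rw [hconj'', h, ht'']
        exact hVc t' hgt t htV
      have h2 : g * t'' = t'' * g := by
        have := congrArg (fun z => z * g) h1
        simpa using this
      have hgT : g ∈ T := hC t'' ht''V ht''ne g h2
      have h4 : g * t = t * g := hTc g hgT t (hVT htV)
      apply hne
      rw [ht', h4]
      group
    · exact hwt' h
    · -- w = t'' : g ^ 3 centralizes t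
      have h1 : g * t'' * g⁻¹ = t := by
        rw [hconj'', h, ht'']
        calc t' * (t * t') = t' * (t' * t) := by rw [hVc t htV t' hgt]
          _ = (t' * t') * t := by group
          _ = t := by rw [hV2 t' hgt, one_mul]
      have h5 : g ^ 3 * t = t * g ^ 3 := by
        have e1 : g * t = t' * g := by rw [ht']; group
        have e2 : g * t' = t'' * g := by rw [← h, hw]; group
        have e3 : g * t'' = t * g := by rw [← h1]; group
        calc g ^ 3 * t = g * (g * (g * t)) := by
              rw [pow_succ, pow_succ, pow_one]; group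
          _ = g * (g * (t' * g)) := by rw [e1]
          _ = g * ((g * t') * g) := by group
          _ = g * ((t'' * g) * g) := by rw [e2]
          _ = (g * t'') * g * g := by group
          _ = (t * g) * g * g := by rw [e3]
          _ = t * g ^ 3 := by
              rw [pow_succ, pow_succ, pow_one]; group
      have hg3 : g ^ 3 ∈ T := hC t htV htne _ h5
      have hgT : g ∈ T := hcube g hg3
      have h4 : g * t = t * g := hTc g hgT t (hVT htV)
      apply hne
      rw [ht', h4]
      group
  -- V is a Sylow 2-subgroup: every involution is conjugate into V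
  have hV2grp : IsPGroup 2 V := IsPGroup.of_card (n := 2) (by rw [hV4]; norm_num)
  have hd : ∀ u : D, u * u = 1 → ∃ g : D, g * u * g⁻¹ ∈ V := by
    intro u hu
    obtain ⟨Q, hQ⟩ := hV2grp.exists_le_sylow
    have hQV : V = (Q : Subgroup D) := by
      apply Subgroup.eq_of_le_of_card_ge hQ
      rw [hV4]
      exact hle4 _ Q.isPGroup'
    have hZ : IsPGroup 2 (Subgroup.zpowers u) := by
      intro x
      refine ⟨1, ?_⟩
      obtain ⟨i, hi⟩ := Subgroup.mem_zpowers_iff.mp x.2
      apply Subtype.ext
      show (x : D) ^ 2 ^ 1 = 1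
      rw [← hi, pow_one, ← zpow_natCast, ← zpow_mul, mul_comm, zpow_mul, zpow_natCast, pow_two, hu,
        one_zpow]
    obtain ⟨P, hP⟩ := hZ.exists_le_sylow
    obtain ⟨g, hg⟩ := MulAction.exists_smul_eq D P Q
    refine ⟨g, ?_⟩
    rw [hQV, ← hg]
    rw [Sylow.coe_subgroup_smul]  -- ↑(g • P) = MulAut.conj g • ↑P
    rw [Subgroup.mem_pointwise_smul_iff_inv_smul_mem]
    simp only [MulAut.smul_def, MulAut.conj_inv_apply]
    have : g⁻¹ * (g * u * g⁻¹) * g = u := by group
    rw [this]
    exact hP (Subgroup.mem_zpowers u)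
  -- (e) non-conjugate involutions commute
  have he : ∀ u v : D, u * u = 1 → v * v = 1 → u ≠ 1 → v ≠ 1 →
      (¬ ∃ g : D, g * u * g⁻¹ = v) → u * v = v * u := by
    intro u v hu hv hu1 hv1 hnc
    have hu2 : u ^ 2 = 1 := by rw [pow_two]; exact hu
    have hv2 : v ^ 2 = 1 := by rw [pow_two]; exact hv
    rcases Nat.even_or_odd (orderOf (u * v)) with ⟨r, hr⟩ | hodd
    · -- even order 2r
      have hpos : 0 < orderOf (u * v) := orderOf_pos _
      have hr0 : 0 < r := by omega
      set z := (u * v) ^ r with hz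
      have hz1 : z ≠ 1 := by
        apply pow_ne_one_of_lt_orderOf (by omega)
        omega
      have hzz : z * z = 1 := by
        rw [hz, ← pow_add, ← hr]
        exact pow_orderOf_eq_one _
      have hzinv : z⁻¹ = z := hinv z hzz
      have huz : u * z * u⁻¹ = z := by
        rw [hz, ← conj_pow, Cfsg.Agent.Helper53.conj_mul_of_sq_eq_one hu2 hv2, inv_pow, ← hz, hzinv]
      have hvz : v * z * v⁻¹ = z := by
        have hvuv : v * (u * v) * v⁻¹ = (u * v)⁻¹ := by
          calc v * (u * v) * v⁻¹ = v * u := by group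
            _ = (u * v)⁻¹ := by rw [mul_inv_rev, hinv u hu, hinv v hv]
        rw [hz, ← conj_pow, hvuv, inv_pow, ← hz, hzinv]
      obtain ⟨g, hg⟩ := hd z hzz
      set t := g * z * g⁻¹ with ht
      have htne : t ≠ 1 := by
        intro h
        apply hz1
        calc z = g⁻¹ * (g * z * g⁻¹) * g := by group
          _ = 1 := by rw [← ht, h]; group
      have hcu : g * u * g⁻¹ * t = t * (g * u * g⁻¹) := by
        rw [ht]
        calc g * u * g⁻¹ * (g * z * g⁻¹) = g * (u * z * u⁻¹) * u * g⁻¹ := by group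
          _ = g * z * g⁻¹ * (g * u * g⁻¹) := by rw [huz]; group
      have hcv : g * v * g⁻¹ * t = t * (g * v * g⁻¹) := by
        rw [ht]
        calc g * v * g⁻¹ * (g * z * g⁻¹) = g * (v * z * v⁻¹) * v * g⁻¹ := by group
          _ = g * z * g⁻¹ * (g * v * g⁻¹) := by rw [hvz]; group
      have huT : g * u * g⁻¹ ∈ T := hC t hg htne _ hcu
      have hvT : g * v * g⁻¹ ∈ T := hC t hg htne _ hcv
      have hc := hTc _ huT _ hvT
      calc u * v = g⁻¹ * ((g * u * g⁻¹) * (g * v * g⁻¹)) * g := by group
        _ = g⁻¹ * ((g * v * g⁻¹) * (g * u * g⁻¹)) * g := by rw [hc]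
        _ = v * u := by group
    · exfalso
      exact hnc ⟨_, Cfsg.Agent.Helper53.conj_pow_mul_eq_of_odd hu2 hv2 hodd⟩
  -- (f)
  rw [eq_top_iff]
  intro g _
  set u := g * t2 * g⁻¹ with hu
  have huu : u * u = 1 := by
    rw [hu]
    calc g * t2 * g⁻¹ * (g * t2 * g⁻¹) = g * (t2 * t2) * g⁻¹ := by group
      _ = 1 := by rw [hV2 t2 ht2V']; group
  have hu1 : u ≠ 1 := by
    intro h
    apply ht2ne'
    calc t2 = g⁻¹ * (g * t2 * g⁻¹) * g := by group
      _ = 1 := by rw [← hu, h]; group
  have hnc : ¬ ∃ k : D, k * u * k⁻¹ = t1 := by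
    rintro ⟨k, hk⟩
    have hk' : (k * g) * t2 * (k * g)⁻¹ = t1 := by
      rw [← hk, hu]; group
    have := hfus t2 ht2V' ht2ne' (k * g) (by rw [hk']; exact ht1V')
    rw [hk'] at this
    exact ht12 this
  have hcomm := he u t1 huu (hV2 t1 ht1V') hu1 ht1ne' hnc
  have huT : u ∈ T := hC t1 ht1V' ht1ne' u hcomm
  have huV : u ∈ V := hstar u huT huu
  have hut2 : g * t2 * g⁻¹ = t2 := hfus t2 ht2V' ht2ne' g huV
  have hgc : g * t2 = t2 * g := by
    have := congrArg (fun z => z * g) hut2
    simpa using this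
  exact hC t2 ht2V' ht2ne' g hgc

end Cfsg.Agent.Helper11.ReeV4
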