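import Mathlib
import Cfsg.Prelude.Def_PLocal
import Cfsg.Agent.Helper70.Regular

set_option autoImplicit false

namespace Cfsg.Agent.Helper11

open scoped commutatorElement

section regular
variable {G : Type*} [Group G]

theorem powerClosure_mono (p n : ℕ) {H K : Subgroup G} (h : H ≤ K) :
    Cfsg.powerClosure p n H ≤ Cfsg.powerClosure p n K := by
  unfold Cfsg.powerClosure
  apply Subgroup.closure_mono
  rintro y ⟨x, hx, rfl⟩
  exact ⟨x, h hx, rfl⟩

theorem powerClosure_le (p n : ℕ) (H : Subgroup G) : Cfsg.powerClosure p n H ≤ H := by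
  unfold Cfsg.powerClosure
  rw [Subgroup.closure_le]
  rintro y ⟨x, hx, rfl⟩
  exact H.pow_mem hx _

theorem pow_mem_powerClosure (p n : ℕ) {H : Subgroup G} {x : G} (hx : x ∈ H) :
    x ^ (p ^ n) ∈ Cfsg.powerClosure p n H :=
  Subgroup.subset_closure ⟨x, hx, rfl⟩

/-- The property "products of `p^n`-th powers of elements of `H` are `p^n`-th powers of elements of `H`". -/
def PowProd (p n : ℕ) (H : Subgroup G) : Prop :=
  ∀ a ∈ H, ∀ b ∈ H, ∃ k ∈ H, a ^ (p ^ n) * b ^ (p ^ n) = k ^ (p ^ n)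

/-- Under `PowProd`, the power closure is the set of powers. -/
theorem powerClosure_eq_of_powProd (p n : ℕ) {H : Subgroup G} (h : PowProd p n H) :
    ∀ y ∈ Cfsg.powerClosure p n H, ∃ x ∈ H, y = x ^ (p ^ n) := by
  let T : Subgroup G :=
    { carrier := {y | ∃ x ∈ H, y = x ^ (p ^ n)}
      mul_mem' := by
        rintro _ _ ⟨a, ha, rfl⟩ ⟨b, hb, rfl⟩
        obtain ⟨k, hk, hkk⟩ := h a ha b hb
        exact ⟨k, hk, hkk⟩
      one_mem' := ⟨1, H.one_mem, by simp⟩
      inv_mem' := by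
        rintro _ ⟨a, ha, rfl⟩
        exact ⟨a⁻¹, H.inv_mem ha, by rw [inv_pow]⟩ }
  have hle : Cfsg.powerClosure p n H ≤ T := by
    unfold Cfsg.powerClosure
    rw [Subgroup.closure_le]
    rintro y ⟨x, hx, rfl⟩
    exact ⟨x, hx, rfl⟩
  intro y hy
  exact hle hy

/-- A noncommuting pair: `⟨ab⟩ ⟨a,b⟩'` is a proper subgroup of `⟨a, b⟩` in a finite `p`-group. -/
theorem zpowers_sup_commutator_ne [Finite G] {p : ℕ} [Fact p.Prime] (hG : IsPGroup p G) (a b : G)
    (hnc : ¬ Commute a b) :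
    Subgroup.zpowers (a * b) ⊔ ⁅Subgroup.closure ({a, b} : Set G), Subgroup.closure ({a, b} : Set G)⁆ ≠
      Subgroup.closure ({a, b} : Set G) := by
  intro heq
  obtain ⟨H₀, hH₀⟩ : ∃ H₀ : Subgroup G, H₀ = Subgroup.closure ({a, b} : Set G) := ⟨_, rfl⟩
  rw [← hH₀] at heq
  have haH : a ∈ H₀ := by rw [hH₀]; exact Subgroup.subset_closure (by simp)
  have hbH : b ∈ H₀ := by rw [hH₀]; exact Subgroup.subset_closure (by simp)
  have hmap : (Subgroup.zpowers (⟨a * b, H₀.mul_mem haH hbH⟩ : H₀) ⊔ commutator H₀).map H₀.subtype =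
      (⊤ : Subgroup H₀).map H₀.subtype := by
    rw [Subgroup.map_sup, commutator_def, Subgroup.map_commutator, ← MonoidHom.range_eq_map,
      Subgroup.range_subtype, MonoidHom.map_zpowers]
    exact heq
  have htop := Subgroup.map_injective H₀.subtype_injective hmap
  have hz := Cfsg.Agent.Helper70.zpowers_eq_top_of_sup_commutator (hG.to_subgroup H₀) _ htop
  -- so H₀ is commutative
  apply hnc
  have hmem : ∀ x : H₀, x ∈ Subgroup.zpowers (⟨a * b, H₀.mul_mem haH hbH⟩ : H₀) := by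
    intro x; rw [hz]; exact Subgroup.mem_top x
  obtain ⟨i, hi⟩ := hmem ⟨a, haH⟩
  obtain ⟨j, hj⟩ := hmem ⟨b, hbH⟩
  have hi' : (a * b) ^ i = a := by
    have := congrArg Subtype.val hi
    simpa using this
  have hj' : (a * b) ^ j = b := by
    have := congrArg Subtype.val hj
    simpa using this
  obtain ⟨g, hg⟩ : ∃ g : G, g = a * b := ⟨_, rfl⟩
  rw [← hg] at hi' hj'
  show a * b = b * a
  rw [← hi', ← hj', ← zpow_add, ← zpow_add, add_comm]

end regular

section regular2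
variable {G : Type*} [Group G]

/-- Regularity at level `n`. -/
def RegAt (p n : ℕ) (G : Type*) [Group G] : Prop :=
  ∀ a b : G, ∃ c ∈ Cfsg.powerClosure p n
      ⁅Subgroup.closure ({a, b} : Set G), Subgroup.closure ({a, b} : Set G)⁆,
    (a * b) ^ (p ^ n) = a ^ (p ^ n) * b ^ (p ^ n) * c

theorem closure_pair_le {H : Subgroup G} {a b : G} (ha : a ∈ H) (hb : b ∈ H) :
    Subgroup.closure ({a, b} : Set G) ≤ H := by
  rw [Subgroup.closure_le]
  intro x hx
  simp only [Set.mem_insert_iff, Set.mem_singleton_iff] at hx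
  rcases hx with rfl | rfl
  · exact ha
  · exact hb

/-- Hall: in a group regular at level `n`, products of `p^n`-th powers are `p^n`-th powers. -/
theorem powProd_of_regAt [Finite G] {p : ℕ} [Fact p.Prime] (hG : IsPGroup p G) (n : ℕ)
    (hreg : RegAt p n G) : ∀ H : Subgroup G, PowProd p n H := by
  have key : ∀ m : ℕ, ∀ H : Subgroup G, Nat.card H = m → PowProd p n H := by
    intro m
    induction m using Nat.strong_induction_on with
    | _ m ih =>
    intro H hm a ha b hb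
    obtain ⟨H₀, hH₀⟩ : ∃ H₀ : Subgroup G, H₀ = Subgroup.closure ({a, b} : Set G) := ⟨_, rfl⟩
    have hH₀H : H₀ ≤ H := by rw [hH₀]; exact closure_pair_le ha hb
    have haH₀ : a ∈ H₀ := by rw [hH₀]; exact Subgroup.subset_closure (by simp)
    have hbH₀ : b ∈ H₀ := by rw [hH₀]; exact Subgroup.subset_closure (by simp)
    by_cases hcard : Nat.card H₀ < m
    · obtain ⟨k, hk, hkk⟩ := ih _ hcard H₀ rfl a haH₀ b hbH₀
      exact ⟨k, hH₀H hk, hkk⟩
    · by_cases hcomm : Commute a b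
      · exact ⟨a * b, H.mul_mem ha hb, (hcomm.mul_pow _).symm⟩
      · -- K = ⟨ab⟩ H₀' is proper in H₀
        have hKne := zpowers_sup_commutator_ne hG a b hcomm
        rw [← hH₀] at hKne
        have hKle : Subgroup.zpowers (a * b) ⊔ ⁅H₀, H₀⁆ ≤ H₀ := by
          apply sup_le
          · rw [Subgroup.zpowers_le]; exact H₀.mul_mem haH₀ hbH₀
          · exact Subgroup.commutator_le_self H₀
        have hKcard : Nat.card (Subgroup.zpowers (a * b) ⊔ ⁅H₀, H₀⁆ : Subgroup G) < m := by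
          have h1 : Nat.card (Subgroup.zpowers (a * b) ⊔ ⁅H₀, H₀⁆ : Subgroup G) < Nat.card H₀ := by
            by_contra hge
            push Not at hge
            exact hKne (Subgroup.eq_of_le_of_card_ge hKle hge)
          have h2 : Nat.card H₀ ≤ m := by rw [← hm]; exact Subgroup.card_le_of_le hH₀H
          omega
        have hPK := ih _ hKcard _ rfl
        obtain ⟨c, hc, hab⟩ := hreg a b
        rw [← hH₀] at hc
        have h1 : a ^ (p ^ n) * b ^ (p ^ n) = (a * b) ^ (p ^ n) * c⁻¹ := by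
          rw [hab]; group
        have h2 : (a * b) ^ (p ^ n) * c⁻¹ ∈
            Cfsg.powerClosure p n (Subgroup.zpowers (a * b) ⊔ ⁅H₀, H₀⁆) := by
          apply Subgroup.mul_mem
          · exact pow_mem_powerClosure p n (Subgroup.mem_sup_left (Subgroup.mem_zpowers _))
          · exact Subgroup.inv_mem _ (powerClosure_mono p n le_sup_right hc)
        obtain ⟨k, hk, hkk⟩ := powerClosure_eq_of_powProd p n hPK _ h2
        exact ⟨k, hH₀H (hKle hk), by rw [h1, hkk]⟩
  intro H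
  exact key _ H rfl

/-- In a group regular at level `n`: `a^{-q} b⁻¹ a^q b ∈ ℧_n(H')` for `a, b ∈ H`, `q = p^n`. -/
theorem comm_pow_mem_of_regAt {p : ℕ} (n : ℕ) (hreg : RegAt p n G) (H : Subgroup G) {a b : G}
    (ha : a ∈ H) (hb : b ∈ H) :
    (a ^ (p ^ n))⁻¹ * b⁻¹ * a ^ (p ^ n) * b ∈ Cfsg.powerClosure p n ⁅H, H⁆ := by
  obtain ⟨c, hc, hab⟩ := hreg a⁻¹ (b⁻¹ * a * b)
  have hle : Subgroup.closure ({a⁻¹, b⁻¹ * a * b} : Set G) ≤ H :=
    closure_pair_le (H.inv_mem ha) (H.mul_mem (H.mul_mem (H.inv_mem hb) ha) hb)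
  have hc' : c ∈ Cfsg.powerClosure p n ⁅H, H⁆ :=
    powerClosure_mono p n (Subgroup.commutator_mono hle hle) hc
  have h1 : (b⁻¹ * a * b) ^ (p ^ n) = b⁻¹ * a ^ (p ^ n) * b := by
    have := conj_pow (a := b⁻¹) (b := a) (i := p ^ n)
    rw [inv_inv] at this
    exact this
  have h2 : a⁻¹ * (b⁻¹ * a * b) = ⁅a⁻¹, b⁻¹⁆ := by
    rw [commutatorElement_def]; group
  have h3 : (a⁻¹ * (b⁻¹ * a * b)) ^ (p ^ n) ∈ Cfsg.powerClosure p n ⁅H, H⁆ := by
    apply pow_mem_powerClosure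
    rw [h2]
    exact Subgroup.commutator_mem_commutator (H.inv_mem ha) (H.inv_mem hb)
  have h4 : (a ^ (p ^ n))⁻¹ * b⁻¹ * a ^ (p ^ n) * b = (a⁻¹ * (b⁻¹ * a * b)) ^ (p ^ n) * c⁻¹ := by
    rw [hab, h1, inv_pow]; group
  rw [h4]
  exact Subgroup.mul_mem _ h3 (Subgroup.inv_mem _ hc')

/-- Hall: `[℧_n(H), H] ≤ ℧_n(H')` in a group regular at level `n`. -/
theorem commutator_powerClosure_le [Finite G] {p : ℕ} [Fact p.Prime] (hG : IsPGroup p G) (n : ℕ)
    (hreg : RegAt p n G) (H : Subgroup G) :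
    ⁅Cfsg.powerClosure p n H, H⁆ ≤ Cfsg.powerClosure p n ⁅H, H⁆ := by
  rw [Subgroup.commutator_le]
  intro x hx y hy
  obtain ⟨a, ha, rfl⟩ := powerClosure_eq_of_powProd p n (powProd_of_regAt hG n hreg H) x hx
  have := comm_pow_mem_of_regAt n hreg H (H.inv_mem ha) (H.inv_mem hy)
  have h1 : ((a⁻¹) ^ (p ^ n))⁻¹ * y⁻¹⁻¹ * (a⁻¹) ^ (p ^ n) * y⁻¹ = ⁅a ^ (p ^ n), y⁆ := by
    rw [commutatorElement_def, inv_pow]; group
  rw [h1] at this
  exact this

end regular2

end Cfsg.Agent.Helper11
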