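import Cfsg.Agent.Helper11.RegularP

set_option autoImplicit false

namespace Cfsg.Agent.Helper11

open scoped commutatorElement

section regular3
variable {G : Type*} [Group G]

/-- `℧_1(℧_n(X)) ≤ ℧_{n+1}(X)` when products of `p^n`-th powers in `X` are `p^n`-th powers. -/
theorem powerClosure_one_powerClosure_le (p n : ℕ) {X : Subgroup G} (h : PowProd p n X) :
    Cfsg.powerClosure p 1 (Cfsg.powerClosure p n X) ≤ Cfsg.powerClosure p (n + 1) X := by
  conv_lhs => unfold Cfsg.powerClosure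
  rw [Subgroup.closure_le]
  rintro y ⟨z, hz, rfl⟩
  obtain ⟨x, hx, rfl⟩ := powerClosure_eq_of_powProd p n h z hz
  rw [SetLike.mem_coe, ← pow_mul, pow_one, ← pow_succ]
  exact pow_mem_powerClosure p (n + 1) hx

/-- Regularity at level `1` and level `n` gives regularity at level `n + 1`. -/
theorem regAt_succ [Finite G] {p : ℕ} [Fact p.Prime] (hG : IsPGroup p G) (n : ℕ)
    (h1 : RegAt p 1 G) (hn : RegAt p n G) : RegAt p (n + 1) G := by
  intro a b
  obtain ⟨H, hH⟩ : ∃ H : Subgroup G, H = Subgroup.closure ({a, b} : Set G) := ⟨_, rfl⟩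
  rw [← hH]
  have haH : a ∈ H := by rw [hH]; exact Subgroup.subset_closure (by simp)
  have hbH : b ∈ H := by rw [hH]; exact Subgroup.subset_closure (by simp)
  obtain ⟨w, hw, hab⟩ := hn a b
  rw [← hH] at hw
  have hPP := powProd_of_regAt hG n hn
  -- notation
  obtain ⟨x, hx⟩ : ∃ x : G, x = a ^ (p ^ n) := ⟨_, rfl⟩
  obtain ⟨y, hy⟩ : ∃ y : G, y = b ^ (p ^ n) := ⟨_, rfl⟩
  rw [← hx, ← hy] at hab
  have hxU : x ∈ Cfsg.powerClosure p n H := by rw [hx]; exact pow_mem_powerClosure p n haH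
  have hyU : y ∈ Cfsg.powerClosure p n H := by rw [hy]; exact pow_mem_powerClosure p n hbH
  have hwU : w ∈ Cfsg.powerClosure p n H :=
    powerClosure_mono p n (Subgroup.commutator_le_self H) hw
  obtain ⟨d₁, hd₁, e1⟩ := h1 (x * y) w
  obtain ⟨d₂, hd₂, e2⟩ := h1 x y
  -- both derived subgroups lie in ℧_n(H')
  have hcomm : ⁅Cfsg.powerClosure p n H, Cfsg.powerClosure p n H⁆ ≤ Cfsg.powerClosure p n ⁅H, H⁆ :=
    (Subgroup.commutator_mono (le_refl _) (powerClosure_le p n H)).trans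
      (commutator_powerClosure_le hG n hn H)
  have hle1 : Subgroup.closure ({x * y, w} : Set G) ≤ Cfsg.powerClosure p n H :=
    closure_pair_le (Subgroup.mul_mem _ hxU hyU) hwU
  have hle2 : Subgroup.closure ({x, y} : Set G) ≤ Cfsg.powerClosure p n H :=
    closure_pair_le hxU hyU
  have hstep : Cfsg.powerClosure p 1 (Cfsg.powerClosure p n ⁅H, H⁆) ≤
      Cfsg.powerClosure p (n + 1) ⁅H, H⁆ :=
    powerClosure_one_powerClosure_le p n (hPP _)
  have hd₁' : d₁ ∈ Cfsg.powerClosure p (n + 1) ⁅H, H⁆ :=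
    hstep (powerClosure_mono p 1 ((Subgroup.commutator_mono hle1 hle1).trans hcomm) hd₁)
  have hd₂' : d₂ ∈ Cfsg.powerClosure p (n + 1) ⁅H, H⁆ :=
    hstep (powerClosure_mono p 1 ((Subgroup.commutator_mono hle2 hle2).trans hcomm) hd₂)
  have hw' : w ^ p ∈ Cfsg.powerClosure p (n + 1) ⁅H, H⁆ := by
    obtain ⟨h, hh, rfl⟩ := powerClosure_eq_of_powProd p n (hPP _) w hw
    rw [← pow_mul, ← pow_succ]
    exact pow_mem_powerClosure p (n + 1) hh
  refine ⟨d₂ * w ^ p * d₁, Subgroup.mul_mem _ (Subgroup.mul_mem _ hd₂' hw') hd₁', ?_⟩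
  rw [pow_one] at e1 e2
  have e3 : (a * b) ^ (p ^ (n + 1)) = (x * y * w) ^ p := by
    rw [pow_succ, pow_mul, hab]
  have e4 : a ^ (p ^ (n + 1)) = x ^ p := by rw [hx, ← pow_mul, ← pow_succ]
  have e5 : b ^ (p ^ (n + 1)) = y ^ p := by rw [hy, ← pow_mul, ← pow_succ]
  rw [e3, e4, e5, e1, e2]
  group

/-- Kemhadze's condition gives regularity at every level. -/
theorem regAt_of_kemhadze [Finite G] {p : ℕ} [Fact p.Prime] (hG : IsPGroup p G)
    (hK : ∀ a b : G, ∃ c ∈ ⁅Subgroup.closure ({a, b} : Set G), Subgroup.closure ({a, b} : Set G)⁆,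
      (a * b) ^ p = a ^ p * b ^ p * c ^ p) : ∀ n, RegAt p n G := by
  have h1 : RegAt p 1 G := by
    intro a b
    obtain ⟨c, hc, hab⟩ := hK a b
    refine ⟨c ^ (p ^ 1), pow_mem_powerClosure p 1 hc, ?_⟩
    rw [pow_one]
    exact hab
  intro n
  induction n with
  | zero =>
    intro a b
    refine ⟨1, Subgroup.one_mem _, ?_⟩
    simp
  | succ n ih => exact regAt_succ hG n h1 ih

end regular3

end Cfsg.Agent.Helper11
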