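import Mathlib
import Cfsg.Agent.Helper14.Spec4Grp

/-!
# S3439 piece (GC): the norms `a * φ²a` and `a * φa * φ²a * φ³a` have order dividing 3
-/

set_option autoImplicit false

namespace Cfsg.Agent.Helper11.Spec4

open SemidirectProduct Cfsg.Agent.Helper14.Spec4

theorem sg_norm_two (x : K) : sg (x + x ^ 9) = x + x ^ 9 := by
  rw [map_add, map_pow, sg_apply, ← pow_mul]
  have : x ^ (9 * 9) = x := pow_81 x
  rw [this, add_comm]

theorem sg_norm_four (x : K) : sg (x + x ^ 3 + x ^ 9 + x ^ 27) = x + x ^ 3 + x ^ 9 + x ^ 27 := by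
  rw [map_add, map_add, map_add, map_pow, map_pow, map_pow, sg_apply, ← pow_mul, ← pow_mul,
    ← pow_mul]
  have h1 : x ^ (9 * 9) = x := pow_81 x
  have h2 : x ^ (9 * 27) = x ^ 3 := by
    have e : (9 * 27 : ℕ) = 81 * 3 := by norm_num
    rw [e, pow_mul, pow_81]
  have h3 : x ^ (9 * 3) = x ^ 27 := by norm_num
  rw [h1, h2, h3]
  ring

/-- (GC) -/
theorem norm_two_pow_three (a : A) : (a * (phi ^ 2) a) ^ 3 = 1 := by
  apply A8.pow_three_eq_one three_eq_zero
  have hX : (a * (phi ^ 2) a).X = a.X + a.X ^ 9 := by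
    rw [phi_pow_two_apply, A8.mul_X]
  have hY : (a * (phi ^ 2) a).Y = a.Y + a.Y ^ 9 := by
    rw [phi_pow_two_apply, A8.mul_Y]
  rw [hX, hY, sg_norm_two, sg_norm_two, sub_self, zero_mul]

/-- (GC), second half -/
theorem norm_four_pow_three (a : A) : (a * phi a * (phi ^ 2) a * (phi ^ 3) a) ^ 3 = 1 := by
  apply A8.pow_three_eq_one three_eq_zero
  have hX : (a * phi a * (phi ^ 2) a * (phi ^ 3) a).X = a.X + a.X ^ 3 + a.X ^ 9 + a.X ^ 27 := by
    rw [phi_pow_two_apply, phi_pow_three_apply, phi_apply, A8.mul_X, A8.mul_X, A8.mul_X]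
  have hY : (a * phi a * (phi ^ 2) a * (phi ^ 3) a).Y = a.Y + a.Y ^ 3 + a.Y ^ 9 + a.Y ^ 27 := by
    rw [phi_pow_two_apply, phi_pow_three_apply, phi_apply, A8.mul_Y, A8.mul_Y, A8.mul_Y]
  rw [hX, hY, sg_norm_four, sg_norm_four, sub_self, zero_mul]

end Cfsg.Agent.Helper11.Spec4
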