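import Mathlib
import Cfsg.Agent.Helper14.Spec4Grp

/-!
# S3439 piece (GFIX): `eta` has no nontrivial fixed points
-/

set_option autoImplicit false

namespace Cfsg.Agent.Helper11.Spec4

open SemidirectProduct Cfsg.Agent.Helper14.Spec4

theorem eq_zero_of_zeta_pow_mul (k : ℕ) (hk : ¬ 5 ∣ k) (c : K)
    (h : ((zeta ^ k : Kˣ) : K) * c = c) : c = 0 := by
  have h1 : (((zeta ^ k : Kˣ) : K) - 1) * c = 0 := by rw [sub_mul, h, one_mul, sub_self]
  rcases mul_eq_zero.mp h1 with h2 | h2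
  · exfalso
    apply hk
    rw [← zeta_pow_eq_one_iff]
    apply Units.ext
    rw [Units.val_one]
    exact sub_eq_zero.mp h2
  · exact h2

/-- (GFIX) -/
theorem eq_one_of_eta_fix (a : A) (h : eta a = a) : a = 1 := by
  rw [eta_apply] at h
  have hX := congrArg A8.X h
  have hY := congrArg A8.Y h
  have hv0 := congrArg A8.v0 h
  have hp1 := congrArg A8.p1 h
  have hp2 := congrArg A8.p2 h
  have hp3 := congrArg A8.p3 h
  have hp4 := congrArg A8.p4 h
  have hv2 := congrArg A8.v2 h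
  dsimp only at hX hY hv0 hp1 hp2 hp3 hp4 hv2
  have e3 : ((zeta ^ 2 : Kˣ) : K) * (zeta : K) = ((zeta ^ 3 : Kˣ) : K) := by
    rw [← Units.val_mul, ← pow_succ]
  have e4 : ((zeta ^ 3 : Kˣ) : K) * (zeta : K) = ((zeta ^ 4 : Kˣ) : K) := by
    rw [← Units.val_mul, ← pow_succ]
  have e6 : ((zeta ^ 3 : Kˣ) : K) * ((zeta ^ 2 : Kˣ) : K) * (zeta : K) = ((zeta ^ 6 : Kˣ) : K) := by
    rw [← Units.val_mul, ← Units.val_mul, ← pow_add, ← pow_succ]
  have e1 : (zeta : K) = ((zeta ^ 1 : Kˣ) : K) := by rw [pow_one]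
  rw [e3] at hp1 hp4
  rw [e4] at hp2 hp3
  rw [e6] at hv2
  rw [e1] at hv0
  ext
  · exact eq_zero_of_zeta_pow_mul 3 (by norm_num) _ hX
  · exact eq_zero_of_zeta_pow_mul 2 (by norm_num) _ hY
  · exact eq_zero_of_zeta_pow_mul 1 (by norm_num) _ hv0
  · exact eq_zero_of_zeta_pow_mul 3 (by norm_num) _ hp1
  · exact eq_zero_of_zeta_pow_mul 4 (by norm_num) _ hp2
  · exact eq_zero_of_zeta_pow_mul 4 (by norm_num) _ hp3
  · exact eq_zero_of_zeta_pow_mul 3 (by norm_num) _ hp4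
  · exact eq_zero_of_zeta_pow_mul 6 (by norm_num) _ hv2

/-- (GFIX), second half -/
theorem eta_ne_one : eta ≠ 1 := by
  intro h
  have h1 : eta (⟨1, 0, 0, 0, 0, 0, 0, 0⟩ : A) = ⟨1, 0, 0, 0, 0, 0, 0, 0⟩ := by
    rw [h, MulAut.one_apply]
  have h2 := eq_one_of_eta_fix _ h1
  have h3 := congrArg A8.X h2
  rw [A8.one_X] at h3
  exact one_ne_zero h3

end Cfsg.Agent.Helper11.Spec4
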