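import Mathlib
import Cfsg.Prelude.Def_PLocal
import Cfsg.Agent.Lib.Cores
import Cfsg.Agent.Helper70.FrattiniAction

set_option autoImplicit false

namespace Cfsg.Agent.Helper11

open scoped commutatorElement

section stablenormal
variable {G : Type*} [Group G]

/-- Elements of the kernel of the action on `Q / Φ(Q)` act trivially in the sense of `frattiniAct`. -/
theorem frattiniAct_eq_one_of_mem_sectionKernel (Q : Subgroup G) [hQ : Q.Normal] (g : G)
    (hg : g ∈ Cfsg.sectionKernel Q ((frattini ↥Q).map Q.subtype)) :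
    Cfsg.Agent.Helper70.frattiniAct Q g = 1 := by
  have hΦn : ((frattini ↥Q).map Q.subtype).Normal := inferInstance
  unfold Cfsg.sectionKernel at hg
  rw [Subgroup.mem_comap, Subgroup.mem_centralizer_iff] at hg
  -- for x ∈ Q: g x⁻¹ g⁻¹ x ∈ Φ
  have key : ∀ x ∈ Q, g * x⁻¹ * g⁻¹ * x ∈ (frattini ↥Q).map Q.subtype := by
    intro x hx
    have h1 := hg ((QuotientGroup.mk' _) x) ⟨x, hx, rfl⟩
    rw [← map_mul, ← map_mul, QuotientGroup.mk'_apply, QuotientGroup.mk'_apply, QuotientGroup.eq] at h1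
    -- h1 : (x * g)⁻¹ * (g * x) ∈ Φ
    have h2 := hΦn.conj_mem _ h1 g
    have h3 := Subgroup.inv_mem _ h2
    have e : (g * ((x * g)⁻¹ * (g * x)) * g⁻¹)⁻¹ = g * x⁻¹ * g⁻¹ * x := by group
    rw [e] at h3
    exact h3
  ext y
  induction y using QuotientGroup.induction_on with | _ x => ?_
  rw [Cfsg.Agent.Helper70.frattiniAct_mk, MulAut.one_apply]
  rw [QuotientGroup.eq]
  obtain ⟨w, hw, hwx⟩ := key x x.2
  have : w = (⟨g * x * g⁻¹, hQ.conj_mem x x.2 g⟩ : ↥Q)⁻¹ * x := by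
    apply Subtype.ext
    rw [Subgroup.subtype_apply] at hwx
    rw [hwx]
    simp only [Subgroup.coe_mul, Subgroup.coe_inv]
    group
  rw [← this]
  exact hw

/-- If `C_G(Q) ≤ Q` for the normal `p`-subgroup `Q`, the kernel of the action on `Q / Φ(Q)` is a `p`-group. -/
theorem isPGroup_sectionKernel [Finite G] {p : ℕ} [Fact p.Prime] (Q : Subgroup G) [hQ : Q.Normal]
    (hQp : IsPGroup p Q) (hC : Subgroup.centralizer (Q : Set G) ≤ Q) :
    IsPGroup p (Cfsg.sectionKernel Q ((frattini ↥Q).map Q.subtype)) := by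
  rintro ⟨g, hg⟩
  obtain ⟨k, hk⟩ := Cfsg.Agent.Helper70.exists_pow_eq_one_of_frattiniAct_eq_one Q hQp hC g
    (frattiniAct_eq_one_of_mem_sectionKernel Q g hg)
  exact ⟨k, Subtype.ext (by simpa using hk)⟩

/-- Under `p`-stability on `O_p(G)/Φ(O_p(G))` and `C_G(O_p(G)) ≤ O_p(G)`, an element acting quadratically on
`O_p(G)` (modulo the Frattini subgroup) lies in `O_p(G)`. -/
theorem mem_pCore_of_quadratic_section [Finite G] {p : ℕ} [Fact p.Prime]
    (hc : Subgroup.centralizer (Cfsg.pCore p G : Set G) ≤ Cfsg.pCore p G)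
    (h2 : Cfsg.IsPStableOnSection p (Cfsg.pCore p G)
      ((frattini ↥(Cfsg.pCore p G)).map (Cfsg.pCore p G).subtype))
    (a : G)
    (ha : ⁅⁅Cfsg.pCore p G, Subgroup.zpowers a⁆, Subgroup.zpowers a⁆ ≤
      (frattini ↥(Cfsg.pCore p G)).map (Cfsg.pCore p G).subtype) : a ∈ Cfsg.pCore p G := by
  obtain ⟨D, hDn, hKD, ⟨k, hk⟩, haD⟩ := h2 a ha
  have hKp := isPGroup_sectionKernel (Cfsg.pCore p G) (Cfsg.Agent.Lib.isPGroup_pCore p) hc
  obtain ⟨j, hj⟩ := IsPGroup.iff_card.mp hKp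
  have hcard : Nat.card D = p ^ (j + k) := by
    have := Subgroup.relIndex_mul_relIndex ⊥ _ D bot_le hKD
    rw [Subgroup.relIndex_bot_left, Subgroup.relIndex_bot_left, hj, hk] at this
    rw [← this, pow_add]
  have hDp : IsPGroup p D := IsPGroup.of_card hcard
  exact Cfsg.Agent.Lib.le_pCore hDn hDp haD

/-- Under these hypotheses every abelian subgroup of a Sylow `p`-subgroup `S` normalized by `S` lies in `O_p(G)`. -/
theorem abelian_normal_le_pCore [Finite G] {p : ℕ} [Fact p.Prime]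
    (hc : Subgroup.centralizer (Cfsg.pCore p G : Set G) ≤ Cfsg.pCore p G)
    (h2 : Cfsg.IsPStableOnSection p (Cfsg.pCore p G)
      ((frattini ↥(Cfsg.pCore p G)).map (Cfsg.pCore p G).subtype))
    (S : Sylow p G) (A : Subgroup G) (hAS : (S : Subgroup G) ≤ Subgroup.normalizer (A : Set G))
    (hcomm : ∀ x ∈ A, ∀ y ∈ A, x * y = y * x) : A ≤ Cfsg.pCore p G := by
  intro a ha
  apply mem_pCore_of_quadratic_section hc h2 a
  have hPS : Cfsg.pCore p G ≤ (S : Subgroup G) := Cfsg.Agent.Lib.pCore_le_sylow S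
  have h1 : ⁅Cfsg.pCore p G, Subgroup.zpowers a⁆ ≤ A := by
    rw [Subgroup.commutator_comm]
    have h3 : ⁅A, Cfsg.pCore p G⁆ ≤ A :=
      Subgroup.le_normalizer_iff_commutator_le_left.mp (hPS.trans hAS)
    exact (Subgroup.commutator_mono (Subgroup.zpowers_le.mpr ha) (le_refl _)).trans h3
  have h4 : ⁅⁅Cfsg.pCore p G, Subgroup.zpowers a⁆, Subgroup.zpowers a⁆ ≤ ⁅A, A⁆ :=
    Subgroup.commutator_mono h1 (Subgroup.zpowers_le.mpr ha)
  have h5 : ⁅A, A⁆ = ⊥ := by
    rw [eq_bot_iff, Subgroup.commutator_le]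
    intro x hx y hy
    rw [Subgroup.mem_bot, commutatorElement_eq_one_iff_mul_comm]
    exact hcomm x hx y hy
  rw [h5] at h4
  exact h4.trans bot_le

end stablenormal

end Cfsg.Agent.Helper11
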