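import Cfsg.Agent.Helper11.StableW2
import Cfsg.Agent.Helper11.Quadratic

set_option autoImplicit false
universe u

namespace Cfsg.Agent.Helper11

open scoped commutatorElement

section stableW3

theorem quadratic_map_iff {S H : Type*} [Group S] [Group H] (τ : S →* H) (hinj : Function.Injective τ)
    (U : Subgroup S) (s : S) :
    ⁅⁅U.map τ, Subgroup.zpowers (τ s)⁆, Subgroup.zpowers (τ s)⁆ = ⊥ ↔
      ⁅⁅U, Subgroup.zpowers s⁆, Subgroup.zpowers s⁆ = ⊥ := by
  rw [← MonoidHom.map_zpowers, ← Subgroup.map_commutator, ← Subgroup.map_commutator,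
    Subgroup.map_eq_bot_iff_of_injective _ hinj]

/-- The property propagated along the construction of `W(S)`. -/
def QuadCent {S : Type*} [Group S] (U : Subgroup S) : Prop :=
  ∀ y : S, ⁅⁅U, Subgroup.zpowers y⁆, Subgroup.zpowers y⁆ = ⊥ → ∀ u ∈ U, u * y = y * u

theorem quadCent_stableNormalClosure {S : Type u} [Group S] [Finite S] {p : ℕ} [hp : Fact p.Prime] :
    QuadCent (Cfsg.stableNormalClosure p S) := by
  classical
  obtain ⟨W, hW⟩ : ∃ W : Subgroup S, W = Cfsg.stableNormalClosure p S := ⟨_, rfl⟩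
  rw [← hW]
  have hWF : W ∈ stableFamily p S := by rw [hW]; exact stableNormalClosure_mem_stableFamily
  have hWB : W ≤ Cfsg.omegaCenterThompson p S := by
    rw [hW]; exact stableNormalClosure_le_omegaCenterThompson
  -- the candidates
  have h0 : Cfsg.omegaOne p (Subgroup.center S) ≤ W := hWF.1
  have h0n : (Cfsg.omegaOne p (Subgroup.center S)).Normal := by
    constructor
    intro n hn g
    have hle : Cfsg.omegaOne p (Subgroup.center S) ≤ Subgroup.center S := by
      unfold Cfsg.omegaOne
      rw [Subgroup.closure_le]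
      rintro x ⟨hx, -⟩
      exact hx
    have := Subgroup.mem_center_iff.mp (hle hn) g
    rw [this, mul_inv_cancel_right]
    exact hn
  have h0P : QuadCent (Cfsg.omegaOne p (Subgroup.center S)) := by
    intro y _ u hu
    have hle : Cfsg.omegaOne p (Subgroup.center S) ≤ Subgroup.center S := by
      unfold Cfsg.omegaOne
      rw [Subgroup.closure_le]
      rintro x ⟨hx, -⟩
      exact hx
    exact (Subgroup.mem_center_iff.mp (hle hu) y).symm
  have : Nonempty {U : Subgroup S // Cfsg.omegaOne p (Subgroup.center S) ≤ U ∧ U ≤ W ∧ U.Normal ∧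
      QuadCent U} := ⟨⟨_, le_refl _, h0, h0n, h0P⟩⟩
  obtain ⟨⟨U, hU1, hU2, hU3, hU4⟩, hmax⟩ := Finite.exists_max
    (fun U : {U : Subgroup S // Cfsg.omegaOne p (Subgroup.center S) ≤ U ∧ U ≤ W ∧ U.Normal ∧
      QuadCent U} => Nat.card U.1)
  -- U belongs to the family
  have hUF : U ∈ stableFamily p S := by
    by_contra hUF
    have hex : ∃ (H : Type u) (_ : Group H) (τ : S →* H), Cfsg.IsStableEmbedding p τ ∧
        ¬ (U.map τ).Normal := by
      by_contra hno
      apply hUF
      refine ⟨hU1, ?_⟩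
      intro H _ τ hτ
      by_contra hn
      exact hno ⟨H, _, τ, hτ, hn⟩
    obtain ⟨H, instH, τ, hτ, hnn⟩ := hex
    have hτ' : Cfsg.IsStableEmbedding p τ := hτ
    obtain ⟨hinj, hfin, ⟨R, hR⟩, -, -, hstab⟩ := hτ
    haveI := hfin
    have hWn : (W.map τ).Normal := hWF.2 H τ hτ'
    obtain ⟨V, hV⟩ : ∃ V : Subgroup H, V = Subgroup.normalClosure ((U.map τ : Subgroup H) : Set H) :=
      ⟨_, rfl⟩
    haveI hVn : V.Normal := by rw [hV]; exact Subgroup.normalClosure_normal
    have hVW : V ≤ W.map τ := by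
      rw [hV]
      exact Subgroup.normalClosure_le_normal (Subgroup.map_mono hU2)
    have hUV : U.map τ ≤ V := by rw [hV]; exact Subgroup.le_normalClosure
    have hVB : V ≤ (Cfsg.omegaCenterThompson p S).map τ := hVW.trans (Subgroup.map_mono hWB)
    have hst : Cfsg.IsPStableOn p V := hstab V hVB
    -- U' = τ⁻¹(V)
    have hmap : (V.comap τ).map τ = V := by
      rw [Subgroup.map_comap_eq, inf_eq_right]
      exact hVW.trans (Subgroup.map_le_range τ W)
    have hU'W : V.comap τ ≤ W := by
      intro x hx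
      obtain ⟨w, hw, hwx⟩ := hVW (Subgroup.mem_comap.mp hx)
      rw [← hinj hwx]; exact hw
    have hUU' : U ≤ V.comap τ := by
      intro u hu
      exact hUV ⟨u, hu, rfl⟩
    have hU'n : (V.comap τ).Normal := Subgroup.Normal.comap hVn τ
    have hU'P : QuadCent (V.comap τ) := by
      intro y hy u' hu'
      have hyq : ⁅⁅V, Subgroup.zpowers (τ y)⁆, Subgroup.zpowers (τ y)⁆ = ⊥ := by
        rw [← hmap]
        exact (quadratic_map_iff τ hinj _ y).mpr hy
      have hP : ∀ r ∈ (R : Subgroup H), ⁅⁅V, Subgroup.zpowers r⁆, Subgroup.zpowers r⁆ = ⊥ →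
          ∀ u ∈ U.map τ, u * r = r * u := by
        intro r hr hrq u hu
        rw [hR] at hr
        obtain ⟨s, rfl⟩ := hr
        obtain ⟨u₀, hu₀, rfl⟩ := hu
        rw [← hmap] at hrq
        have hsq := (quadratic_map_iff τ hinj _ s).mp hrq
        have hsU : ⁅⁅U, Subgroup.zpowers s⁆, Subgroup.zpowers s⁆ = ⊥ := by
          rw [eq_bot_iff, ← hsq]
          exact Subgroup.commutator_mono (Subgroup.commutator_mono hUU' (le_refl _)) (le_refl _)
        have := hU4 s hsU u₀ hu₀
        rw [← map_mul, ← map_mul, this]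
      have hcent := centralizes_normalClosure_of_quadratic (U.map τ) V hV hst R hP (τ y) hyq
      rw [commutator_zpowers_eq_bot_iff] at hcent
      have := hcent (τ u') (Subgroup.mem_comap.mp hu')
      rw [← map_mul, ← map_mul] at this
      exact hinj this
    have hle := hmax ⟨V.comap τ, hU1.trans hUU', hU'W, hU'n, hU'P⟩
    simp only [] at hle
    have heq : U = V.comap τ := Subgroup.eq_of_le_of_card_ge hUU' hle
    apply hnn
    rw [heq, hmap]
    exact hVn
  have hWU : W ≤ U := by
    rw [hW, stableNormalClosure_eq]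
    exact sInf_le hUF
  have : W = U := le_antisymm hWU hU2
  rw [this]
  exact hU4

end stableW3

end Cfsg.Agent.Helper11
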