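import Cfsg.Agent.Helper11.StableNormal
import Cfsg.Agent.Helper11.StableW3
import Cfsg.Agent.Helper54.PConstrained
import Cfsg.Agent.S0602

set_option autoImplicit false

namespace Cfsg.Agent.Helper11

open scoped commutatorElement

section stablenormal2
variable {G : Type*} [Group G]

/-- `O_{p'}(G) = 1` when `C_G(O_p(G)) ≤ O_p(G)`. -/
theorem pPrimeCore_eq_bot_of_centralizer_le [Finite G] {p : ℕ} [Fact p.Prime]
    (hc : Subgroup.centralizer (Cfsg.pCore p G : Set G) ≤ Cfsg.pCore p G) :
    Cfsg.pPrimeCore p G = ⊥ := by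
  have hdis : Disjoint (Cfsg.pPrimeCore p G) (Cfsg.pCore p G) := by
    rw [disjoint_iff, inf_comm]
    exact Cfsg.Agent.Lib.pCore_inf_pPrimeCore p
  have hle : Cfsg.pPrimeCore p G ≤ Subgroup.centralizer (Cfsg.pCore p G : Set G) := by
    intro x hx
    rw [Subgroup.mem_centralizer_iff]
    intro y hy
    exact (Subgroup.commute_of_normal_of_disjoint _ _ inferInstance inferInstance hdis x y hx hy).eq.symm
  rw [eq_bot_iff]
  intro x hx
  have h1 : x ∈ Cfsg.pCore p G ⊓ Cfsg.pPrimeCore p G := Subgroup.mem_inf.mpr ⟨hc (hle hx), hx⟩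
  rw [Cfsg.Agent.Lib.pCore_inf_pPrimeCore p] at h1
  exact h1

/-- `S` normalizes `J(S)` (viewed in `G`). -/
theorem le_normalizer_thompsonSubgroupOf [Finite G] {p : ℕ} [Fact p.Prime] (S : Subgroup G) :
    S ≤ Subgroup.normalizer (Cfsg.thompsonSubgroupOf p S : Set G) := by
  intro s hs
  apply mem_normalizer_of_conj_mem
  rintro _ ⟨x, hx, rfl⟩
  have hchar : (Cfsg.thompsonSubgroup p ↥S).Characteristic := (Cfsg.Agent.S0602.result (G := ↥S) (p := p)).1
  have hn : (Cfsg.thompsonSubgroup p ↥S).Normal := inferInstance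
  refine ⟨⟨s, hs⟩ * x * ⟨s, hs⟩⁻¹, hn.conj_mem x hx ⟨s, hs⟩, ?_⟩
  simp

end stablenormal2

end Cfsg.Agent.Helper11

namespace Cfsg.Agent.Helper11

section stablenormal3
variable {G : Type*} [Group G]

theorem map_inclusion_map_subtype {H K : Subgroup G} (h : H ≤ K) (X : Subgroup ↥H) :
    (X.map (Subgroup.inclusion h)).map K.subtype = X.map H.subtype := by
  rw [Subgroup.map_map]
  congr 1

theorem map_inclusion_eq_subgroupOf {H K : Subgroup G} (h : H ≤ K) (X : Subgroup ↥H) :
    X.map (Subgroup.inclusion h) = (X.map H.subtype).subgroupOf K := by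
  rw [← map_inclusion_map_subtype h X, Subgroup.subgroupOf,
    Subgroup.comap_map_eq_self_of_injective K.subtype_injective]

/-- The inclusion of a Sylow `p`-subgroup `S` into `N_G(J(S))` is a stable embedding, for an action-`p`-stable group
`G` with `C_G(O_p(G)) ≤ O_p(G)`. -/
theorem isStableEmbedding_inclusion [Finite G] {p : ℕ} [Fact p.Prime] (hst : Cfsg.IsActionPStable p G)
    (hc : Subgroup.centralizer (Cfsg.pCore p G : Set G) ≤ Cfsg.pCore p G) (S : Sylow p G) :
    Cfsg.IsStableEmbedding p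
      (Subgroup.inclusion (le_normalizer_thompsonSubgroupOf (p := p) (S : Subgroup G))) := by
  have hSL := le_normalizer_thompsonSubgroupOf (p := p) (S : Subgroup G)
  refine ⟨Subgroup.inclusion_injective _, inferInstance, ⟨S.subtype hSL, ?_⟩, ?_, ?_, ?_⟩
  · rw [Sylow.coe_subtype, Subgroup.inclusion_range]
  · have hT : IsPGroup p (Cfsg.thompsonSubgroupOf p (S : Subgroup G)) :=
      S.isPGroup'.to_le (thompsonSubgroupOf_le p _)
    have hG : Cfsg.Agent.Helper54.CharP p G := ⟨pPrimeCore_eq_bot_of_centralizer_le hc, hc⟩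
    exact (Cfsg.Agent.Helper54.charP_of_le_normalizer hG _ _ hT (le_refl _)
      (Subgroup.centralizer_le_normalizer _) (Or.inl Subgroup.le_normalizer)).2
  · rw [map_inclusion_eq_subgroupOf]
    exact Subgroup.normal_in_normalizer
  · intro V _ hV
    apply hst.2.2 S V
    have := Subgroup.map_mono (f := (Subgroup.normalizer
      (Cfsg.thompsonSubgroupOf p (S : Subgroup G) : Set G)).subtype) hV
    rw [map_inclusion_map_subtype] at this
    exact this

/-- Consequently `N_G(J(S))` normalizes `W(S)`. -/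
theorem normalizer_thompson_le_normalizer_W [Finite G] {p : ℕ} [Fact p.Prime]
    (hst : Cfsg.IsActionPStable p G)
    (hc : Subgroup.centralizer (Cfsg.pCore p G : Set G) ≤ Cfsg.pCore p G) (S : Sylow p G) :
    Subgroup.normalizer (Cfsg.thompsonSubgroupOf p (S : Subgroup G) : Set G) ≤
      Subgroup.normalizer (((Cfsg.stableNormalClosure p ↥(S : Subgroup G)).map
        (S : Subgroup G).subtype : Subgroup G) : Set G) := by
  have hSL := le_normalizer_thompsonSubgroupOf (p := p) (S : Subgroup G)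
  have hn := (stableNormalClosure_mem_stableFamily (S := ↥(S : Subgroup G)) (p := p)).2 _ _
    (isStableEmbedding_inclusion hst hc S)
  intro l hl
  apply mem_normalizer_of_conj_mem
  intro x hx
  rw [← map_inclusion_map_subtype hSL] at hx ⊢
  obtain ⟨x', hx', rfl⟩ := hx
  exact ⟨⟨l, hl⟩ * x' * ⟨l, hl⟩⁻¹, hn.conj_mem x' hx' ⟨l, hl⟩, by simp⟩

end stablenormal3

end Cfsg.Agent.Helper11
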