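import Cfsg.Agent.Helper11.StableNormal2
import Cfsg.Agent.Helper11.ThompsonFact
import Cfsg.Agent.S0607

set_option autoImplicit false

namespace Cfsg.Agent.Helper11

open scoped commutatorElement

section stablenormal4
variable {G : Type*} [Group G]

/-- `Ω₁Z(J(S))` is elementary abelian. -/
theorem omegaCenterThompson_comm (p : ℕ) (S : Type*) [Group S] :
    (∀ x ∈ Cfsg.omegaCenterThompson p S, ∀ y ∈ Cfsg.omegaCenterThompson p S, x * y = y * x) ∧
    (∀ x ∈ Cfsg.omegaCenterThompson p S, x ^ p = 1) := by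
  have hle : Cfsg.omegaCenterThompson p S ≤
      Cfsg.thompsonSubgroup p S ⊓ Subgroup.centralizer (Cfsg.thompsonSubgroup p S : Set S) := by
    unfold Cfsg.omegaCenterThompson Cfsg.omegaOne
    rw [Subgroup.closure_le]
    rintro x ⟨hx, -⟩
    exact hx
  have hcomm : ∀ x ∈ Cfsg.omegaCenterThompson p S, ∀ y ∈ Cfsg.omegaCenterThompson p S, x * y = y * x := by
    intro x hx y hy
    have h1 := (Subgroup.mem_inf.mp (hle hx)).2
    have h2 := (Subgroup.mem_inf.mp (hle hy)).1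
    exact (Subgroup.mem_centralizer_iff.mp h1 y h2).symm
  refine ⟨hcomm, ?_⟩
  intro x hx
  have hx' := hx
  unfold Cfsg.omegaCenterThompson Cfsg.omegaOne at hx'
  induction hx' using Subgroup.closure_induction with
  | mem y hy => exact hy.2
  | one => simp
  | mul y z hy hz ihy ihz =>
    have hy' : y ∈ Cfsg.omegaCenterThompson p S := hy
    have hz' : z ∈ Cfsg.omegaCenterThompson p S := hz
    rw [(show Commute y z from hcomm y hy' z hz').mul_pow, ihy hy', ihz hz', one_mul]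
  | inv y hy ihy =>
    have hy' : y ∈ Cfsg.omegaCenterThompson p S := hy
    rw [inv_pow, ihy hy', inv_one]

/-- If `J(G) ≤ K` with `K` normal, then `N_G(S ∩ K) ≤ N_G(J(S))`. -/
theorem normalizer_inf_le_normalizer_thompson [Finite G] {p : ℕ} [Fact p.Prime] (S : Sylow p G)
    (K : Subgroup G) (hJK : Cfsg.thompsonSubgroup p G ≤ K) :
    Subgroup.normalizer (((S : Subgroup G) ⊓ K : Subgroup G) : Set G) ≤
      Subgroup.normalizer (Cfsg.thompsonSubgroupOf p (S : Subgroup G) : Set G) := by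
  intro n hn
  obtain ⟨A₀, hA₀, hA₀S⟩ := exists_maxElAb_le_sylow S
  rw [Cfsg.Agent.Helper10.thompsonSubgroupOf_eq_sSup hA₀ hA₀S]
  apply mem_normalizer_of_conj_mem
  have hle : sSup {A : Subgroup G | A ∈ Cfsg.maxElementaryAbelianSubgroups p G ∧ A ≤ (S : Subgroup G)} ≤
      (sSup {A : Subgroup G | A ∈ Cfsg.maxElementaryAbelianSubgroups p G ∧ A ≤ (S : Subgroup G)}).comap
        (MulAut.conj n).toMonoidHom := by
    apply sSup_le
    rintro A ⟨hA, hAS⟩
    rw [← Subgroup.map_le_iff_le_comap]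
    apply le_sSup
    refine ⟨Cfsg.Agent.Helper10.map_mem_maxElementaryAbelian _ hA, ?_⟩
    rintro _ ⟨a, ha, rfl⟩
    have haK : a ∈ K := hJK (Cfsg.Agent.Helper10.le_thompsonSubgroup hA ha)
    have h1 : a ∈ (S : Subgroup G) ⊓ K := Subgroup.mem_inf.mpr ⟨hAS ha, haK⟩
    have h2 := (Subgroup.mem_normalizer_iff.mp hn a).mp h1
    exact (Subgroup.mem_inf.mp h2).1
  intro x hx
  exact hle hx

end stablenormal4

end Cfsg.Agent.Helper11

namespace Cfsg.Agent.Helper11

open scoped commutatorElement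

section stablenormal5
variable {G : Type*} [Group G]

/-- **Stellmacher's theorem**: in an action-`p`-stable group with `C_G(O_p(G)) ≤ O_p(G)`, the subgroup `W(S)` of a
Sylow `p`-subgroup `S` is normal. -/
theorem stableNormalClosure_normal [Finite G] {p : ℕ} [Fact p.Prime] (hst : Cfsg.IsActionPStable p G)
    (hc : Subgroup.centralizer (Cfsg.pCore p G : Set G) ≤ Cfsg.pCore p G) (S : Sylow p G) :
    ((Cfsg.stableNormalClosure p ↥(S : Subgroup G)).map (S : Subgroup G).subtype).Normal := by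
  obtain ⟨W, hW⟩ : ∃ W : Subgroup ↥(S : Subgroup G), W = Cfsg.stableNormalClosure p ↥(S : Subgroup G) :=
    ⟨_, rfl⟩
  obtain ⟨WG, hWG⟩ : ∃ WG : Subgroup G, WG = W.map (S : Subgroup G).subtype := ⟨_, rfl⟩
  have hLW := normalizer_thompson_le_normalizer_W hst hc S
  rw [← hW, ← hWG] at hLW ⊢
  have hWB : W ≤ Cfsg.omegaCenterThompson p ↥(S : Subgroup G) := by
    rw [hW]; exact stableNormalClosure_le_omegaCenterThompson
  obtain ⟨hBcomm, hBexp⟩ := omegaCenterThompson_comm p ↥(S : Subgroup G)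
  have hWGS : WG ≤ (S : Subgroup G) := by rw [hWG]; exact Subgroup.map_subtype_le _
  -- WG is abelian of exponent p
  have hWGcomm : ∀ x ∈ WG, ∀ y ∈ WG, x * y = y * x := by
    rw [hWG]
    rintro _ ⟨x, hx, rfl⟩ _ ⟨y, hy, rfl⟩
    rw [← map_mul, ← map_mul, hBcomm x (hWB hx) y (hWB hy)]
  have hWGexp : ∀ x ∈ WG, x ^ p = 1 := by
    rw [hWG]
    rintro _ ⟨x, hx, rfl⟩
    rw [← map_pow, hBexp x (hWB hx), map_one]
  -- S normalizes WG
  have hSW : (S : Subgroup G) ≤ Subgroup.normalizer (WG : Set G) :=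
    (le_normalizer_thompsonSubgroupOf (p := p) (S : Subgroup G)).trans hLW
  have hSWc : ∀ s ∈ (S : Subgroup G), ∀ w ∈ WG, s * w * s⁻¹ ∈ WG := fun s hs w hw =>
    (Subgroup.mem_normalizer_iff.mp (hSW hs) w).mp hw
  -- WG ≤ O_p(G)
  have hWP : WG ≤ Cfsg.pCore p G := abelian_normal_le_pCore hc hst.2.1 S WG hSW hWGcomm
  have hPS : Cfsg.pCore p G ≤ (S : Subgroup G) := Cfsg.Agent.Lib.pCore_le_sylow S
  have hPn : (Cfsg.pCore p G).Normal := inferInstance
  -- S0623 transported to G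
  have hquad : ∀ x ∈ (S : Subgroup G), ⁅⁅WG, Subgroup.zpowers x⁆, Subgroup.zpowers x⁆ = ⊥ →
      ∀ w ∈ WG, w * x = x * w := by
    intro x hx hq w hw
    rw [hWG] at hq hw
    obtain ⟨w', hw', rfl⟩ := hw
    have hq' := (quadratic_map_iff (S : Subgroup G).subtype (S : Subgroup G).subtype_injective W
      ⟨x, hx⟩).mp hq
    rw [hW] at hq' hw'
    have hQC : QuadCent (Cfsg.stableNormalClosure p ↥(S : Subgroup G)) := quadCent_stableNormalClosure
    have := hQC ⟨x, hx⟩ hq' w' hw'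
    exact congrArg Subtype.val this
  -- conjugates of elements of WG centralize WG
  have hconj : ∀ g : G, ∀ x ∈ WG, ∀ w ∈ WG, w * (g * x * g⁻¹) = (g * x * g⁻¹) * w := by
    intro g x hx w hw
    have hzP : g * x * g⁻¹ ∈ Cfsg.pCore p G := hPn.conj_mem x (hWP hx) g
    apply hquad _ (hPS hzP) _ w hw
    -- quadratic: [WG, ⟨z⟩] ≤ X = g WG g⁻¹, abelian
    obtain ⟨X, hX⟩ : ∃ X : Subgroup G, X = WG.map (MulAut.conj g).toMonoidHom := ⟨_, rfl⟩
    have hzX : g * x * g⁻¹ ∈ X := by rw [hX]; exact ⟨x, hx, rfl⟩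
    have hXcomm : ∀ a ∈ X, ∀ b ∈ X, a * b = b * a := by
      rw [hX]
      rintro _ ⟨a, ha, rfl⟩ _ ⟨b, hb, rfl⟩
      rw [← map_mul, ← map_mul, hWGcomm a ha b hb]
    have hXnorm : ∀ w ∈ WG, ∀ a ∈ X, w * a * w⁻¹ ∈ X := by
      intro w hw a ha
      rw [hX] at ha ⊢
      obtain ⟨a₀, ha₀, rfl⟩ := ha
      have hs : g⁻¹ * w * g⁻¹⁻¹ ∈ Cfsg.pCore p G := hPn.conj_mem w (hWP hw) g⁻¹
      refine ⟨(g⁻¹ * w * g⁻¹⁻¹) * a₀ * (g⁻¹ * w * g⁻¹⁻¹)⁻¹, hSWc _ (hPS hs) a₀ ha₀, ?_⟩
      simp only [MulEquiv.coe_toMonoidHom, MulAut.conj_apply]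
      group
    have h1 : ⁅WG, Subgroup.zpowers (g * x * g⁻¹)⁆ ≤ X := by
      rw [Subgroup.commutator_le]
      intro w hw a ha
      have haX : a ∈ X := (Subgroup.zpowers_le.mpr hzX) ha
      rw [commutatorElement_def]
      exact X.mul_mem (hXnorm w hw a haX) (X.inv_mem haX)
    rw [eq_bot_iff]
    calc ⁅⁅WG, Subgroup.zpowers (g * x * g⁻¹)⁆, Subgroup.zpowers (g * x * g⁻¹)⁆ ≤ ⁅X, X⁆ :=
          Subgroup.commutator_mono h1 (Subgroup.zpowers_le.mpr hzX)
      _ ≤ ⊥ := by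
          rw [Subgroup.commutator_le]
          intro a ha b hb
          rw [Subgroup.mem_bot, commutatorElement_eq_one_iff_mul_comm]
          exact hXcomm a ha b hb
  -- V = normal closure of WG: elementary abelian, normal
  obtain ⟨V, hV⟩ : ∃ V : Subgroup G, V = Subgroup.normalClosure (WG : Set G) := ⟨_, rfl⟩
  have hVn : V.Normal := by rw [hV]; exact Subgroup.normalClosure_normal
  have hWV : WG ≤ V := by rw [hV]; exact Subgroup.le_normalClosure
  have hgen : ∀ a ∈ Group.conjugatesOfSet (WG : Set G), ∀ b ∈ Group.conjugatesOfSet (WG : Set G),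
      a * b = b * a := by
    intro a ha b hb
    rw [Group.mem_conjugatesOfSet_iff] at ha hb
    obtain ⟨u₁, hu₁, hc₁⟩ := ha
    obtain ⟨u₂, hu₂, hc₂⟩ := hb
    rw [isConj_iff] at hc₁ hc₂
    obtain ⟨c₁, rfl⟩ := hc₁
    obtain ⟨c₂, rfl⟩ := hc₂
    have := hconj (c₁⁻¹ * c₂) u₂ hu₂ u₁ hu₁
    have e1 : c₁ * u₁ * c₁⁻¹ * (c₂ * u₂ * c₂⁻¹) =
        c₁ * (u₁ * (c₁⁻¹ * c₂ * u₂ * (c₁⁻¹ * c₂)⁻¹)) * c₁⁻¹ := by group
    have e2 : c₂ * u₂ * c₂⁻¹ * (c₁ * u₁ * c₁⁻¹) =
        c₁ * ((c₁⁻¹ * c₂ * u₂ * (c₁⁻¹ * c₂)⁻¹) * u₁) * c₁⁻¹ := by group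
    rw [e1, e2, this]
  have hVc : IsMulCommutative V := by
    rw [hV, Subgroup.normalClosure]
    exact Subgroup.isMulCommutative_closure hgen
  have hVcomm : ∀ x ∈ V, ∀ y ∈ V, x * y = y * x := fun x hx y hy =>
    congrArg Subtype.val (hVc.is_comm.comm ⟨x, hx⟩ ⟨y, hy⟩)
  have hVexp : ∀ v ∈ V, v ^ p = 1 := by
    intro v hv
    have hv' := hv
    rw [hV, Subgroup.normalClosure] at hv'
    induction hv' using Subgroup.closure_induction with
    | mem y hy =>
      rw [Group.mem_conjugatesOfSet_iff] at hy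
      obtain ⟨u, hu, hcu⟩ := hy
      rw [isConj_iff] at hcu
      obtain ⟨c, rfl⟩ := hcu
      rw [conj_pow, hWGexp u hu]; group
    | one => simp
    | mul y z hy hz ihy ihz =>
      have hy' : y ∈ V := by rw [hV, Subgroup.normalClosure]; exact hy
      have hz' : z ∈ V := by rw [hV, Subgroup.normalClosure]; exact hz
      rw [(show Commute y z from hVcomm y hy' z hz').mul_pow, ihy hy', ihz hz', one_mul]
    | inv y hy ihy =>
      have hy' : y ∈ V := by rw [hV, Subgroup.normalClosure]; exact hy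
      rw [inv_pow, ihy hy', inv_one]
  have hVel : Cfsg.IsElementaryAbelian p V := ⟨hVc, hVexp⟩
  have hstV : Cfsg.IsPStableOn p V := hst.1 V hVel
  -- quadratic elements centralize V
  have hcentr : ∀ y : G, ⁅⁅V, Subgroup.zpowers y⁆, Subgroup.zpowers y⁆ = ⊥ →
      ⁅V, Subgroup.zpowers y⁆ = ⊥ := by
    intro y hy
    apply centralizes_normalClosure_of_quadratic WG V hV hstV S _ y hy
    intro r hr hrq u hu
    apply hquad r hr _ u hu
    rw [eq_bot_iff, ← hrq]
    exact Subgroup.commutator_mono (Subgroup.commutator_mono hWV (le_refl _)) (le_refl _)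
  -- J(G) centralizes V
  have hJ : Cfsg.thompsonSubgroup p G ≤ Subgroup.centralizer (V : Set G) := by
    unfold Cfsg.thompsonSubgroup
    apply sSup_le
    intro A hA
    obtain ⟨h1, h2, h3⟩ := Cfsg.Agent.S0607.result V hVel A hA
    have hA₀ : ⁅V, ⁅V, A⁆ ⊔ (A ⊓ Subgroup.centralizer ((⁅V, A⁆ : Subgroup G) : Set G))⁆ = ⊥ := by
      rw [eq_bot_iff, Subgroup.commutator_le]
      intro v hv a ha
      have hq : ⁅⁅V, Subgroup.zpowers a⁆, Subgroup.zpowers a⁆ = ⊥ := by
        rw [eq_bot_iff, ← h2]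
        exact Subgroup.commutator_mono
          (Subgroup.commutator_mono (le_refl _) (Subgroup.zpowers_le.mpr ha)) (Subgroup.zpowers_le.mpr ha)
      have := (commutator_zpowers_eq_bot_iff V a).mp (hcentr a hq) v hv
      rw [Subgroup.mem_bot, commutatorElement_eq_one_iff_mul_comm]
      exact this
    have hVA : ⁅V, A⁆ = ⊥ := by
      by_contra hne
      exact h3 hne hA₀
    rw [Subgroup.commutator_comm] at hVA
    exact Subgroup.commutator_eq_bot_iff_le_centralizer.mp hVA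
  -- Frattini
  obtain ⟨K, hK⟩ : ∃ K : Subgroup G, K = Subgroup.centralizer (V : Set G) := ⟨_, rfl⟩
  have hKn : K.Normal := by rw [hK]; infer_instance
  have hJK : Cfsg.thompsonSubgroup p G ≤ K := by rw [hK]; exact hJ
  have hfr := Sylow.normalizer_sup_eq_top (Cfsg.Agent.Helper53.sylowInfNormal S K)
  rw [Cfsg.Agent.Helper53.coe_sylowInfNormal, Subgroup.subgroupOf_map_subtype, sup_comm] at hfr
  constructor
  intro w hw g
  have hg : g ∈ K ⊔ Subgroup.normalizer (((S : Subgroup G) ⊓ K : Subgroup G) : Set G) := by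
    rw [hfr]; exact Subgroup.mem_top g
  rw [← SetLike.mem_coe, Subgroup.normal_mul, Set.mem_mul] at hg
  obtain ⟨k, hk, n, hn, rfl⟩ := hg
  have hnW : n ∈ Subgroup.normalizer (WG : Set G) :=
    hLW (normalizer_inf_le_normalizer_thompson S K hJK hn)
  have h1 : n * w * n⁻¹ ∈ WG := (Subgroup.mem_normalizer_iff.mp hnW w).mp hw
  have h2 : k * (n * w * n⁻¹) = (n * w * n⁻¹) * k := by
    rw [SetLike.mem_coe, hK] at hk
    exact (Subgroup.mem_centralizer_iff.mp hk _ (hWV h1)).symm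
  have e : k * n * w * (k * n)⁻¹ = k * (n * w * n⁻¹) * k⁻¹ := by group
  rw [e, h2, mul_inv_cancel_right]
  exact h1

end stablenormal5

end Cfsg.Agent.Helper11
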