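import Mathlib
import Cfsg.Prelude.Def_PLocal
import Cfsg.Agent.Helper11.StableW

set_option autoImplicit false
universe u

namespace Cfsg.Agent.Helper11

section stableW2
variable {S : Type u} [Group S]

theorem omegaOneCenter_le_omegaCenterThompson [Finite S] {p : ℕ} [hp : Fact p.Prime] :
    Cfsg.omegaOne p (Subgroup.center S) ≤ Cfsg.omegaCenterThompson p S := by
  unfold Cfsg.omegaCenterThompson Cfsg.omegaOne
  rw [Subgroup.closure_le]
  rintro x ⟨hx, hxp⟩
  apply Subgroup.subset_closure
  have hxC : x ∈ Subgroup.centralizer (Cfsg.thompsonSubgroup p S : Set S) := by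
    rw [Subgroup.mem_centralizer_iff]
    intro t _
    exact Subgroup.mem_center_iff.mp hx t
  refine ⟨Subgroup.mem_inf.mpr ⟨?_, hxC⟩, hxp⟩
  have hdvd : orderOf x ∣ p := orderOf_dvd_of_pow_eq_one hxp
  rcases (Nat.dvd_prime hp.out).mp hdvd with h1 | h1
  · rw [orderOf_eq_one_iff] at h1
    rw [h1]; exact Subgroup.one_mem _
  · exact Cfsg.Agent.S0605.result x hxC h1

/-- `Ω₁Z(J(S))` belongs to the defining family of `W(S)`. -/
theorem omegaCenterThompson_mem_stableFamily [Finite S] {p : ℕ} [hp : Fact p.Prime] :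
    Cfsg.omegaCenterThompson p S ∈ stableFamily p S := by
  refine ⟨omegaOneCenter_le_omegaCenterThompson, ?_⟩
  intro H _ τ hτ
  obtain ⟨h1, _, _, _, h5, _⟩ := hτ
  have h := omegaZ_map p τ (Cfsg.thompsonSubgroup p S)
    (fun x _ hx => by
      have : τ x = τ 1 := by rw [map_one]; exact hx
      exact h1 this)
  have hn : (omegaZ p ((Cfsg.thompsonSubgroup p S).map τ)).Normal := by
    haveI := h5
    exact omegaZ_normal p _
  rw [h] at hn
  exact hn

theorem stableNormalClosure_le_omegaCenterThompson [Finite S] {p : ℕ} [hp : Fact p.Prime] :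
    Cfsg.stableNormalClosure p S ≤ Cfsg.omegaCenterThompson p S := by
  rw [stableNormalClosure_eq]
  exact sInf_le omegaCenterThompson_mem_stableFamily

theorem omegaOneCenter_le_stableNormalClosure {p : ℕ} :
    Cfsg.omegaOne p (Subgroup.center S) ≤ Cfsg.stableNormalClosure p S := by
  rw [stableNormalClosure_eq]
  exact le_sInf fun W hW => hW.1

/-- `W(S)` itself belongs to its defining family. -/
theorem stableNormalClosure_mem_stableFamily [Finite S] {p : ℕ} [hp : Fact p.Prime] :
    Cfsg.stableNormalClosure p S ∈ stableFamily p S := by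
  refine ⟨omegaOneCenter_le_stableNormalClosure, ?_⟩
  intro H _ τ hτ
  have hinj : Function.Injective τ := hτ.1
  constructor
  rintro n ⟨w, hw, rfl⟩ g
  -- a preimage through the member Ω₁Z(J(S))
  have h0 := (omegaCenterThompson_mem_stableFamily (S := S) (p := p)).2 H τ hτ
  obtain ⟨w₀, -, hw₀⟩ := h0.conj_mem (τ w)
    ⟨w, stableNormalClosure_le_omegaCenterThompson hw, rfl⟩ g
  have hw2 : w ∈ Cfsg.stableNormalClosure p S := hw
  refine ⟨w₀, ?_, hw₀⟩
  rw [SetLike.mem_coe, stableNormalClosure_eq, Subgroup.mem_sInf]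
  intro W' hW'
  have h1 := hW'.2 H τ hτ
  have hwW' : w ∈ W' := by
    rw [stableNormalClosure_eq, Subgroup.mem_sInf] at hw2
    exact hw2 W' hW'
  obtain ⟨w', hw', hw'eq⟩ := h1.conj_mem (τ w) ⟨w, hwW', rfl⟩ g
  have : w' = w₀ := hinj (hw'eq.trans hw₀.symm)
  rw [← this]; exact hw'

end stableW2

end Cfsg.Agent.Helper11
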