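import Cfsg.Agent.Helper23.SteinX1a

/-!
# (X1d) of board #4262: the longest element in a finite group with the exchange condition
(for helper19's Steinberg character package)

`wl_mul_of_maxR`, `maxR_unique`, `maxL_of_maxR`, `exists_maxR`, `card_maxR`, `card_maxLR`.
-/

set_option autoImplicit false

namespace Cfsg.Agent.Helper11.SteinX1d

open Cfsg.Agent.Helper6 Cfsg.Agent.Helper19.Stein Cfsg.Agent.Helper23.SteinX1a

variable {W ι : Type*} [Group W] {f : ι → W}

/-- subadditivity of the word length -/
theorem wl_mul_le_add (h : ExchData f) (x y : W) : wl f (x * y) ≤ wl f x + wl f y := by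
  obtain ⟨lx, hx, hxlen⟩ := exists_red h.gen x
  obtain ⟨ly, hy, hylen⟩ := exists_red h.gen y
  have := wl_le (f := f) (l := lx ++ ly) (w := x * y) (by rw [wp_append, hx, hy])
  rw [List.length_append, hxlen, hylen] at this
  exact this

/-- the key additivity: for `w` with every generator a right descent and a reduced word `l`,
`ℓ(w · l⁻¹) + |l| = ℓ(w)` -/
theorem wl_mul_inv_wp_of_maxR (h : ExchData f) {w : W} (hw : MaxR f w) :
    ∀ l : List ι, Red f l → wl f (w * (wp f l)⁻¹) + l.length = wl f w := by
  intro l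
  induction l using List.reverseRecOn with
  | nil => intro _; simp
  | append_singleton l' s ih =>
    intro hred
    have hred' : Red f l' := hred.init h
    have ih' := ih hred'
    obtain ⟨m, hm, hmlen⟩ := exists_red h.gen (w * (wp f l')⁻¹)
    have hx : wp f (m ++ l') = w := by rw [wp_append, hm, inv_mul_cancel_right]
    have hredx : Red f (m ++ l') := by
      unfold Red
      rw [hx, List.length_append, hmlen]
      exact ih'.symm
    have hlt : wl f (wp f (m ++ l') * f s) < wl f (wp f (m ++ l')) := by
      rw [hx]; exact hw s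
    obtain ⟨l₁, z, l₂, hsplit, he⟩ := exch_right h s (m ++ l') hredx hlt
    -- the lower bound
    have hlow : wl f w ≤ wl f (w * (wp f (l' ++ [s]))⁻¹) + (l' ++ [s]).length := by
      have h1 := wl_mul_le_add h (w * (wp f (l' ++ [s]))⁻¹) (wp f (l' ++ [s]))
      rw [inv_mul_cancel_right] at h1
      unfold Red at hred
      rw [hred] at h1
      exact h1
    -- the deleted letter cannot lie in `l'`
    have key1 : ∀ a' : List ι, l' = a' ++ z :: l₂ →
        wl f (w * (wp f (l' ++ [s]))⁻¹) + (l' ++ [s]).length = wl f w := by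
      intro a' ha'
      exfalso
      have e : wp f (l' ++ [s]) = wp f (a' ++ l₂) := by
        rw [wp_append, wp_singleton, ha', wp_mul_of_exch_right h he]
      have h4 := wl_le (f := f) (l := a' ++ l₂) (w := wp f (l' ++ [s])) e.symm
      unfold Red at hred
      rw [hred, ha'] at h4
      simp only [List.length_append, List.length_cons, List.length_nil] at h4
      omega
    -- the deleted letter lies in `m`
    have key2 : ∀ c'' : List ι, m = l₁ ++ z :: c'' → l₂ = c'' ++ l' →
        wl f (w * (wp f (l' ++ [s]))⁻¹) + (l' ++ [s]).length = wl f w := by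
      intro c'' hmc hl₂
      have e1 : wp f c'' * wp f l' * f s = f z * (wp f c'' * wp f l') := by
        rw [hl₂, wp_append] at he
        exact he
      have e2 : w * (wp f (l' ++ [s]))⁻¹ = wp f (l₁ ++ c'') := by
        rw [← hx, hmc, wp_append, wp_append, wp_cons, wp_append, wp_singleton, wp_append,
          mul_inv_rev, inv_f h]
        calc wp f l₁ * (f z * wp f c'') * wp f l' * (f s * (wp f l')⁻¹)
            = wp f l₁ * f z * (wp f c'' * wp f l' * f s) * (wp f l')⁻¹ := by group
          _ = wp f l₁ * f z * (f z * (wp f c'' * wp f l')) * (wp f l')⁻¹ := by rw [e1]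
          _ = wp f l₁ * (f z * f z) * wp f c'' := by group
          _ = wp f l₁ * wp f c'' := by rw [h.inv, mul_one]
      have h5 := wl_le (f := f) (l := l₁ ++ c'') (w := w * (wp f (l' ++ [s]))⁻¹) e2.symm
      rw [hmc] at hmlen
      simp only [List.length_append, List.length_cons, List.length_nil] at h5 hmlen hlow ⊢
      omega
    rcases List.append_eq_append_iff.1 hsplit with ⟨a', ha1, ha2⟩ | ⟨c', hc1, hc2⟩
    · exact key1 a' ha2
    · cases c' with
      | nil => exact key1 [] (by simpa using hc2.symm)
      | cons z' c'' =>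
        rw [List.cons_append, List.cons.injEq] at hc2
        obtain ⟨rfl, hc2⟩ := hc2
        exact key2 c'' hc1 hc2

theorem wl_mul_of_maxR (h : ExchData f) {w : W} (hw : MaxR f w) (v : W) :
    wl f (w * v) + wl f v = wl f w := by
  obtain ⟨l, hl, hlen⟩ := exists_red h.gen v⁻¹
  have hred : Red f l := by
    unfold Red
    rw [hl, hlen]
  have := wl_mul_inv_wp_of_maxR h hw l hred
  rw [hl, inv_inv, hlen, wl_inv h] at this
  exact this

/-- every element is at most as long as an element all of whose generators are right descents -/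
theorem wl_le_of_maxR (h : ExchData f) {w : W} (hw : MaxR f w) (u : W) : wl f u ≤ wl f w := by
  have := wl_mul_of_maxR h hw (w⁻¹ * u)
  rw [mul_inv_cancel_left] at this
  omega

theorem maxR_unique (h : ExchData f) {w w' : W} (hw : MaxR f w) (hw' : MaxR f w') : w = w' := by
  have h1 := wl_mul_of_maxR h hw (w⁻¹ * w')
  have h2 := wl_mul_of_maxR h hw' (w'⁻¹ * w)
  rw [mul_inv_cancel_left] at h1 h2
  have h3 : wl f (w⁻¹ * w') = 0 := by omega
  have h4 := eq_one_of_wl_eq_zero h h3
  rw [inv_mul_eq_one] at h4
  exact h4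

theorem maxL_of_maxR (h : ExchData f) {w : W} (hw : MaxR f w) : MaxL f w := by
  intro i
  exact lt_of_le_of_ne (wl_le_of_maxR h hw (f i * w)) (h.ne i w)

theorem exists_maxR [Finite W] (h : ExchData f) : ∃ w, MaxR f w := by
  obtain ⟨w, hmax⟩ := Finite.exists_max (fun w : W => wl f w)
  exact ⟨w, fun i => lt_of_le_of_ne (hmax (w * f i)) (wl_mul_ne h i w)⟩

theorem card_maxR [Finite W] (h : ExchData f) : Nat.card {d : W // MaxR f d} = 1 := by
  rw [Nat.card_eq_one_iff_unique]
  refine ⟨⟨fun a b => Subtype.ext (maxR_unique h a.2 b.2)⟩, ?_⟩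
  obtain ⟨w, hw⟩ := exists_maxR h
  exact ⟨⟨w, hw⟩⟩

theorem card_maxLR [Finite W] (h : ExchData f) :
    Nat.card {d : W // MaxL f d ∧ MaxR f d} = 1 := by
  rw [Nat.card_eq_one_iff_unique]
  refine ⟨⟨fun a b => Subtype.ext (maxR_unique h a.2.2 b.2.2)⟩, ?_⟩
  obtain ⟨w, hw⟩ := exists_maxR h
  exact ⟨⟨w, maxL_of_maxR h hw, hw⟩⟩

end Cfsg.Agent.Helper11.SteinX1d
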