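import Mathlib
import Cfsg.Agent.Helper21.THDefs2
import Cfsg.Agent.Helper21.THMin
import Cfsg.Agent.Helper81.THW7

/-!
# Piece (N2b) of S3797 (helper21): existence of a hyperplane `H` of `X` over `D` with
`C_U(H) ≰ C(X)`.
-/

set_option autoImplicit false

namespace Cfsg.Agent.Helper11.THN2b

open Subgroup Cfsg Cfsg.Agent.Helper21.TH
open scoped commutatorElement

universe u

variable {G : Type u} [Group G]

/-- `N(A) ∩ N(B) ≤ N(A ∩ C(B))`. -/
theorem norm_inf_cent {A B : Subgroup G} {g : G} (hA : g ∈ normalizer (A : Set G))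
    (hB : g ∈ normalizer (B : Set G)) :
    g ∈ normalizer ((A ⊓ centralizer (B : Set G) : Subgroup G) : Set G) := by
  rw [mem_normalizer_iff]
  intro v
  constructor
  · intro hv
    obtain ⟨hvA, hvC⟩ := Subgroup.mem_inf.1 hv
    refine Subgroup.mem_inf.2 ⟨(mem_normalizer_iff.1 hA v).1 hvA, ?_⟩
    rw [mem_centralizer_iff]
    intro b hb
    have hb' : g⁻¹ * b * g ∈ B := by
      apply (mem_normalizer_iff.1 hB (g⁻¹ * b * g)).2
      have e : g * (g⁻¹ * b * g) * g⁻¹ = b := by group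
      rw [e]; exact hb
    have h1 := (mem_centralizer_iff.1 hvC) _ hb'
    calc b * (g * v * g⁻¹) = g * ((g⁻¹ * b * g) * v) * g⁻¹ := by group
      _ = g * (v * (g⁻¹ * b * g)) * g⁻¹ := by rw [h1]
      _ = g * v * g⁻¹ * b := by group
  · intro hv
    obtain ⟨hvA, hvC⟩ := Subgroup.mem_inf.1 hv
    refine Subgroup.mem_inf.2 ⟨(mem_normalizer_iff.1 hA v).2 hvA, ?_⟩
    rw [mem_centralizer_iff]
    intro b hb
    have hb' : g * b * g⁻¹ ∈ B := (mem_normalizer_iff.1 hB b).1 hb
    have h1 := (mem_centralizer_iff.1 hvC) _ hb'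
    calc b * v = g⁻¹ * ((g * b * g⁻¹) * (g * v * g⁻¹)) * g := by group
      _ = g⁻¹ * ((g * v * g⁻¹) * (g * b * g⁻¹)) * g := by rw [h1]
      _ = v * b := by group

variable [Finite G]

set_option maxHeartbeats 800000 in
/-- (N2b) -/
theorem exists_hyp {X D U R : Subgroup G} (h : MCfg X D U R) :
    ∃ H : Subgroup G, IsHyp X D H ∧ ¬ U ⊓ centralizer (H : Set G) ≤ centralizer (X : Set G) := by
  classical
  let F : Set (Subgroup G) :=
    {H | D ≤ H ∧ H ≤ X ∧ ¬ U ⊓ centralizer (H : Set G) ≤ centralizer (X : Set G)}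
  have hDF : D ∈ F := by
    refine ⟨le_rfl, h.D_le, ?_⟩
    intro hle
    apply h.not_le
    rw [le_centralizer_iff]
    intro v hv
    apply hle
    refine Subgroup.mem_inf.2 ⟨hv, ?_⟩
    have : D ≤ centralizer (U : Set G) := h.D_le_cent
    rw [le_centralizer_iff] at this
    exact this hv
  obtain ⟨H, hHF, hmax⟩ := (wellFounded_gt (α := Subgroup G)).has_min F ⟨D, hDF⟩
  obtain ⟨hDH, hHX, hHn⟩ := hHF
  refine ⟨H, ⟨hDH, hHX, ?_⟩, hHn⟩
  by_contra hne2
  -- H ≠ X
  have hHneX : H ≠ X := by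
    rintro rfl
    exact hHn inf_le_right
  obtain ⟨x, hxX, hxH⟩ : ∃ x ∈ X, x ∉ H := by
    by_contra hcon
    apply hHneX
    apply le_antisymm hHX
    intro x hx
    by_contra hxH
    exact hcon ⟨x, hx, hxH⟩
  have hneg := mt relIndex_eq_two_iff_exists_notMem_and'.2 hne2
  obtain ⟨y, hyX, hxyH, hyH⟩ : ∃ y ∈ X, x * y ∉ H ∧ y ∉ H := by
    by_contra hcon
    apply hneg
    refine ⟨x, hxX, hxH, ?_⟩
    intro b hb
    by_contra hor
    apply hcon
    exact ⟨b, hb, fun h1 => hor (Or.inl h1), fun h1 => hor (Or.inr h1)⟩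
  -- X normalizes H
  have hXNH : X ≤ normalizer (H : Set G) := by
    have key : ∀ g ∈ X, ∀ v ∈ H, g * v * g⁻¹ ∈ H := by
      intro g hg v hv
      have hc : ⁅g, v⁆ ∈ D := h.comm_mem hg (hHX hv)
      have e : g * v * g⁻¹ = ⁅g, v⁆ * v := by rw [commutatorElement_def]; group
      rw [e]
      exact H.mul_mem (hDH hc) hv
    intro g hg
    rw [mem_normalizer_iff]
    intro v
    constructor
    · exact key g hg v
    · intro hv
      have := key g⁻¹ (X.inv_mem hg) _ hv
      have e : g⁻¹ * (g * v * g⁻¹) * g⁻¹⁻¹ = v := by group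
      rwa [e] at this
  set UH : Subgroup G := U ⊓ centralizer (H : Set G) with hUH
  have hXNUH : X ≤ normalizer (UH : Set G) := fun g hg =>
    norm_inf_cent (h.hXU hg) (hXNH hg)
  have hUHodd : Odd (Nat.card UH) :=
    Odd.of_dvd_nat h.hUodd (Subgroup.card_dvd_of_le inf_le_left)
  have hDC : D ≤ centralizer (UH : Set G) :=
    le_trans h.D_le_cent (centralizer_le (by
      intro v hv
      exact (Subgroup.mem_inf.1 hv).1))
  have hx2 : x ^ 2 ∈ centralizer (UH : Set G) := hDC (h.sq_mem hxX)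
  have hy2 : y ^ 2 ∈ centralizer (UH : Set G) := hDC (h.sq_mem hyX)
  have hxy : x * y * x⁻¹ * y⁻¹ ∈ centralizer (UH : Set G) := by
    have := h.comm_mem hxX hyX
    rw [commutatorElement_def] at this
    exact hDC this
  have hgen := Cfsg.Agent.Helper81.TH.four_gen UH x y hUHodd (hXNUH hxX) (hXNUH hyX) hx2 hy2 hxy
  -- each piece is inside C(X)
  have hpiece : ∀ z ∈ X, z ∉ H → UH ⊓ centralizer {z} ≤ centralizer (X : Set G) := by
    intro z hzX hzH
    set Hz : Subgroup G := H ⊔ zpowers z with hHz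
    have hlt : H < Hz := by
      refine lt_of_le_of_ne le_sup_left ?_
      intro heq
      apply hzH
      rw [heq]
      exact le_sup_right (α := Subgroup G) (mem_zpowers z)
    have hHzX : Hz ≤ X := sup_le hHX (zpowers_le.2 hzX)
    have hnF : Hz ∉ F := fun hF => hmax Hz hF hlt
    have hle : U ⊓ centralizer (Hz : Set G) ≤ centralizer (X : Set G) := by
      by_contra hcon
      exact hnF ⟨le_trans hDH le_sup_left, hHzX, hcon⟩
    intro v hv
    apply hle
    obtain ⟨hvUH, hvz⟩ := Subgroup.mem_inf.1 hv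
    obtain ⟨hvU, hvH⟩ := Subgroup.mem_inf.1 hvUH
    refine Subgroup.mem_inf.2 ⟨hvU, ?_⟩
    have hsub : Hz ≤ centralizer ({v} : Set G) := by
      apply sup_le
      · intro w hw
        rw [mem_centralizer_singleton_iff]
        exact (mem_centralizer_iff.1 hvH) w hw
      · rw [zpowers_le, mem_centralizer_singleton_iff]
        exact (mem_centralizer_singleton_iff.1 hvz).symm
    rw [mem_centralizer_iff]
    intro w hw
    exact mem_centralizer_singleton_iff.1 (hsub hw)
  apply hHn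
  rw [hgen]
  exact sup_le (sup_le (hpiece x hxX hxH) (hpiece y hyX hyH)) (hpiece (x * y) (X.mul_mem hxX hyX) hxyH)

end Cfsg.Agent.Helper11.THN2b
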