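import Cfsg.Agent.Helper61.TwoPDefs
import Cfsg.Agent.Helper81.PermChar
import Cfsg.Agent.Helper91.AbNormCenter
import Cfsg.Agent.Helper25.InnerBasics
import Cfsg.Agent.Helper79.Linear
import Cfsg.Agent.S0157

/-!
Piece (E3) of board post #6269 (helper61, S4707): if the permutation character `π` of a
primitive group of degree `2p` contains an irreducible character of degree `2p - 1`, then
`π = 1 + χ₁` and the group is doubly transitive.
-/

set_option autoImplicit false
set_option linter.unusedSectionVars false
set_option linter.unusedVariables false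

namespace Cfsg.Agent.Helper11.TwoP

open Cfsg MulAction Cfsg.Agent.Helper66.PD2 Cfsg.Agent.Helper61.TwoP

variable {G : Type*} [Group G] [Fintype G] {α : Type*} [Fintype α] [DecidableEq α] [MulAction G α]
  {p : ℕ} [Fact p.Prime] {P : Sylow p G}

/-- (E3) `π = 1 + χ₁` would make `G` doubly transitive. -/
theorem not_deg_two_p_sub_one (S : Setup G α p P) (χ1 : IrrCharacter G)
    (hf : (χ1 : G → ℂ) 1 = 2 * (p : ℂ) - 1)
    (hn1 : classInner (piFun (G := G) α) (χ1 : G → ℂ) ≠ 0) : False := by
  classical
  have hprim : IsPreprimitive G α := S.prim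
  have htrans : IsPretransitive G α := hprim.toIsPretransitive
  have hcard : Fintype.card α = 2 * p := S.hα
  have hp5 : 5 ≤ p := S.hp5
  have hne : Nonempty α := by
    rw [← Fintype.card_pos_iff, hcard]; omega
  obtain ⟨x⟩ := hne
  have hne' : Nonempty α := ⟨x⟩
  -- π is a character with ⟨π, 1⟩ = 1
  have hπ : IsCharacter G (piFun (G := G) α) := isCharacter_piFun α
  have hπ1 : classInner (piFun (G := G) α) (fun _ : G => (1 : ℂ)) = 1 := by
    rw [piFun_eq_indFun α x]
    exact Helper81.inner_indFun_one_one _
  have hone : IsIrrCharacter G (fun _ : G => (1 : ℂ)) := Helper79.isIrrCharacter_one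
  -- π - 1 is a character
  have h1 : IsCharacter G (piFun (G := G) α - fun _ : G => (1 : ℂ)) :=
    Helper91.AbNormCenter.isCharacter_sub_irr hπ hone (by rw [hπ1]; exact one_ne_zero)
  -- χ1 ≠ 1
  have hχne : (⟨fun _ : G => (1 : ℂ), hone⟩ : IrrCharacter G) ≠ χ1 := by
    intro h
    have h2 : (χ1 : G → ℂ) 1 = 1 := by rw [← h]
    rw [hf] at h2
    have h3 : (2 * (p : ℂ)) = 2 := by linear_combination h2
    have h4 : ((2 * p : ℕ) : ℂ) = ((2 : ℕ) : ℂ) := by push_cast; exact h3
    have h5 : 2 * p = 2 := by exact_mod_cast h4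
    omega
  have hinner : classInner (fun _ : G => (1 : ℂ)) (χ1 : G → ℂ) = 0 := by
    have := Helper74.irr_orthonormal (⟨fun _ : G => (1 : ℂ), hone⟩ : IrrCharacter G) χ1
    rw [if_neg hχne] at this
    exact this
  -- π - 1 - χ1 is a character
  have h2 : IsCharacter G ((piFun (G := G) α - fun _ : G => (1 : ℂ)) - (χ1 : G → ℂ)) := by
    apply Helper91.AbNormCenter.isCharacter_sub_irr h1 χ1.2
    rw [Helper74.classInner_sub_left, hinner, sub_zero]
    exact hn1
  -- of degree zero
  have hdeg : ((piFun (G := G) α - fun _ : G => (1 : ℂ)) - (χ1 : G → ℂ)) 1 = 0 := by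
    simp only [Pi.sub_apply, piFun, fx]
    have hfix : Nat.card (fixedBy α (1 : G)) = 2 * p := by
      rw [← hcard, ← Nat.card_eq_fintype_card]
      apply Nat.card_congr
      refine (Equiv.subtypeUnivEquiv ?_)
      intro a
      simp
    rw [hfix, hf]
    push_cast
    ring
  have hzero := Helper25.isCharacter_eq_zero_of_apply_one h2 hdeg
  -- so `fx - 1 = χ1` is irreducible
  have hirr : IsIrrCharacter G (fun g : G => (Nat.card (MulAction.fixedBy α g) : ℂ) - 1) := by
    have heq : (fun g : G => (Nat.card (MulAction.fixedBy α g) : ℂ) - 1) = (χ1 : G → ℂ) := by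
      funext g
      have := congrFun hzero g
      simp only [Pi.sub_apply, piFun, fx, Pi.zero_apply] at this
      linear_combination this
    rw [heq]
    exact χ1.2
  have h2card : 2 ≤ Nat.card α := by
    rw [Nat.card_eq_fintype_card, hcard]; omega
  exact S.not2 ((Cfsg.Agent.S0157.result α h2card).mp hirr)

end Cfsg.Agent.Helper11.TwoP
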