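import Cfsg.Agent.Helper61.TwoPDefs
import Cfsg.Agent.Helper80.CharLevel

/-!
Piece (F) of board post #6269 (helper61, S4707): a character of a primitive group of degree `2p`
(with the `Setup` hypotheses) that does not take its degree on `p`-singular elements is faithful.
-/

set_option autoImplicit false
set_option linter.unusedSectionVars false
set_option linter.unusedVariables false

namespace Cfsg.Agent.Helper11.TwoP

open Cfsg MulAction Cfsg.Agent.Helper66.PD2 Cfsg.Agent.Helper61.TwoP

variable {G : Type*} [Group G] [Fintype G] {α : Type*} [Fintype α] [DecidableEq α] [MulAction G α]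
  {p : ℕ} [Fact p.Prime] {P : Sylow p G}

/-- (F) a character not taking its degree on `p`-singular elements is faithful. -/
theorem eq_one_of_apply_eq (S : Setup G α p P) {χ : G → ℂ} (hχ : IsCharacter G χ)
    (hs : ∀ g : G, p ∣ orderOf g → χ g ≠ χ 1) (g : G) (hg : χ g = χ 1) : g = 1 := by
  classical
  have hprim : IsPreprimitive G α := S.prim
  have hq : IsQuasiPreprimitive G α := IsPreprimitive.isQuasiPreprimitive
  set K : Subgroup G := Helper80.kerChar χ hχ with hK
  have hKn : K.Normal := Helper80.kerChar_normal χ hχ
  have hgK : g ∈ K := (Helper80.mem_kerChar hχ g).mpr hg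
  by_cases hfix : fixedPoints K α = Set.univ
  · -- `K` acts trivially, hence is trivial
    apply S.faithful g
    intro a
    have ha : a ∈ fixedPoints K α := by rw [hfix]; exact Set.mem_univ a
    exact ha ⟨g, hgK⟩
  · -- `K` is transitive, so `p ∣ |K|`
    exfalso
    have htr : IsPretransitive K α := IsQuasiPreprimitive.isPretransitive_of_normal hfix
    have hne : Nonempty α := by
      rw [← Fintype.card_pos_iff, S.hα]
      have := S.hp5
      omega
    obtain ⟨a⟩ := hne
    have hidx : (stabilizer K a).index = Nat.card α := MulAction.index_stabilizer_of_transitive K a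
    have hdvd : Nat.card α ∣ Nat.card K := by
      rw [← hidx]; exact Subgroup.index_dvd_card _
    have hpdvd : p ∣ Nat.card K := by
      refine Dvd.dvd.trans ?_ hdvd
      rw [Nat.card_eq_fintype_card, S.hα]
      exact Dvd.intro_left 2 rfl
    obtain ⟨k, hk⟩ := exists_prime_orderOf_dvd_card' p hpdvd
    have hk' : orderOf (k : G) = p := by rw [Subgroup.orderOf_coe]; exact hk
    have h1 : χ (k : G) = χ 1 := (Helper80.mem_kerChar hχ (k : G)).mp k.2
    exact hs (k : G) (by rw [hk']) h1

end Cfsg.Agent.Helper11.TwoP
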