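import Mathlib
import Cfsg.Agent.Helper44.U4Defs

/-!
# S6001 piece (BW): the backward direction, assembled from the pieces (DN), (DX3a), (DX3b), (DX5),
(DX7), which are taken as hypotheses in `bw_of` (each in the exact form of the skeleton statement,
specialised to the ambient `F`, `p`, `i`).
-/

set_option autoImplicit false
open scoped MatrixGroups

namespace Cfsg.Agent.Helper11.U4

open Matrix Polynomial Cfsg.Agent.Helper99.P4 Cfsg.Geo Cfsg.Agent.Helper44.U4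

variable {F : Type*} [Field F]

theorem bw_conj_scalar (x g : GL (Fin 4) F) (z : F)
    (h : ((g⁻¹ * x * g : GL (Fin 4) F) : Matrix (Fin 4) (Fin 4) F) = z • 1) :
    (x : Matrix (Fin 4) (Fin 4) F) = z • 1 := by
  have hx : x = g * (g⁻¹ * x * g) * g⁻¹ := by group
  have h2 : (x : Matrix (Fin 4) (Fin 4) F) =
      (g : Matrix (Fin 4) (Fin 4) F) * ((g⁻¹ * x * g : GL (Fin 4) F) : Matrix (Fin 4) (Fin 4) F) *
        ((g⁻¹ : GL (Fin 4) F) : Matrix (Fin 4) (Fin 4) F) := by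
    conv_lhs => rw [hx]
    simp only [Units.val_mul]
  rw [h2, h, Matrix.mul_smul, Matrix.mul_one, Matrix.smul_mul, ← Units.val_mul, mul_inv_cancel,
    Units.val_one]

theorem bw_trace_conj (x g : GL (Fin 4) F) :
    Matrix.trace ((g⁻¹ * x * g : GL (Fin 4) F) : Matrix (Fin 4) (Fin 4) F) =
      Matrix.trace (x : Matrix (Fin 4) (Fin 4) F) := by
  rw [Units.val_mul, Units.val_mul, Matrix.trace_mul_cycle, ← Units.val_mul, mul_inv_cancel,
    Units.val_one, Matrix.one_mul]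

theorem bw_trT_conj (x g : GL (Fin 4) F) : trT (g⁻¹ * x * g) = trT x := by
  unfold trT
  have e : (g⁻¹ * x * g)⁻¹ = g⁻¹ * x⁻¹ * g := by group
  rw [e, bw_trace_conj, bw_trace_conj]

theorem bw_conj_pow (x g : GL (Fin 4) F) (r : ℕ) (hx : x ^ r = 1) : (g⁻¹ * x * g) ^ r = 1 := by
  have e : g⁻¹ * x * g = g⁻¹ * x * (g⁻¹)⁻¹ := by rw [inv_inv]
  rw [e, conj_pow, hx, mul_one, mul_inv_cancel]

theorem bw_orderOf_zmod5 (p : ℕ) (h : p % 5 = 2 ∨ p % 5 = 3) : orderOf (p : ZMod 5) = 4 := by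
  have e : (p : ZMod 5) = ((p % 5 : ℕ) : ZMod 5) := (ZMod.natCast_mod p 5).symm
  rw [e]
  rcases h with h | h <;> rw [h]
  · rw [orderOf_eq_iff (by norm_num)]
    refine ⟨by decide, ?_⟩
    intro m hm hm0
    interval_cases m <;> decide
  · rw [orderOf_eq_iff (by norm_num)]
    refine ⟨by decide, ?_⟩
    intro m hm hm0
    interval_cases m <;> decide

/-- (BW), from the pieces -/
theorem bw_of [Fintype F] {p : ℕ} [Fact p.Prime] [CharP F p]
    (hp4 : p % 4 = 3) {i : F} (hi : i ^ 2 = -1) (r : ℕ) (hr : r.Prime)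
    (hdvd : r ∣ Nat.card (SU4 F p))
    (hDN : ∀ g : GL (Fin 4) F, g ∈ N0 i hi → ∀ r : ℕ, r.Prime → r ≠ 2 →
      (∃ z : F, ((g ^ r : GL (Fin 4) F) : Matrix (Fin 4) (Fin 4) F) = z • 1) →
      (∀ z : F, (g : Matrix (Fin 4) (Fin 4) F) ≠ z • 1) →
      (r = 3 ∧ (trT g = 0 ∨ trT g = 1 ∨ trT g = 4)) ∨ (r = 5 ∧ (trT g = 0 ∨ trT g = 1)))
    (hDX3a : p % 3 = 2 →
      ∃ x ∈ SU4 F p, x ^ 3 = 1 ∧ (∀ z : F, (x : Matrix (Fin 4) (Fin 4) F) ≠ z • 1) ∧ trT x = 7)
    (hDX3b : p = 3 →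
      ∃ x ∈ SU4 F p, x ^ 3 = 1 ∧ (∀ z : F, (x : Matrix (Fin 4) (Fin 4) F) ≠ z • 1) ∧
        ∀ g : GL (Fin 4) F, g⁻¹ * x * g ∉ N0 i hi)
    (hDX5 : (p % 5 = 1 ∨ p % 5 = 4) →
      ∃ x ∈ SU4 F p, x ^ 5 = 1 ∧ (∀ z : F, (x : Matrix (Fin 4) (Fin 4) F) ≠ z • 1) ∧
        trT x ≠ 0 ∧ trT x ≠ 1)
    (hDX7 : ∀ r : ℕ, r.Prime → r ≠ 2 → r ∣ Nat.card (SU4 F p) →
      ∃ x ∈ SU4 F p, x ^ r = 1 ∧ (∀ z : F, (x : Matrix (Fin 4) (Fin 4) F) ≠ z • 1))
    (h : FixProp F p r (N0 i hi)) :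
    r = 2 ∨ (r = 3 ∧ p % 3 = 1) ∨ (r = 5 ∧ orderOf (p : ZMod 5) = 4) := by
  have hp : p.Prime := Fact.out
  by_cases hr2 : r = 2
  · left; exact hr2
  right
  have key : ∀ x ∈ SU4 F p, x ^ r = 1 → (∀ z : F, (x : Matrix (Fin 4) (Fin 4) F) ≠ z • 1) →
      ∃ g : GL (Fin 4) F, g⁻¹ * x * g ∈ N0 i hi ∧
        ((r = 3 ∧ (trT x = 0 ∨ trT x = 1 ∨ trT x = 4)) ∨ (r = 5 ∧ (trT x = 0 ∨ trT x = 1))) := by
    intro x hx hxr hns
    obtain ⟨g, hg, hgN⟩ := h x hx ⟨1, by rw [hxr, Units.val_one, one_smul]⟩ hns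
    refine ⟨g, hgN, ?_⟩
    have h1 := hDN (g⁻¹ * x * g) hgN r hr hr2
      ⟨1, by rw [bw_conj_pow x g r hxr, Units.val_one, one_smul]⟩
      (fun z hz => hns z (bw_conj_scalar x g z hz))
    rwa [bw_trT_conj] at h1
  by_cases hr3 : r = 3
  · left
    refine ⟨hr3, ?_⟩
    have hcases : p % 3 = 0 ∨ p % 3 = 1 ∨ p % 3 = 2 := by omega
    rcases hcases with h0 | h1 | h2'
    · exfalso
      have hp3 : p = 3 := by
        have h3 : 3 ∣ p := Nat.dvd_of_mod_eq_zero h0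
        exact ((Nat.prime_dvd_prime_iff_eq Nat.prime_three hp).mp h3).symm
      obtain ⟨x, hx, hx3, hns, hnot⟩ := hDX3b hp3
      obtain ⟨g, hg, hgN⟩ := h x hx ⟨1, by rw [hr3, hx3, Units.val_one, one_smul]⟩ hns
      exact hnot g hgN
    · exact h1
    · exfalso
      obtain ⟨x, hx, hx3, hns, htr⟩ := hDX3a h2'
      obtain ⟨g, hgN, hc⟩ := key x hx (by rw [hr3]; exact hx3) hns
      rcases hc with ⟨-, h7⟩ | ⟨h35, -⟩
      · rw [htr] at h7
        rcases h7 with h7 | h7 | h7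
        · have h7' : ((7 : ℕ) : F) = 0 := by exact_mod_cast h7
          have hd := (CharP.cast_eq_zero_iff F p 7).mp h7'
          have hp7 : p = 7 := (Nat.prime_dvd_prime_iff_eq hp (by norm_num)).mp hd
          omega
        · have h6' : ((6 : ℕ) : F) = 0 := by
            push_cast
            linear_combination h7
          have hd := (CharP.cast_eq_zero_iff F p 6).mp h6'
          have hd' : p ∣ 2 * 3 := hd
          rcases (Nat.Prime.dvd_mul hp).mp hd' with hd2 | hd3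
          · have : p = 2 := (Nat.prime_dvd_prime_iff_eq hp Nat.prime_two).mp hd2
            omega
          · have : p = 3 := (Nat.prime_dvd_prime_iff_eq hp Nat.prime_three).mp hd3
            omega
        · have h3' : ((3 : ℕ) : F) = 0 := by
            push_cast
            linear_combination h7
          have hd := (CharP.cast_eq_zero_iff F p 3).mp h3'
          have : p = 3 := (Nat.prime_dvd_prime_iff_eq hp Nat.prime_three).mp hd
          omega
      · omega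
  by_cases hr5 : r = 5
  · right
    refine ⟨hr5, ?_⟩
    have hcases : p % 5 = 0 ∨ p % 5 = 1 ∨ p % 5 = 2 ∨ p % 5 = 3 ∨ p % 5 = 4 := by omega
    have hbad : (p % 5 = 1 ∨ p % 5 = 4) → False := by
      intro h14
      obtain ⟨x, hx, hx5, hns, hne0, hne1⟩ := hDX5 h14
      obtain ⟨g, hgN, hc⟩ := key x hx (by rw [hr5]; exact hx5) hns
      rcases hc with ⟨h53, -⟩ | ⟨-, h01⟩
      · omega
      · rcases h01 with h0 | h1
        · exact hne0 h0
        · exact hne1 h1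
    rcases hcases with h0 | h1 | h2' | h3 | h4
    · exfalso
      have h5 : 5 ∣ p := Nat.dvd_of_mod_eq_zero h0
      have hp5 : p = 5 := ((Nat.prime_dvd_prime_iff_eq Nat.prime_five hp).mp h5).symm
      omega
    · exact (hbad (Or.inl h1)).elim
    · exact bw_orderOf_zmod5 p (Or.inl h2')
    · exact bw_orderOf_zmod5 p (Or.inr h3)
    · exact (hbad (Or.inr h4)).elim
  · exfalso
    obtain ⟨x, hx, hxr, hns⟩ := hDX7 r hr hr2 hdvd
    obtain ⟨g, hgN, hc⟩ := key x hx hxr hns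
    rcases hc with ⟨h3, -⟩ | ⟨h5, -⟩
    · exact hr3 h3
    · exact hr5 h5

end Cfsg.Agent.Helper11.U4
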