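import Mathlib
import Cfsg.Agent.Helper44.U4Defs
import Cfsg.Agent.S2677
import Cfsg.Agent.Helper97.P4K2

/-!
# S6001 piece (FW2): the forward direction for `r = 2`, assembled from the pieces (G1a), (G1c),
(K2d), (F2b), (Y2'), (K2u), (GLU), (FWG), which are taken as hypotheses in `fw_two_of` (each in the
exact form of the skeleton statement, specialised to the ambient `F`, `p`, `i`, `bar`).
-/

set_option autoImplicit false
open scoped MatrixGroups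

namespace Cfsg.Agent.Helper11.U4

open Matrix Polynomial Cfsg.Agent.Helper99.P4 Cfsg.Geo Cfsg.Agent.Helper44.U4

variable {F : Type*} [Field F]

/-- (FW2), from the pieces -/
theorem fw_two_of {p : ℕ} (hpp : p.Prime) (hp2 : p ≠ 2) {i : F} (hi : i ^ 2 = -1)
    (bar : F →+* F) (hbar : ∀ x, bar x = x ^ p) (h2 : (2 : F) ≠ 0)
    (hG1a : ∀ z : F, z ^ 4 = 1 → z * bar z = 1)
    (hG1c : ∀ z : F, z ^ 4 = 1 → ∃ μ : F, μ ^ 2 = z)
    (hK2d : ∀ y : Matrix (Fin 4) (Fin 4) F, y * y = 1 → Matrix.trace y = 0 → y.det = 1)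
    (hF2b : ∀ x : GL (Fin 4) F, x ∈ Cfsg.GU 4 F p → ∀ (μ : F) (x' : Matrix (Fin 4) (Fin 4) F),
      (x : Matrix (Fin 4) (Fin 4) F) = μ • x' → x' * x' = 1 →
      (Matrix.trace x' = 2 ∨ Matrix.trace x' = -2) → μ * bar μ = 1)
    (hY2 : ∃ y0 y2 : GL (Fin 4) F, y0 ∈ Cfsg.GU 4 F p ∧ y0 ∈ N0 i hi ∧ y0 ^ 2 = 1 ∧
      Matrix.trace (y0 : Matrix (Fin 4) (Fin 4) F) = 0 ∧
      (y0 : Matrix (Fin 4) (Fin 4) F) ≠ 1 ∧ (y0 : Matrix (Fin 4) (Fin 4) F) ≠ -1 ∧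
      y2 ∈ Cfsg.GU 4 F p ∧ y2 ∈ N0 i hi ∧ y2 ^ 2 = 1 ∧
      Matrix.trace (y2 : Matrix (Fin 4) (Fin 4) F) = 2 ∧
      (y2 : Matrix (Fin 4) (Fin 4) F) ≠ 1 ∧ (y2 : Matrix (Fin 4) (Fin 4) F) ≠ -1)
    (hK2u : ∀ y z : Matrix (Fin 4) (Fin 4) F, y * y = 1 → z * z = 1 → y ≠ 1 → y ≠ -1 → z ≠ 1 →
      z ≠ -1 → Matrix.trace y = Matrix.trace z → y.charpoly = z.charpoly)
    (hGLU : ∀ a b : GL (Fin 4) F, a ∈ Cfsg.GU 4 F p → b ∈ Cfsg.GU 4 F p → ∀ k : ℕ, (k : F) ≠ 0 →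
      a ^ k = 1 → b ^ k = 1 →
      (a : Matrix (Fin 4) (Fin 4) F).charpoly = (b : Matrix (Fin 4) (Fin 4) F).charpoly →
      ∃ u ∈ Cfsg.GU 4 F p, u⁻¹ * a * u = b)
    (hFWG : ∀ x s y u : GL (Fin 4) F, x ∈ SU4 F p → ∀ c : F,
      (s : Matrix (Fin 4) (Fin 4) F) = c • 1 → s ∈ Cfsg.GU 4 F p → u ∈ Cfsg.GU 4 F p →
      y ∈ N0 i hi → u⁻¹ * (s * x) * u = y → ∀ k : ℕ, k.Coprime p → (s * x) ^ k = 1 →
      ∃ g ∈ SU4 F p, g⁻¹ * x * g ∈ N0 i hi) :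
    FixProp F p 2 (N0 i hi) := by
  intro x hx hz hns
  obtain ⟨z, hz⟩ := hz
  have hdet : (x : Matrix (Fin 4) (Fin 4) F).det = 1 := by
    have h1 : Matrix.GeneralLinearGroup.det x = 1 := hx.2
    have h3 := congrArg (fun u : Fˣ => (u : F)) h1
    simpa using h3
  have hz4 : z ^ 4 = 1 := by
    have h1 : ((x ^ 2 : GL (Fin 4) F) : Matrix (Fin 4) (Fin 4) F).det = 1 := by
      rw [Units.val_pow_eq_pow_val, Matrix.det_pow, hdet, one_pow]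
    rw [hz, Matrix.det_smul, Matrix.det_one, mul_one, Fintype.card_fin] at h1
    exact h1
  have hz0 : z ≠ 0 := by
    rintro rfl
    rw [zero_pow (by norm_num)] at hz4
    exact zero_ne_one hz4
  obtain ⟨μ, hμ⟩ := hG1c z hz4
  have hne0 : ∀ ν : F, ν ^ 2 = z → ν ≠ 0 := by
    rintro ν hν rfl
    apply hz0
    rw [← hν, zero_pow (by norm_num)]
  have hxx : (x : Matrix (Fin 4) (Fin 4) F) * (x : Matrix (Fin 4) (Fin 4) F) = z • 1 := by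
    rw [← hz, Units.val_pow_eq_pow_val, pow_two]
  have hinv : ∀ ν : F, ν ^ 2 = z → (ν⁻¹ • (x : Matrix (Fin 4) (Fin 4) F)) *
      (ν⁻¹ • (x : Matrix (Fin 4) (Fin 4) F)) = 1 := by
    intro ν hν
    have hν0 := hne0 ν hν
    rw [Matrix.smul_mul, Matrix.mul_smul, smul_smul, hxx, smul_smul]
    have h1 : ν⁻¹ * ν⁻¹ * z = 1 := by
      rw [← hν]
      field_simp
    rw [h1, one_smul]
  have hback : ∀ ν : F, ν ≠ 0 → (x : Matrix (Fin 4) (Fin 4) F) =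
      ν • (ν⁻¹ • (x : Matrix (Fin 4) (Fin 4) F)) := by
    intro ν hν0
    rw [smul_smul, mul_inv_cancel₀ hν0, one_smul]
  have hμ0 := hne0 μ hμ
  obtain ⟨ν, hν, htr⟩ : ∃ ν : F, ν ^ 2 = z ∧
      (Matrix.trace (ν⁻¹ • (x : Matrix (Fin 4) (Fin 4) F)) = 0 ∨
        Matrix.trace (ν⁻¹ • (x : Matrix (Fin 4) (Fin 4) F)) = 2) := by
    rcases Cfsg.Agent.Helper97.P4.invol_trace h2 _ (hinv μ hμ) with ⟨-, h1⟩ | h | h | h | ⟨-, h1⟩
    · exfalso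
      apply hns μ
      rw [hback μ hμ0, h1]
    · exact ⟨μ, hμ, Or.inr h⟩
    · exact ⟨μ, hμ, Or.inl h⟩
    · refine ⟨-μ, by rw [neg_sq]; exact hμ, Or.inr ?_⟩
      rw [inv_neg, neg_smul, Matrix.trace_neg, h, neg_neg]
    · exfalso
      apply hns (-μ)
      rw [hback μ hμ0, h1, smul_neg, neg_smul]
  have hν0 := hne0 ν hν
  set x' : Matrix (Fin 4) (Fin 4) F := ν⁻¹ • (x : Matrix (Fin 4) (Fin 4) F) with hx'
  have hx'x' : x' * x' = 1 := hinv ν hν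
  have hxν : (x : Matrix (Fin 4) (Fin 4) F) = ν • x' := hback ν hν0
  have hx'1 : x' ≠ 1 := by
    intro h
    apply hns ν
    rw [hxν, h]
  have hx'2 : x' ≠ -1 := by
    intro h
    apply hns (-ν)
    rw [hxν, h, smul_neg, neg_smul]
  have hνU : ν * bar ν = 1 := by
    rcases htr with h0 | h2'
    · have hd := hK2d x' hx'x' h0
      rw [hx', Matrix.det_smul, hdet, mul_one, Fintype.card_fin, inv_pow] at hd
      exact hG1a ν (inv_eq_one.mp hd)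
    · exact hF2b x hx.1 ν x' hxν hx'x' (Or.inl h2')
  set νu : Fˣ := Units.mk0 ν hν0 with hνu
  have hνpow : ((νu⁻¹ : Fˣ) : F) ^ (p + 1) = 1 := by
    rw [Units.val_inv_eq_inv_val, hνu, Units.val_mk0, inv_pow, pow_succ', ← hbar, hνU, inv_one]
  set s : GL (Fin 4) F := Matrix.GeneralLinearGroup.scalar (Fin 4) νu⁻¹ with hs
  have hsU : s ∈ Cfsg.GU 4 F p := Cfsg.Agent.S2677.scalar_mem_GU bar hbar νu⁻¹ hνpow
  have hsx : ((s * x : GL (Fin 4) F) : Matrix (Fin 4) (Fin 4) F) = x' := by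
    rw [hs, Cfsg.Agent.S2677.scalar_coe_mul, Units.val_inv_eq_inv_val, hνu, Units.val_mk0]
  have hsc : (s : Matrix (Fin 4) (Fin 4) F) = ν⁻¹ • 1 := by
    have h1 := Cfsg.Agent.S2677.scalar_coe_mul νu⁻¹ (1 : GL (Fin 4) F)
    rw [mul_one, Units.val_one, Units.val_inv_eq_inv_val, hνu, Units.val_mk0] at h1
    exact h1
  have hsx2 : (s * x) ^ 2 = 1 := by
    apply Units.ext
    rw [Units.val_pow_eq_pow_val, hsx, pow_two, hx'x', Units.val_one]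
  have hsxU : s * x ∈ Cfsg.GU 4 F p := mul_mem hsU hx.1
  obtain ⟨y0, y2, hy0U, hy0N, hy0sq, hy0tr, hy01, hy02, hy2U, hy2N, hy2sq, hy2tr, hy21, hy22⟩ := hY2
  obtain ⟨y, hyU, hyN, hysq, hytr, hy1, hy2'⟩ : ∃ y : GL (Fin 4) F, y ∈ Cfsg.GU 4 F p ∧
      y ∈ N0 i hi ∧ y ^ 2 = 1 ∧ Matrix.trace (y : Matrix (Fin 4) (Fin 4) F) = Matrix.trace x' ∧
      (y : Matrix (Fin 4) (Fin 4) F) ≠ 1 ∧ (y : Matrix (Fin 4) (Fin 4) F) ≠ -1 := by
    rcases htr with h0 | h2'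
    · exact ⟨y0, hy0U, hy0N, hy0sq, by rw [hy0tr, h0], hy01, hy02⟩
    · exact ⟨y2, hy2U, hy2N, hy2sq, by rw [hy2tr, h2'], hy21, hy22⟩
  have hyy : (y : Matrix (Fin 4) (Fin 4) F) * (y : Matrix (Fin 4) (Fin 4) F) = 1 := by
    rw [← pow_two, ← Units.val_pow_eq_pow_val, hysq, Units.val_one]
  have hcp : ((s * x : GL (Fin 4) F) : Matrix (Fin 4) (Fin 4) F).charpoly =
      (y : Matrix (Fin 4) (Fin 4) F).charpoly := by
    rw [hsx]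
    exact hK2u x' (y : Matrix (Fin 4) (Fin 4) F) hx'x' hyy hx'1 hx'2 hy1 hy2' hytr.symm
  have h2F : ((2 : ℕ) : F) ≠ 0 := by exact_mod_cast h2
  obtain ⟨u, huU, huy⟩ := hGLU (s * x) y hsxU hyU 2 h2F hsx2 hysq hcp
  have hcop : Nat.Coprime 2 p := by
    rw [Nat.coprime_primes Nat.prime_two hpp]
    exact fun h => hp2 h.symm
  exact hFWG x s y u hx ν⁻¹ hsc hsU huU hyN huy 2 hcop hsx2

end Cfsg.Agent.Helper11.U4
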