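import Mathlib
import Cfsg.Agent.Helper99.UNdDefs
import Cfsg.Agent.Helper45.GUBasic
set_option autoImplicit false

/-!
Pieces (D1), (D2), (D3) of board post #7815 (helper99, S5954): determinants and characteristic polynomials.
-/

namespace Cfsg.Agent.Helper11.UNdD

open Matrix Polynomial
open Cfsg.Agent.Helper99.UNd
open Cfsg.Agent.Helper43.GUPrime (utilde)

variable {F : Type*} [Field F]

/-- (D1) the determinant of a unitary matrix has norm one -/
theorem det_norm_of_isUM [Fintype F] {q n : ℕ} (hF : Fintype.card F = q ^ 2)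
    {A : Matrix (Fin n) (Fin n) F} (hA : IsUM n q A) : A.det ^ (q + 1) = 1 := by
  obtain ⟨bar, hbar⟩ := Cfsg.Agent.Helper45.GU.exists_bar hF
  have h := Cfsg.Agent.Helper45.GU.det_mul_bar_det bar A (by
    intro u v
    rw [← Cfsg.Agent.Helper45.GU.hermForm_eq n bar hbar, ← Cfsg.Agent.Helper45.GU.hermForm_eq n bar hbar]
    exact hA u v)
  rw [hbar] at h
  rw [pow_succ']
  exact h

/-- (D2) the determinant from the characteristic polynomial -/
theorem det_eq_of_charpoly {n : ℕ} (A : Matrix (Fin n) (Fin n) F) :
    A.det = (-1) ^ n * A.charpoly.coeff 0 := by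
  have h := Matrix.det_eq_sign_charpoly_coeff A
  rw [Fintype.card_fin] at h
  exact h

/-- (D3) the characteristic polynomial of a scalar matrix -/
theorem charpoly_scalar {n : ℕ} (a : F) :
    (a • (1 : Matrix (Fin n) (Fin n) F)).charpoly = (X - C a) ^ n := by
  rw [Matrix.smul_one_eq_diagonal, Matrix.charpoly_diagonal, Finset.prod_const, Finset.card_univ,
    Fintype.card_fin]

end Cfsg.Agent.Helper11.UNdD
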