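import Mathlib
import Cfsg.Agent.Helper99.UNdDefs
import Cfsg.Agent.Helper45.GUBasic
set_option autoImplicit false

/-!
Piece (G6) of board post #7815 (helper99, S5954): the characteristic polynomial of a unitary matrix is
`utilde`-invariant.  Also the matrix form of `IsUM` used by the other pieces.
-/

namespace Cfsg.Agent.Helper11.UNdG6

open Matrix Polynomial
open Cfsg.Agent.Helper99.UNd
open Cfsg.Agent.Helper43.GUPrime (utilde)

variable {F : Type*} [Field F]

/-- matrix form of `IsUM` -/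
theorem transpose_mul_map_of_isUM {q : ℕ} (bar : F →+* F) (hbar : ∀ x, bar x = x ^ q) {n : ℕ}
    {A : Matrix (Fin n) (Fin n) F} (hA : IsUM n q A) : Aᵀ * A.map bar = 1 := by
  apply Cfsg.Agent.Helper45.GU.unitary_of_herm bar A
  intro u v
  rw [← Cfsg.Agent.Helper45.GU.hermForm_eq n bar hbar, ← Cfsg.Agent.Helper45.GU.hermForm_eq n bar hbar]
  exact hA u v

theorem bar_bar [Fintype F] {q : ℕ} (hF : Fintype.card F = q ^ 2) (bar : F →+* F)
    (hbar : ∀ x, bar x = x ^ q) (a : F) : bar (bar a) = a := by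
  rw [hbar, hbar, ← pow_mul, ← pow_two, ← hF]
  exact FiniteField.pow_card a

/-- the other matrix form of `IsUM` -/
theorem map_transpose_mul_of_isUM [Fintype F] {q : ℕ} (hF : Fintype.card F = q ^ 2) (bar : F →+* F)
    (hbar : ∀ x, bar x = x ^ q) {n : ℕ} {A : Matrix (Fin n) (Fin n) F} (hA : IsUM n q A) :
    (A.map bar)ᵀ * A = 1 := by
  have h := congrArg (fun M : Matrix (Fin n) (Fin n) F => M.map bar)
    (transpose_mul_map_of_isUM bar hbar hA)
  simp only [Matrix.map_mul, Matrix.map_one _ (map_zero bar) (map_one bar)] at h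
  rw [Matrix.transpose_map] at h
  have h3 : (A.map bar).map bar = A := by
    ext i j
    simp only [Matrix.map_apply]
    exact bar_bar hF bar hbar _
  rw [h3] at h
  exact h

/-- a unitary matrix as an element of `GL` -/
theorem exists_GL_of_isUM' [Fintype F] {q : ℕ} (hF : Fintype.card F = q ^ 2) (bar : F →+* F)
    (hbar : ∀ x, bar x = x ^ q) {n : ℕ} {A : Matrix (Fin n) (Fin n) F} (hA : IsUM n q A) :
    ∃ g : GL (Fin n) F, (g : Matrix (Fin n) (Fin n) F) = A := by
  have h := map_transpose_mul_of_isUM hF bar hbar hA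
  exact ⟨⟨A, (A.map bar)ᵀ, mul_eq_one_comm.mp h, h⟩, rfl⟩

/-- (G6) the characteristic polynomial of a unitary matrix is `utilde`-invariant -/
theorem utilde_charpoly_of_isUM [Fintype F] {q : ℕ} (hF : Fintype.card F = q ^ 2)
    (bar : F →+* F) (hbar : ∀ x, bar x = x ^ q) {n : ℕ} {A : Matrix (Fin n) (Fin n) F}
    (hA : IsUM n q A) : utilde bar A.charpoly = A.charpoly := by
  obtain ⟨g, hg⟩ := exists_GL_of_isUM' hF bar hbar hA
  have h := map_transpose_mul_of_isUM hF bar hbar hA
  rw [← hg] at h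
  have h2 := Cfsg.Agent.Helper43.GUPrime.charpoly_st_inv bar g (g : Matrix (Fin n) (Fin n) F) h
  rw [hg] at h2
  exact h2.symm

end Cfsg.Agent.Helper11.UNdG6
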