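import Mathlib
import Cfsg.Agent.Helper99.UNdDefs
import Cfsg.Agent.Helper11.UNdG6
set_option autoImplicit false

/-!
Pieces (R0)-(R3) of board post #7815 (helper99, S5954): basic facts about unitary matrices and scalars.
-/

namespace Cfsg.Agent.Helper11.UNdR

open Matrix Polynomial
open Cfsg.Agent.Helper99.UNd
open Cfsg.Agent.Helper43.GUPrime (utilde)

variable {F : Type*} [Field F]

/-- (R0) unitary matrices are invertible -/
theorem exists_GL_of_isUM [Fintype F] {q n : ℕ} (hF : Fintype.card F = q ^ 2)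
    {A : Matrix (Fin n) (Fin n) F} (hA : IsUM n q A) :
    ∃ g : GL (Fin n) F, (g : Matrix (Fin n) (Fin n) F) = A := by
  obtain ⟨bar, hbar⟩ := Cfsg.Agent.Helper45.GU.exists_bar hF
  exact Cfsg.Agent.Helper11.UNdG6.exists_GL_of_isUM' hF bar hbar hA

theorem hermForm_smul_smul {q n : ℕ} (c : F) (x y : Fin n → F) :
    Cfsg.hermForm n F q (c • x) (c • y) = c ^ (q + 1) * Cfsg.hermForm n F q x y := by
  simp only [Cfsg.hermForm, Pi.smul_apply, smul_eq_mul, mul_pow, Finset.mul_sum]
  refine Finset.sum_congr rfl fun i _ => ?_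
  ring

theorem smul_mulVec' {n : ℕ} (c : F) (A : Matrix (Fin n) (Fin n) F) (u : Fin n → F) :
    (c • A) *ᵥ u = c • (A *ᵥ u) := by
  ext i
  simp only [Matrix.mulVec, dotProduct, Matrix.smul_apply, Pi.smul_apply, smul_eq_mul, Finset.mul_sum,
    mul_assoc]

/-- (R1) a unitary scalar has norm one -/
theorem norm_of_scalar_isUM {q n : ℕ} (hn : 1 ≤ n) (z : F)
    (h : IsUM n q (z • (1 : Matrix (Fin n) (Fin n) F))) : z ^ (q + 1) = 1 := by
  have h1 := h (Pi.single ⟨0, hn⟩ 1) (Pi.single ⟨0, hn⟩ 1)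
  rw [smul_mulVec', Matrix.one_mulVec, hermForm_smul_smul] at h1
  have h2 : Cfsg.hermForm n F q (Pi.single (⟨0, hn⟩ : Fin n) (1 : F)) (Pi.single ⟨0, hn⟩ 1) = 1 := by
    unfold Cfsg.hermForm
    rw [Finset.sum_eq_single (⟨0, hn⟩ : Fin n)]
    · simp
    · intro b _ hb
      rw [Pi.single_eq_of_ne hb, zero_mul]
    · intro hb
      exact absurd (Finset.mem_univ _) hb
  rw [h2, mul_one] at h1
  exact h1

/-- (R2) scaling does not change the invariant subspaces -/
theorem fixesNd_smul_iff {q n m : ℕ} (c : F) (hc : c ≠ 0) (A : Matrix (Fin n) (Fin n) F) :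
    FixesNd n q m (c • A) ↔ FixesNd n q m A := by
  have key : ∀ W : Submodule F (Fin n → F),
      W.map (Matrix.toLin' (c • A)) ≤ W ↔ W.map (Matrix.toLin' A) ≤ W := by
    intro W
    rw [Submodule.map_le_iff_le_comap, Submodule.map_le_iff_le_comap]
    constructor
    · intro h w hw
      have h1 := h hw
      rw [Submodule.mem_comap, Matrix.toLin'_apply, smul_mulVec'] at h1
      rw [Submodule.mem_comap, Matrix.toLin'_apply]
      exact (W.smul_mem_iff hc).mp h1
    · intro h w hw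
      have h1 := h hw
      rw [Submodule.mem_comap, Matrix.toLin'_apply] at h1
      rw [Submodule.mem_comap, Matrix.toLin'_apply, smul_mulVec']
      exact W.smul_mem c h1
  constructor
  · rintro ⟨W, hW1, hW2, hW3⟩
    exact ⟨W, hW1, hW2, (key W).mp hW3⟩
  · rintro ⟨W, hW1, hW2, hW3⟩
    exact ⟨W, hW1, hW2, (key W).mpr hW3⟩

/-- (R3) a norm-one multiple of a unitary matrix is unitary -/
theorem isUM_smul {q n : ℕ} (c : F) (hc : c ^ (q + 1) = 1) {A : Matrix (Fin n) (Fin n) F}
    (hA : IsUM n q A) : IsUM n q (c • A) := by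
  intro u v
  rw [smul_mulVec', smul_mulVec', hermForm_smul_smul, hc, one_mul]
  exact hA u v

end Cfsg.Agent.Helper11.UNdR
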