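import Mathlib
import Cfsg.Agent.Helper13.USubDefs
import Cfsg.Agent.Helper43.GUPrimeB
import Cfsg.Agent.S2677
set_option autoImplicit false

/-!
Piece (UK2b) of board post #7436 (helper13, S5982): the characteristic polynomial of an isometry of the standard
hermitian form is fixed by the twisted reciprocal `utilde`.
-/

namespace Cfsg.Agent.Helper11.USubUK2b

open Matrix Polynomial Cfsg Cfsg.Geo
open Cfsg.Agent.Helper43.GUPrime (utilde)

variable {F : Type*} [Field F] {n : ℕ}

/-- (UK2b) the characteristic polynomial of an isometry is fixed by `utilde` -/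
theorem utilde_charpoly_of_mem_GU [Fintype F] (q₀ : ℕ) (hF : Fintype.card F = q₀ ^ 2)
    (bar : F →+* F) (hbar : ∀ a, bar a = a ^ q₀) (u : GL (Fin n) F) (hu : u ∈ Cfsg.GU n F q₀) :
    utilde bar (u : Matrix (Fin n) (Fin n) F).charpoly =
      (u : Matrix (Fin n) (Fin n) F).charpoly := by
  have h1 : ((u : Matrix (Fin n) (Fin n) F))ᵀ * (u : Matrix (Fin n) (Fin n) F).map bar = 1 :=
    (Cfsg.Agent.S2677.mem_GU_iff_matrix n bar hbar u).mp hu
  have hbb : ∀ a : F, bar (bar a) = a := by
    intro a
    rw [hbar, hbar, ← pow_mul, ← pow_two, ← hF]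
    exact FiniteField.pow_card a
  have h2 : ((u : Matrix (Fin n) (Fin n) F).map bar)ᵀ * (u : Matrix (Fin n) (Fin n) F) = 1 := by
    have h := congrArg (fun M : Matrix (Fin n) (Fin n) F => M.map bar) h1
    simp only [Matrix.map_mul, Matrix.map_one _ (map_zero bar) (map_one bar)] at h
    rw [Matrix.transpose_map] at h
    have h3 : ((u : Matrix (Fin n) (Fin n) F).map bar).map bar = (u : Matrix (Fin n) (Fin n) F) := by
      ext i j
      simp only [Matrix.map_apply]
      exact hbb _
    rw [h3] at h
    exact h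
  exact (Cfsg.Agent.Helper43.GUPrime.charpoly_st_inv bar u (u : Matrix (Fin n) (Fin n) F) h2).symm

end Cfsg.Agent.Helper11.USubUK2b
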