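import Cfsg.Agent.Helper11.Uniserial

set_option autoImplicit false

namespace Cfsg.Agent.Helper11

open scoped commutatorElement

section uniserial2
variable {L : Type*} [Group L]

/-- Basic facts on the chain `K_i = [N, G, …, G]`. -/
theorem iter_facts [Finite L] {N G : Subgroup L} (hGN : G ≤ Subgroup.normalizer (N : Set L)) :
    ∀ i, Cfsg.iterCommutator N G i ≤ N ∧
      G ≤ Subgroup.normalizer ((Cfsg.iterCommutator N G i : Subgroup L) : Set L) ∧
      Cfsg.iterCommutator N G (i + 1) ≤ Cfsg.iterCommutator N G i := by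
  intro i
  induction i with
  | zero =>
    exact ⟨le_refl _, hGN, commutator_le_of_le_normalizer hGN⟩
  | succ i ih =>
    obtain ⟨h1, h2, h3⟩ := ih
    have h4 : G ≤ Subgroup.normalizer ((Cfsg.iterCommutator N G (i + 1) : Subgroup L) : Set L) :=
      le_normalizer_commutator h2
    exact ⟨h3.trans h1, h4, commutator_le_of_le_normalizer h4⟩

theorem iter_antitone [Finite L] {N G : Subgroup L} (hGN : G ≤ Subgroup.normalizer (N : Set L)) :
    Antitone (Cfsg.iterCommutator N G) :=
  antitone_nat_of_succ_le fun i => (iter_facts hGN i).2.2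

/-- A proper subgroup of a finite `p`-group has order at most `1/p` of it. -/
theorem card_mul_le_of_lt [Finite L] {p : ℕ} [hp : Fact p.Prime] {A B : Subgroup L} (hB : IsPGroup p B)
    (hlt : A < B) : Nat.card A * p ≤ Nat.card B := by
  obtain ⟨b, hb⟩ := IsPGroup.iff_card.mp hB
  have hdvd : Nat.card A ∣ Nat.card B := Subgroup.card_dvd_of_le hlt.le
  rw [hb] at hdvd
  obtain ⟨a, hab, ha⟩ := (Nat.dvd_prime_pow hp.out).mp hdvd
  have hne : a ≠ b := by
    intro h
    have h1 : Nat.card B ≤ Nat.card A := by rw [hb, ha, h]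
    exact hlt.ne (Subgroup.eq_of_le_of_card_ge hlt.le h1)
  have hlt' : a + 1 ≤ b := by omega
  rw [ha, hb, ← pow_succ]
  exact Nat.pow_le_pow_right hp.out.pos hlt'

theorem iter_card_step [Finite L] {p : ℕ} [hp : Fact p.Prime] {N G : Subgroup L} (hN : IsPGroup p N)
    (hG : IsPGroup p G) (hGN : G ≤ Subgroup.normalizer (N : Set L)) (i : ℕ)
    (hne : Cfsg.iterCommutator N G i ≠ ⊥) :
    Nat.card (Cfsg.iterCommutator N G (i + 1)) * p ≤ Nat.card (Cfsg.iterCommutator N G i) := by
  obtain ⟨h1, h2, h3⟩ := iter_facts hGN i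
  have hK : IsPGroup p (Cfsg.iterCommutator N G i) := hN.to_le h1
  apply card_mul_le_of_lt hK
  apply lt_of_le_of_ne h3
  exact commutator_ne_self hK hG h2 hne

theorem iter_eq_bot_succ {N G : Subgroup L} (i : ℕ) (h : Cfsg.iterCommutator N G i = ⊥) :
    Cfsg.iterCommutator N G (i + 1) = ⊥ := by
  rw [iterCommutator_succ, h]
  exact Subgroup.commutator_bot_left G

theorem iter_card_le [Finite L] {p : ℕ} [hp : Fact p.Prime] {N G : Subgroup L} (hN : IsPGroup p N)
    (hG : IsPGroup p G) (hGN : G ≤ Subgroup.normalizer (N : Set L)) {n : ℕ} (hn : Nat.card N = p ^ n) :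
    ∀ i, i ≤ n → Nat.card (Cfsg.iterCommutator N G i) ≤ p ^ (n - i) := by
  intro i
  induction i with
  | zero => intro _; rw [iterCommutator_zero, hn, Nat.sub_zero]
  | succ i ih =>
    intro hi
    by_cases hbot : Cfsg.iterCommutator N G i = ⊥
    · rw [iter_eq_bot_succ i hbot, Subgroup.card_bot]
      exact Nat.one_le_pow _ _ hp.out.pos
    · have h1 := iter_card_step hN hG hGN i hbot
      have h2 := ih (by omega)
      have h3 : n - i = (n - (i + 1)) + 1 := by omega
      rw [h3, pow_succ] at h2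
      exact Nat.le_of_mul_le_mul_right (h1.trans h2) hp.out.pos

theorem iter_card_ge [Finite L] {p : ℕ} [hp : Fact p.Prime] {N G : Subgroup L} (hN : IsPGroup p N)
    (hG : IsPGroup p G) (hGN : G ≤ Subgroup.normalizer (N : Set L)) :
    ∀ k i, Cfsg.iterCommutator N G (i + k) ≠ ⊥ →
      Nat.card (Cfsg.iterCommutator N G (i + k)) * p ^ k ≤ Nat.card (Cfsg.iterCommutator N G i) := by
  intro k
  induction k with
  | zero => intro i _; simp
  | succ k ih =>
    intro i hne
    have hne' : Cfsg.iterCommutator N G (i + k) ≠ ⊥ := by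
      intro h
      exact hne (iter_eq_bot_succ (i + k) h)
    have h1 := iter_card_step hN hG hGN (i + k) hne'
    have h2 := ih i hne'
    calc Nat.card (Cfsg.iterCommutator N G (i + (k + 1))) * p ^ (k + 1)
        = (Nat.card (Cfsg.iterCommutator N G (i + k + 1)) * p) * p ^ k := by
          rw [pow_succ]; ring_nf
      _ ≤ Nat.card (Cfsg.iterCommutator N G (i + k)) * p ^ k := Nat.mul_le_mul_right _ h1
      _ ≤ _ := h2

/-- Chain condition: if `K_{n-1} ≠ 1` then `|K_i| = p^(n-i)` for all `i ≤ n`. -/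
theorem iter_card_eq [Finite L] {p : ℕ} [hp : Fact p.Prime] {N G : Subgroup L} (hN : IsPGroup p N)
    (hG : IsPGroup p G) (hGN : G ≤ Subgroup.normalizer (N : Set L)) {n : ℕ} (hn : Nat.card N = p ^ n)
    (hne : Cfsg.iterCommutator N G (n - 1) ≠ ⊥) :
    ∀ i, i ≤ n → Nat.card (Cfsg.iterCommutator N G i) = p ^ (n - i) := by
  intro i hi
  apply le_antisymm (iter_card_le hN hG hGN hn i hi)
  by_cases hin : i = n
  · rw [hin, Nat.sub_self, pow_zero]
    exact Nat.card_pos
  · have hi' : i + (n - 1 - i) = n - 1 := by omega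
    have h1 := iter_card_ge hN hG hGN (n - 1 - i) i (by rw [hi']; exact hne)
    rw [hi'] at h1
    have hK : IsPGroup p (Cfsg.iterCommutator N G (n - 1)) := hN.to_le (iter_facts hGN (n - 1)).1
    obtain ⟨a, ha⟩ := IsPGroup.iff_card.mp hK
    have ha0 : a ≠ 0 := by
      intro h0
      rw [h0, pow_zero] at ha
      exact hne (Subgroup.card_eq_one.mp ha)
    have h2 : p ≤ Nat.card (Cfsg.iterCommutator N G (n - 1)) := by
      rw [ha]
      calc p = p ^ 1 := (pow_one p).symm
        _ ≤ p ^ a := Nat.pow_le_pow_right hp.out.pos (by omega)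
    have h3 : n - i = (n - 1 - i) + 1 := by omega
    calc p ^ (n - i) = p * p ^ (n - 1 - i) := by rw [h3, pow_succ]; ring
      _ ≤ Nat.card (Cfsg.iterCommutator N G (n - 1)) * p ^ (n - 1 - i) := Nat.mul_le_mul_right _ h2
      _ ≤ _ := h1

end uniserial2

end Cfsg.Agent.Helper11
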