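import Cfsg.Agent.Helper11.Uniserial2

set_option autoImplicit false

namespace Cfsg.Agent.Helper11

open scoped commutatorElement

section uniserial3
variable {L : Type*} [Group L]

/-- Under the chain condition, the chain for `G` coincides with the chain for `N ⊔ G`. -/
theorem iter_eq_iter_sup [Finite L] {p : ℕ} [hp : Fact p.Prime] {N G : Subgroup L} (hN : IsPGroup p N)
    (hG : IsPGroup p G) (hGN : G ≤ Subgroup.normalizer (N : Set L)) {n : ℕ} (hn : Nat.card N = p ^ n)
    (hcard : ∀ i, i ≤ n → Nat.card (Cfsg.iterCommutator N G i) = p ^ (n - i)) :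
    ∀ i, i ≤ n → Cfsg.iterCommutator N G i = Cfsg.iterCommutator N (N ⊔ G) i := by
  have hΓN : N ⊔ G ≤ Subgroup.normalizer (N : Set L) := sup_le Subgroup.le_normalizer hGN
  have hΓp : IsPGroup p (N ⊔ G : Subgroup L) := IsPGroup.to_sup_of_normal_left' hN hG hGN
  have hle : ∀ i, Cfsg.iterCommutator N G i ≤ Cfsg.iterCommutator N (N ⊔ G) i := by
    intro i
    induction i with
    | zero => exact le_refl _
    | succ i ih =>
      rw [iterCommutator_succ, iterCommutator_succ]
      exact Subgroup.commutator_mono ih le_sup_right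
  intro i hi
  apply Subgroup.eq_of_le_of_card_ge (hle i)
  rw [hcard i hi]
  exact iter_card_le hN hΓp hΓN hn i hi

/-- Under the chain condition, `N` normalizes each `K_i` and `[K_i, N] ≤ K_{i+1}`. -/
theorem iter_normal_facts [Finite L] {p : ℕ} [hp : Fact p.Prime] {N G : Subgroup L} (hN : IsPGroup p N)
    (hG : IsPGroup p G) (hGN : G ≤ Subgroup.normalizer (N : Set L)) {n : ℕ} (hn : Nat.card N = p ^ n)
    (hcard : ∀ i, i ≤ n → Nat.card (Cfsg.iterCommutator N G i) = p ^ (n - i)) :
    (∀ i, i ≤ n → N ≤ Subgroup.normalizer ((Cfsg.iterCommutator N G i : Subgroup L) : Set L)) ∧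
    (∀ i, i + 1 ≤ n → ⁅Cfsg.iterCommutator N G i, N⁆ ≤ Cfsg.iterCommutator N G (i + 1)) := by
  have hΓN : N ⊔ G ≤ Subgroup.normalizer (N : Set L) := sup_le Subgroup.le_normalizer hGN
  have heq := iter_eq_iter_sup hN hG hGN hn hcard
  constructor
  · intro i hi
    rw [heq i hi]
    exact le_sup_left.trans (iter_facts hΓN i).2.1
  · intro i hi
    rw [heq i (by omega), heq (i + 1) hi, iterCommutator_succ]
    exact Subgroup.commutator_mono (le_refl _) le_sup_left

/-- Under the chain condition every `G`-invariant subgroup of `N` is a term of the chain. -/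
theorem iter_invariant_eq [Finite L] {p : ℕ} [hp : Fact p.Prime] {N G : Subgroup L} (hN : IsPGroup p N)
    (hG : IsPGroup p G) (hGN : G ≤ Subgroup.normalizer (N : Set L)) {n : ℕ} (hn : Nat.card N = p ^ n)
    (hcard : ∀ i, i ≤ n → Nat.card (Cfsg.iterCommutator N G i) = p ^ (n - i))
    (H : Subgroup L) (hHN : H ≤ N) (hGH : G ≤ Subgroup.normalizer (H : Set L)) :
    ∃ i, i ≤ n ∧ H = Cfsg.iterCommutator N G i := by
  classical
  obtain ⟨hnorm, hcomm⟩ := iter_normal_facts hN hG hGN hn hcard
  have hanti := iter_antitone (N := N) (G := G) hGN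
  have hKn : Cfsg.iterCommutator N G n = ⊥ := by
    have := hcard n le_rfl
    rw [Nat.sub_self, pow_zero] at this
    exact Subgroup.card_eq_one.mp this
  by_cases hbot : H = ⊥
  · exact ⟨n, le_rfl, by rw [hbot, hKn]⟩
  -- the largest i with H ≤ K_i
  obtain ⟨i, hi⟩ : ∃ i, i = Nat.findGreatest (fun i => H ≤ Cfsg.iterCommutator N G i) n := ⟨_, rfl⟩
  have hP0 : H ≤ Cfsg.iterCommutator N G 0 := hHN
  have hHi : H ≤ Cfsg.iterCommutator N G i := by
    rw [hi]
    exact Nat.findGreatest_spec (P := fun i => H ≤ Cfsg.iterCommutator N G i) (Nat.zero_le n) hP0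
  have hin : i ≤ n := by rw [hi]; exact Nat.findGreatest_le n
  have hin' : i < n := by
    apply lt_of_le_of_ne hin
    intro h
    rw [h, hKn] at hHi
    exact hbot (le_bot_iff.mp hHi)
  have hnot : ¬ H ≤ Cfsg.iterCommutator N G (i + 1) := by
    intro h
    have := Nat.le_findGreatest (P := fun i => H ≤ Cfsg.iterCommutator N G i) (show i + 1 ≤ n by omega) h
    omega
  refine ⟨i, hin, ?_⟩
  -- claim: K_i = H ⊔ K_j for all i+1 ≤ j ≤ n
  have claim : ∀ k, i + 1 + k ≤ n →
      Cfsg.iterCommutator N G i = H ⊔ Cfsg.iterCommutator N G (i + 1 + k) := by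
    intro k
    induction k with
    | zero =>
      intro _
      have hle : H ⊔ Cfsg.iterCommutator N G (i + 1) ≤ Cfsg.iterCommutator N G i :=
        sup_le hHi (iter_facts hGN i).2.2
      symm
      apply Subgroup.eq_of_le_of_card_ge hle
      -- card of the sup is a p-power > p^(n-i-1)
      have hXp : IsPGroup p (H ⊔ Cfsg.iterCommutator N G (i + 1) : Subgroup L) :=
        hN.to_le (hle.trans (iter_facts hGN i).1)
      have hlt : Cfsg.iterCommutator N G (i + 1) < H ⊔ Cfsg.iterCommutator N G (i + 1) := by
        apply lt_of_le_of_ne le_sup_right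
        intro h
        apply hnot
        rw [h]; exact le_sup_left
      have h1 := card_mul_le_of_lt hXp hlt
      rw [hcard (i + 1) (by omega)] at h1
      rw [hcard i hin]
      have h3 : n - i = (n - (i + 1)) + 1 := by omega
      rw [h3, pow_succ]
      exact h1
    | succ k ih =>
      intro hk
      have ih' := ih (by omega)
      obtain ⟨j, hj⟩ : ∃ j, j = i + 1 + k := ⟨_, rfl⟩
      have hjk : i + 1 + (k + 1) = j + 1 := by omega
      rw [hjk]
      rw [← hj] at ih'
      have hjn : j + 1 ≤ n := by omega
      -- X = H ⊔ K_{j+1}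
      have hXle : H ⊔ Cfsg.iterCommutator N G (j + 1) ≤ Cfsg.iterCommutator N G i :=
        sup_le hHi (hanti (by omega))
      apply le_antisymm _ hXle
      -- the subgroup C of elements normalizing X and with [x, G] ⊆ X
      let C : Subgroup L :=
        { carrier := {x | x ∈ Subgroup.normalizer ((H ⊔ Cfsg.iterCommutator N G (j + 1) : Subgroup L) : Set L) ∧
            ∀ g ∈ G, ⁅x, g⁆ ∈ H ⊔ Cfsg.iterCommutator N G (j + 1)}
          mul_mem' := by
            rintro x y ⟨hx1, hx2⟩ ⟨hy1, hy2⟩
            refine ⟨Subgroup.mul_mem _ hx1 hy1, ?_⟩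
            intro g hg
            have h1 : ⁅x * y, g⁆ = x * ⁅y, g⁆ * x⁻¹ * ⁅x, g⁆ := by
              simp only [commutatorElement_def]; group
            rw [h1]
            exact Subgroup.mul_mem _ ((Subgroup.mem_normalizer_iff.mp hx1 _).mp (hy2 g hg)) (hx2 g hg)
          one_mem' := by
            refine ⟨Subgroup.one_mem _, ?_⟩
            intro g _
            have : ⁅(1 : L), g⁆ = 1 := by simp [commutatorElement_def]
            rw [this]; exact Subgroup.one_mem _
          inv_mem' := by
            rintro x ⟨hx1, hx2⟩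
            have hx1' := Subgroup.inv_mem _ hx1
            refine ⟨hx1', ?_⟩
            intro g hg
            have h1 : ⁅x⁻¹, g⁆ = x⁻¹ * (⁅x, g⁆)⁻¹ * x⁻¹⁻¹ := by
              simp only [commutatorElement_def]; group
            rw [h1]
            exact (Subgroup.mem_normalizer_iff.mp hx1' _).mp (Subgroup.inv_mem _ (hx2 g hg)) }
      have hHC : H ≤ C := by
        intro h hh
        refine ⟨?_, ?_⟩
        · apply mem_normalizer_of_conj_mem
          apply conj_mem_of_sup
          · intro x hx
            exact Subgroup.mem_sup_left (H.mul_mem (H.mul_mem hh hx) (H.inv_mem hh))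
          · intro x hx
            apply Subgroup.mem_sup_right
            exact (Subgroup.mem_normalizer_iff.mp (hnorm (j + 1) hjn (hHN hh)) x).mp hx
        · intro g hg
          apply Subgroup.mem_sup_left
          exact commutator_le_of_le_normalizer hGH (Subgroup.commutator_mem_commutator hh hg)
      have hKC : Cfsg.iterCommutator N G j ≤ C := by
        intro k hk
        have hkN : k ∈ N := (iter_facts hGN j).1 hk
        refine ⟨?_, ?_⟩
        · apply mem_normalizer_of_conj_mem
          apply conj_mem_of_sup
          · intro x hx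
            have h1 : k * x * k⁻¹ = ⁅k, x⁆ * x := by
              simp only [commutatorElement_def]; group
            rw [h1]
            apply Subgroup.mul_mem _ (Subgroup.mem_sup_right _) (Subgroup.mem_sup_left hx)
            exact hcomm j hjn (Subgroup.commutator_mem_commutator hk (hHN hx))
          · intro x hx
            apply Subgroup.mem_sup_right
            exact (Subgroup.mem_normalizer_iff.mp (hnorm (j + 1) hjn hkN) x).mp hx
        · intro g hg
          apply Subgroup.mem_sup_right
          rw [iterCommutator_succ]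
          exact Subgroup.commutator_mem_commutator hk hg
      have hsupC : H ⊔ Cfsg.iterCommutator N G j ≤ C := sup_le hHC hKC
      have hK1 : Cfsg.iterCommutator N G (i + 1) ≤ H ⊔ Cfsg.iterCommutator N G (j + 1) := by
        rw [iterCommutator_succ, ih', Subgroup.commutator_le]
        intro x hx g hg
        exact (hsupC hx).2 g hg
      rw [ih']
      apply sup_le le_sup_left
      exact (hanti (show i + 1 ≤ j by omega)).trans hK1
  have := claim (n - (i + 1)) (by omega)
  have h2 : i + 1 + (n - (i + 1)) = n := by omega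
  rw [h2, hKn, sup_bot_eq] at this
  exact this.symm

end uniserial3

end Cfsg.Agent.Helper11
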