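import Cfsg.Agent.Helper76.XS1
import Cfsg.Agent.Helper85.KLDefs
import Cfsg.Agent.Helper88.FusionStrongInv
set_option autoImplicit false

/-!
Piece (XA) of board post #6637 (helper85, S5141): maps between `T`-centric subgroups extend to the product with
`C_S(T)`, with range the product of the image with `C_S(T)`; and a good extension has that range too.
-/

namespace Cfsg.Agent.Helper11.XA

open Cfsg Cfsg.FusionSystem Cfsg.Agent.Helper87 Cfsg.Agent.Helper85.KL Cfsg.Agent.Helper85.XT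

variable {Ω : Type*} [Group Ω] {S T : Subgroup Ω}

/-- `C_S(T)` is contained in the extender of any map with source `P ≤ T`, and so is `P`. -/
theorem sup_le_extender (F : FusionSystem S) {P : Subgroup Ω} (hPT : P ≤ T) (χ : P →* Ω) (hχ : χ ∈ F.Hom P) :
    P ⊔ centralizerIn S T ≤ extender S P χ := by
  have hPS : P ≤ S := (F.le_of_mem hχ).1
  refine sup_le ?_ ?_
  · intro g hg
    rw [mem_extender_iff]
    refine ⟨hPS hg, Subgroup.le_normalizer hg, χ ⟨g, hg⟩, (F.le_of_mem hχ).2 _, fun x hx => ?_⟩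
    have : (⟨g * (x : Ω) * g⁻¹, hx⟩ : P) = ⟨g, hg⟩ * x * ⟨g, hg⟩⁻¹ := rfl
    rw [this, map_mul, map_mul, map_inv]
  · intro g hg
    rw [mem_extender_iff]
    have hgc : g ∈ Subgroup.centralizer (P : Set Ω) :=
      Subgroup.centralizer_le (fun x hx => hPT hx) (Subgroup.mem_inf.mp hg).2
    refine ⟨(Subgroup.mem_inf.mp hg).1, Subgroup.centralizer_le_normalizer _ hgc, 1, S.one_mem, fun x hx => ?_⟩
    have : (⟨g * (x : Ω) * g⁻¹, hx⟩ : P) = x := by
      apply Subtype.ext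
      show g * (x : Ω) * g⁻¹ = x
      rw [Subgroup.mem_centralizer_iff] at hgc
      rw [← hgc x x.2, mul_inv_cancel_right]
    rw [this, one_mul, inv_one, mul_one]

/-- A map from a `T`-centric subgroup onto a receptive subgroup extends to the product with `C_S(T)`, with range the
product of the image with `C_S(T)`. -/
theorem exists_extension_of_receptive [Finite S] (p : ℕ) [Fact p.Prime] (hS : IsPGroup p S) (F : FusionSystem S)
    (hF : F.IsSaturated p) (hT : F.StronglyClosed T) {P : Subgroup Ω} (hP : TCentric F T P)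
    (χ : P →* Ω) (hχ : χ ∈ F.Hom P) (hrec : F.IsReceptive χ.range) :
    ∃ ψ ∈ F.Hom (P ⊔ centralizerIn S T), (∀ x : P, ψ (Subgroup.inclusion le_sup_left x) = χ x) ∧
      ψ.range = χ.range ⊔ centralizerIn S T := by
  have hTS : T ≤ S := hT.1
  have hPT : P ≤ T := hP.1
  have hQT : χ.range ≤ T := by
    rintro _ ⟨x, rfl⟩
    exact hT.2 P hPT χ hχ x
  have hQc : centralizerIn T χ.range ≤ χ.range := hP.2 _ ⟨χ, hχ, rfl⟩
  have hCS : centralizerIn S T ≤ S := inf_le_left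
  have hfinC : Finite ↥(centralizerIn S T) := finite_of_le hCS
  obtain ⟨ψ₀, hψ₀, hψ₀x⟩ := hrec.2 P χ hχ rfl
  have hext := sup_le_extender (T := T) F hPT χ hχ
  have hψ : ψ₀.comp (Subgroup.inclusion hext) ∈ F.Hom (P ⊔ centralizerIn S T) :=
    Cfsg.Agent.Helper87.restrict_mem F hψ₀ hext
  set ψ : ↥(P ⊔ centralizerIn S T) →* Ω := ψ₀.comp (Subgroup.inclusion hext) with hψdef
  have hψx : ∀ x : P, ψ (Subgroup.inclusion le_sup_left x) = χ x := fun x => hψ₀x x x.2 _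
  have hcomm : ∀ a ∈ P, ∀ c ∈ centralizerIn S T, a * c = c * a := fun a ha c hc =>
    Cfsg.Agent.Helper76.XS1.commute_of_mem_centralizerIn (hPT ha) hc
  -- `ψ` maps `C_S(T)` into `χ(P) C_S(T)`
  have hψC : ∀ (c : Ω) (hc : c ∈ centralizerIn S T),
      ψ ⟨c, (le_sup_right : centralizerIn S T ≤ P ⊔ centralizerIn S T) hc⟩ ∈ χ.range ⊔ centralizerIn S T := by
    intro c hc
    have hcU := Cfsg.Agent.Helper76.XS1.map_mem_sup_centralizer p hS F hF hT hPT ψ hψ
      ⟨c, (le_sup_right : centralizerIn S T ≤ P ⊔ centralizerIn S T) hc⟩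
    have hcen : ψ ⟨c, (le_sup_right : centralizerIn S T ≤ P ⊔ centralizerIn S T) hc⟩ ∈
        Subgroup.centralizer (χ.range : Set Ω) := by
      rw [Subgroup.mem_centralizer_iff]
      rintro _ ⟨x, rfl⟩
      rw [← hψx x, ← map_mul, ← map_mul]
      congr 1
      apply Subtype.ext
      exact hcomm x x.2 c hc
    obtain ⟨z, hz, -, c', hc', he⟩ := Cfsg.Agent.Helper76.XS1.exists_mul_of_centralizes hQT hTS hQc hcU hcen
    rw [he]
    exact Subgroup.mul_mem_sup hz hc'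
  have hψmem : ∀ y : ↥(P ⊔ centralizerIn S T), ψ y ∈ χ.range ⊔ centralizerIn S T := by
    intro y
    obtain ⟨a, ha, c, hc, hy⟩ := Cfsg.Agent.Helper76.XS1.exists_mul_of_mem_sup_of_commute hcomm y.2
    have hy' : y = Subgroup.inclusion le_sup_left ⟨a, ha⟩ *
        ⟨c, (le_sup_right : centralizerIn S T ≤ P ⊔ centralizerIn S T) hc⟩ := Subtype.ext hy
    rw [hy', map_mul, hψx]
    exact Subgroup.mul_mem _ (le_sup_left (a := χ.range) ⟨_, rfl⟩) (hψC c hc)
  refine ⟨ψ, hψ, hψx, le_antisymm ?_ (sup_le ?_ ?_)⟩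
  · rintro _ ⟨y, rfl⟩
    exact hψmem y
  · rintro _ ⟨x, rfl⟩
    exact ⟨_, hψx x⟩
  · -- `C_S(T) ≤ ψ(P C_S(T))`
    have hV : P ⊔ centralizerIn S T ⊔ T = T ⊔ centralizerIn S T :=
      le_antisymm (sup_le (sup_le (hPT.trans le_sup_left) le_sup_right) le_sup_left)
        (sup_le le_sup_right (le_sup_right.trans le_sup_left))
    obtain ⟨ψ', hψ', hψ'x⟩ := exists_extension_mod hS F hF hT hψ
    obtain ⟨-, -, hψ'C⟩ := Cfsg.Agent.Helper76.XS1.hom_sup_centralizer_aux F hT _ hV ψ' hψ'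
    have hCV : centralizerIn S T ≤ P ⊔ centralizerIn S T ⊔ T := le_sup_right.trans le_sup_left
    have hinj' : Function.Injective ψ' := F.injective_of_mem hψ'
    let f : ↥(centralizerIn S T) → ↥(centralizerIn S T) := fun c => ⟨ψ' ⟨c, hCV c.2⟩, hψ'C _ c.2⟩
    have hf : Function.Injective f := by
      intro a b hab
      have h1 : ψ' ⟨a, hCV a.2⟩ = ψ' ⟨b, hCV b.2⟩ := congrArg Subtype.val hab
      have h2 := hinj' h1
      have h3 : (a : Ω) = (b : Ω) := congrArg (fun w : ↥(P ⊔ centralizerIn S T ⊔ T) => (w : Ω)) h2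
      exact Subtype.ext h3
    have hfs : Function.Surjective f := Finite.surjective_of_injective hf
    intro c hc
    obtain ⟨c₀, hc₀⟩ := hfs ⟨c, hc⟩
    have hc₀' : ψ' ⟨c₀, hCV c₀.2⟩ = c := congrArg Subtype.val hc₀
    have ht := hψ'x ⟨c₀, (le_sup_right : centralizerIn S T ≤ P ⊔ centralizerIn S T) c₀.2⟩
    have e1 : Subgroup.inclusion (le_sup_left : P ⊔ centralizerIn S T ≤ P ⊔ centralizerIn S T ⊔ T)
        ⟨c₀, (le_sup_right : centralizerIn S T ≤ P ⊔ centralizerIn S T) c₀.2⟩ = ⟨c₀, hCV c₀.2⟩ := rfl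
    rw [e1, hc₀'] at ht
    have ht2 : (ψ ⟨c₀, (le_sup_right : centralizerIn S T ≤ P ⊔ centralizerIn S T) c₀.2⟩)⁻¹ * c ∈
        χ.range ⊔ centralizerIn S T :=
      Subgroup.mul_mem _ (Subgroup.inv_mem _ (hψC c₀ c₀.2)) (le_sup_right (a := χ.range) hc)
    have ht3 := Cfsg.Agent.Helper76.XS1.mem_of_mem_sup_of_mem hQT hTS hQc ht2 ht
    obtain ⟨x, hx⟩ := ht3
    refine ⟨⟨c₀, (le_sup_right : centralizerIn S T ≤ P ⊔ centralizerIn S T) c₀.2⟩ *
      Subgroup.inclusion le_sup_left x, ?_⟩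
    rw [map_mul, hψx, hx, mul_inv_cancel_left]

/-- (XA), first part. -/
theorem exists_extension_sup [Finite S] (p : ℕ) [Fact p.Prime] (hS : IsPGroup p S) (F : FusionSystem S)
    (hF : F.IsSaturated p) (hT : F.StronglyClosed T) {P : Subgroup Ω} (hP : TCentric F T P)
    (φ : P →* Ω) (hφ : φ ∈ F.Hom P) :
    ∃ ψ ∈ F.Hom (P ⊔ centralizerIn S T), (∀ x : P, ψ (Subgroup.inclusion le_sup_left x) = φ x) ∧
      ψ.range = φ.range ⊔ centralizerIn S T := by
  have hTS : T ≤ S := hT.1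
  have hPT : P ≤ T := hP.1
  have hPS : P ≤ S := hPT.trans hTS
  obtain ⟨Pst, ⟨χ, hχ, hχr⟩, -, hrec⟩ := hF P hPS
  subst hχr
  obtain ⟨χh, hχh, hχhx, hχhr⟩ := exists_extension_of_receptive p hS F hF hT hP χ hχ hrec
  -- `Q = φ(P)` is `T`-centric
  have hQ : TCentric F T φ.range := by
    refine ⟨?_, fun R hR => hP.2 R (isConj_trans F ⟨φ, hφ, rfl⟩ hR)⟩
    rintro _ ⟨x, rfl⟩
    exact hT.2 P hPT φ hφ x
  obtain ⟨φi, hφi, hφix⟩ := F.inv_mem hφ
  have hφiP : ∀ q : φ.range, φi q ∈ P := by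
    rintro ⟨_, x, rfl⟩
    rw [hφix]
    exact x.2
  have hω : χ.comp (φi.codRestrict P hφiP) ∈ F.Hom φ.range := F.comp_mem hφi hχ hφiP
  set ω : φ.range →* Ω := χ.comp (φi.codRestrict P hφiP) with hωdef
  have hωx : ∀ x : P, ω ⟨φ x, ⟨x, rfl⟩⟩ = χ x := by
    intro x
    show χ _ = χ x
    congr 1
    exact Subtype.ext (hφix x)
  have hωr : ω.range = χ.range := by
    ext z
    constructor
    · rintro ⟨q, rfl⟩
      exact ⟨_, rfl⟩
    · rintro ⟨x, rfl⟩
      exact ⟨_, hωx x⟩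
  have hrecω : F.IsReceptive ω.range := by rw [hωr]; exact hrec
  obtain ⟨ωh, hωh, hωhx, hωhr⟩ := exists_extension_of_receptive p hS F hF hT hQ ω hω hrecω
  have hrange_eq : χh.range = ωh.range := by rw [hχhr, hωhr, hωr]
  obtain ⟨ρ, hρ, hρx⟩ := F.inv_mem hωh
  have hχhmem : ∀ y : ↥(P ⊔ centralizerIn S T), χh y ∈ ωh.range := fun y => hrange_eq ▸ ⟨y, rfl⟩
  have hψ : ρ.comp (χh.codRestrict ωh.range hχhmem) ∈ F.Hom (P ⊔ centralizerIn S T) :=
    F.comp_mem hχh hρ hχhmem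
  have hkey : ∀ (y : ↥(P ⊔ centralizerIn S T)) (y' : ↥(φ.range ⊔ centralizerIn S T)), χh y = ωh y' →
      ρ.comp (χh.codRestrict ωh.range hχhmem) y = y' := by
    intro y y' h
    show ρ ⟨χh y, hχhmem y⟩ = y'
    have : (⟨χh y, hχhmem y⟩ : ωh.range) = ⟨ωh y', ⟨y', rfl⟩⟩ := Subtype.ext h
    rw [this, hρx]
  refine ⟨_, hψ, fun x => ?_, ?_⟩
  · have h1 : χh (Subgroup.inclusion le_sup_left x) =
        ωh (Subgroup.inclusion le_sup_left ⟨φ x, ⟨x, rfl⟩⟩) := by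
      rw [hχhx, hωhx, hωx]
    rw [hkey _ _ h1]
    rfl
  · ext z
    constructor
    · rintro ⟨y, rfl⟩
      obtain ⟨y', hy'⟩ := hχhmem y
      rw [hkey y y' hy'.symm]
      exact y'.2
    · intro hz
      have h1 : ωh ⟨z, hz⟩ ∈ χh.range := by rw [hrange_eq]; exact ⟨_, rfl⟩
      obtain ⟨y, hy⟩ := h1
      exact ⟨y, hkey y ⟨z, hz⟩ hy⟩

/-- (XA), second part: for `T`-centric `P` a good extension of `φ` maps `P C_S(T)` onto `φ(P) C_S(T)`. -/
theorem range_of_goodExt [Finite S] (p : ℕ) [Fact p.Prime] (hS : IsPGroup p S) (F : FusionSystem S)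
    (hF : F.IsSaturated p) (hT : F.StronglyClosed T) {P : Subgroup Ω} (hP : TCentric F T P)
    (φ : P →* Ω) (ψ : ↥(P ⊔ centralizerIn S T) →* Ω) (hψ : ψ ∈ F.Hom (P ⊔ centralizerIn S T))
    (hψφ : ∀ x : P, ψ (Subgroup.inclusion le_sup_left x) = φ x)
    (hψc : ∀ c : ↥(P ⊔ centralizerIn S T), (c : Ω) ∈ centralizerIn S T → (c : Ω)⁻¹ * ψ c ∈ T) :
    ψ.range = φ.range ⊔ centralizerIn S T := by
  have hTS : T ≤ S := hT.1
  have hPT : P ≤ T := hP.1
  have hφ : φ ∈ F.Hom P :=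
    mem_of_eq F (Cfsg.Agent.Helper87.restrict_mem F hψ le_sup_left) (fun x => (hψφ x).symm)
  have hQT : φ.range ≤ T := by
    rintro _ ⟨x, rfl⟩
    exact hT.2 P hPT φ hφ x
  have hQc : centralizerIn T φ.range ≤ φ.range := hP.2 _ ⟨φ, hφ, rfl⟩
  have hcomm : ∀ a ∈ P, ∀ c ∈ centralizerIn S T, a * c = c * a := fun a ha c hc =>
    Cfsg.Agent.Helper76.XS1.commute_of_mem_centralizerIn (hPT ha) hc
  obtain ⟨ψ₁, hψ₁, -, hψ₁r⟩ := exists_extension_sup p hS F hF hT hP φ hφ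
  have hQCS : φ.range ⊔ centralizerIn S T ≤ S := sup_le (hQT.trans hTS) inf_le_left
  have hfin : Finite ↥(φ.range ⊔ centralizerIn S T) := finite_of_le hQCS
  have hle : ψ.range ≤ φ.range ⊔ centralizerIn S T := by
    rintro _ ⟨y, rfl⟩
    obtain ⟨a, ha, c, hc, hy⟩ := Cfsg.Agent.Helper76.XS1.exists_mul_of_mem_sup_of_commute hcomm y.2
    have hy' : y = Subgroup.inclusion le_sup_left ⟨a, ha⟩ *
        ⟨c, (le_sup_right : centralizerIn S T ≤ P ⊔ centralizerIn S T) hc⟩ := Subtype.ext hy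
    rw [hy', map_mul, hψφ]
    refine Subgroup.mul_mem _ (le_sup_left (a := φ.range) ⟨_, rfl⟩) ?_
    have ht := hψc ⟨c, (le_sup_right : centralizerIn S T ≤ P ⊔ centralizerIn S T) hc⟩ hc
    -- `t = c⁻¹ ψ(c)` centralizes `φ(P)`
    have htc : c⁻¹ * ψ ⟨c, (le_sup_right : centralizerIn S T ≤ P ⊔ centralizerIn S T) hc⟩ ∈
        Subgroup.centralizer (φ.range : Set Ω) := by
      rw [Subgroup.mem_centralizer_iff]
      rintro _ ⟨x, rfl⟩
      have h1 : φ x * ψ ⟨c, (le_sup_right : centralizerIn S T ≤ P ⊔ centralizerIn S T) hc⟩ =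
          ψ ⟨c, (le_sup_right : centralizerIn S T ≤ P ⊔ centralizerIn S T) hc⟩ * φ x := by
        rw [← hψφ x, ← map_mul, ← map_mul]
        congr 1
        apply Subtype.ext
        exact hcomm x x.2 c hc
      have h2 : φ x * c = c * φ x :=
        Cfsg.Agent.Helper76.XS1.commute_of_mem_centralizerIn (hQT ⟨x, rfl⟩) hc
      have h3 : φ x * c⁻¹ = c⁻¹ * φ x := by
        rw [eq_inv_mul_iff_mul_eq, ← mul_assoc, ← h2, mul_inv_cancel_right]
      rw [← mul_assoc, h3, mul_assoc, h1, mul_assoc]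
    have htQ : c⁻¹ * ψ ⟨c, (le_sup_right : centralizerIn S T ≤ P ⊔ centralizerIn S T) hc⟩ ∈ φ.range :=
      hQc (Subgroup.mem_inf.mpr ⟨ht, htc⟩)
    have : ψ ⟨c, (le_sup_right : centralizerIn S T ≤ P ⊔ centralizerIn S T) hc⟩ =
        c * (c⁻¹ * ψ ⟨c, (le_sup_right : centralizerIn S T ≤ P ⊔ centralizerIn S T) hc⟩) := by
      rw [mul_inv_cancel_left]
    rw [this]
    exact Subgroup.mul_mem _ (le_sup_right (a := φ.range) hc) (le_sup_left (a := φ.range) htQ)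
  apply Subgroup.eq_of_le_of_card_ge hle
  have h1 : Nat.card ψ.range = Nat.card ↥(P ⊔ centralizerIn S T) :=
    Cfsg.Agent.Helper88.FS.card_range_eq_of_mem F hψ
  have h2 : Nat.card ψ₁.range = Nat.card ↥(P ⊔ centralizerIn S T) :=
    Cfsg.Agent.Helper88.FS.card_range_eq_of_mem F hψ₁
  rw [h1, ← h2, hψ₁r]

end Cfsg.Agent.Helper11.XA
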